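import Mathlib
import Cfsg.Agent.QS.KD
import Cfsg.Agent.GT.FourGroup
import Cfsg.Agent.S1910

/-! # S1817, piece QS-Bas: pairs of conjugates (proof in stubs/Cfsg/Agent/QS/PLAN.md) -/

set_option autoImplicit false
set_option linter.unusedVariables false
set_option linter.unusedSectionVars false

namespace Cfsg.Agent.QS

open Cfsg Subgroup Cfsg.Agent.GT Cfsg.Agent.Inv Cfsg.Agent.Cmp Cfsg.Agent.QE Cfsg.Agent.QF
open scoped commutatorElement

universe u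

variable {G : Type u} [Group G] [Finite G] {T A B R R' U Z D : Subgroup G} {z y r a x : G} {p : ℕ}

theorem St.conj (h : St T A z) (g : G) : St (T ^ᶜ g) (A ^ᶜ g) (g * z * g⁻¹) := by
  refine ⟨h.toCt.conj g, ⟨h.std.1.map_of_injective (MulAut.conj g).injective, ?_, fun x hx => ?_, ?_⟩, ?_⟩
  · rw [centralizer_map_conj]
    exact S1910.te_conj h.std.2.1 g
  · have e : (A ^ᶜ g) ^ᶜ x = (A ^ᶜ (g⁻¹ * x * g)) ^ᶜ g := by
      rw [map_conj_map_conj, map_conj_map_conj, show g * (g⁻¹ * x * g) = x * g by group]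
    rw [e] at hx ⊢
    rw [← map_conj_commutator, Ne, map_conj_eq_bot_iff]
    exact h.std.2.2.1 _ fun k => hx (by rw [k])
  · rw [centralizer_map_conj, normalizer_map_conj, normalizer_map_conj, h.std.2.2.2]
  · rw [NN, normalizer_map_conj]
    exact map_mono h.nT

theorem Pr.symm (h : Pr A B) : Pr B A := by
  obtain ⟨⟨T, z, h1⟩, ⟨g, rfl⟩, h3⟩ := h
  exact ⟨⟨_, _, h1.conj g⟩, ⟨g⁻¹, (map_conj_inv_map_conj A g).symm⟩, h3.symm⟩

theorem Pr.sdB (h : Pr A B) : ∃ T z, St T B z := by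
  exact h.symm.sd

theorem Pr.of_conj (h : ∃ T z, St T A z) {n : G} (hn : n ∉ NN A) : Pr A (A ^ᶜ n) := by
  exact ⟨h, ⟨n, rfl⟩, fun e => hn (map_conj_eq_self_iff.1 e)⟩

theorem St.nn_of (h : St T A z) {t n : G} (ht : t ∈ CC A) (t2 : orderOf t = 2)
    (hn : n * t * n⁻¹ ∈ CC A) : n ∈ NN A := by
  rw [NN, h.std.2.2.2]
  exact h.std.2.1.mem_normalizer ((orderOf_conj' n t).trans t2) hn
    (by rwa [show n⁻¹ * (n * t * n⁻¹) * n = t by group])

theorem St.cen (h : St T A z) {t : G} (ht : t ∈ CC A) (t2 : orderOf t = 2) : C1 t ≤ NN A := by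
  exact fun n hn => h.nn_of ht t2 (by rwa [conj_eq_of_comm (mem_C1.1 hn)])

theorem St.nnR (h : St T A z) (hR : R ≤ CC A) (h2 : IsPGroup 2 R) (hb : R ≠ ⊥) : NN R ≤ NN A := by
  obtain ⟨t, ht, t2⟩ := exists_inv_of_ne_bot h2 hb
  exact fun n hn => h.nn_of (hR ht) t2 (hR (conj_mem_of_mem_normalizer hn ht))

theorem St.odd_idx (h : St T A z) : ¬ 2 ∣ (NN A).index := by
  exact fun e => h.syl.idx (by rw [relIndex_top_right]; exact e.trans (index_dvd_of_le h.nT))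

theorem St.syl_top (h : St T A z) (hD : Syl D (NN A)) : Syl D ⊤ := by
  refine ⟨le_top, hD.two, fun e => ?_⟩
  rw [relIndex_top_right, ← relIndex_mul_index hD.le] at e
  exact ((Nat.Prime.dvd_mul Nat.prime_two).1 e).elim hD.idx h.odd_idx

theorem St.exists_syl (h : St T A z) (hD : D ≤ NN A) (h2 : IsPGroup 2 D) :
    ∃ S, D ≤ S ∧ Syl S (NN A) ∧ Syl S ⊤ ∧ Syl (S ⊓ A) A ∧ Syl (S ⊓ CC A) (CC A) := by
  obtain ⟨S, h1, h3⟩ := exists_syl_ge h2 hD
  exact ⟨S, h1, h3, h.syl_top h3, h3.inf le_normalizer le_rfl, h3.inf (CC_le_NN A) h.std.2.2.2.le⟩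

theorem Pr.two (h : Pr A B) (hA : x ∈ CC A) (hB : x ∈ CC B) (h2 : Two x) : x = 1 := by
  by_contra h1
  obtain ⟨n, hn⟩ := h2.exists_inv h1
  obtain ⟨⟨T, z, s⟩, ⟨g, rfl⟩, h3⟩ := h
  rw [CC, centralizer_map_conj] at hB
  refine h3 (map_conj_eq_self_iff.2 ?_)
  rw [s.std.2.2.2]
  exact s.std.2.1.mem_normalizer hn (pow_mem hA n) (mem_map_conj.1 (pow_mem hB n))

theorem Pr.eq_of (h : ∃ T z, St T A z) {C : Subgroup G} (hB : ∃ g, B = A ^ᶜ g) (hC : ∃ g, C = A ^ᶜ g)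
    (hxB : x ∈ CC B) (hxC : x ∈ CC C) (h2 : orderOf x = 2) : B = C := by
  obtain ⟨T, z, s⟩ := h
  obtain ⟨g, rfl⟩ := hB
  obtain ⟨k, rfl⟩ := hC
  by_contra h1
  have h3 : Pr (A ^ᶜ g) (A ^ᶜ k) :=
    ⟨⟨_, _, s.conj g⟩, ⟨k * g⁻¹, by rw [map_conj_map_conj, inv_mul_cancel_right]⟩, Ne.symm h1⟩
  rw [h3.two hxB hxC (Two.of_two h2), orderOf_one] at h2
  omega

theorem FG.conj (f : FG p A) (g : G) : FG p (A ^ᶜ g) := by
  refine ⟨by rw [CC, centralizer_map_conj, ← map_conj_inf, map_conj_eq_bot_iff]; exact f.zen,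
    fun t ht t2 x hx hp => mem_map_conj.2 ?_⟩
  rw [CC, centralizer_map_conj, mem_map_conj] at ht
  refine f.gd _ ht ((orderOf_conj_inv g t).trans t2) _ (by simpa using comm_conj g⁻¹ hx) ?_
  have := conj_pow (a := g⁻¹) (b := x) (i := p)
  rwa [hp, inv_inv, mul_one, inv_mul_cancel] at this

theorem FG.of_pr (f : FG p A) (h : Pr A B) : FG p B := by
  obtain ⟨g, rfl⟩ := h.cj
  exact f.conj g

theorem YY_comm : YY p A B = YY p B A := by
  unfold YY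
  simp only [and_left_comm]

theorem YG_le : YG p A x ≤ A ⊓ C1 x := by
  exact (closure_le _).2 fun l hl => mem_inf.2 ⟨hl.1, mem_C1.2 hl.2.1⟩

theorem YY_le : YY p A B ≤ A ⊓ B := by
  exact (closure_le _).2 fun l hl => mem_inf.2 ⟨hl.1, hl.2.1⟩

theorem YG_congr (h : x * y⁻¹ ∈ CC A) : YG p A x = YG p A y := by
  unfold YG
  congr 1
  ext l
  refine and_congr_right fun hl => and_congr_left fun _ => ⟨fun k => ?_, fun k => ?_⟩
  · simpa [mul_assoc] using (comm_of_CC h hl).inv_right.mul_right k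
  · simpa using (comm_of_CC h hl).mul_right k

theorem Pr.yg (h : Pr A B) (f : FG p A) (hr : r ∈ CC B) (r2 : orderOf r = 2) : YG p A r = YY p A B := by
  unfold YG YY
  congr 1
  ext l
  exact and_congr_right fun hl =>
    ⟨fun k => ⟨(f.of_pr h).gd r hr r2 l k.1 k.2, k.2⟩, fun k => ⟨comm_of_CC hr k.1, k.2⟩⟩

theorem Ip.rN (h : Ip A B y r) : r ∈ NN A := by
  simpa using mul_mem (CC_le_NN A h.ry) (le_normalizer h.yA)

theorem Ip.inn (h : Ip A B y r) : In A r := by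
  exact ⟨y, h.yA, h.ry⟩

theorem Ip.ord (h : Ip A B y r) (hz : A ⊓ CC A = ⊥) : orderOf r = 2 := by
  refine orderOf_two_of h.r2 fun e => ?_
  have h1 := h.ry
  have h2 := h.y2
  rw [e, one_mul, inv_mem_iff] at h1
  rw [mem_bot.1 (hz.le (mem_inf.2 ⟨h.yA, h1⟩)), orderOf_one] at h2
  omega

theorem Pr.ip (h : Pr A B) (hz : A ⊓ CC A = ⊥) (hr : r ∈ CC B) (r2 : orderOf r = 2) (hy : y ∈ A)
    (hi : r * y⁻¹ ∈ CC A) : Ip A B y r := by
  have h1 := mul_self_of_two r2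
  have h2 : r * y⁻¹ * (r * y⁻¹) * (y * y) = 1 := by
    calc _ = r * y⁻¹ * (r * y⁻¹ * y) * y := by group
      _ = r * r := by rw [← (comm_of_CC hi hy).eq]; group
      _ = 1 := h1
  have h3 : y * y ∈ CC A := (mul_mem_cancel_left (mul_mem hi hi)).1 (h2 ▸ one_mem _)
  refine ⟨h, hy, orderOf_two_of (mem_bot.1 (hz.le (mem_inf.2 ⟨mul_mem hy hy, h3⟩))) fun e => ?_, h1, hr, hi⟩
  rw [e, inv_one, mul_one] at hi
  rw [h.two hi hr (Two.of_two r2), orderOf_one] at r2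
  omega

end Cfsg.Agent.QS
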