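import Mathlib
import Cfsg.Agent.QS.KD
import Cfsg.Agent.QS.Bas
import Cfsg.Agent.S1910
import Cfsg.Agent.Cmp.FullA

/-! # S1817, piece QS-Frm: the frame (proof in stubs/Cfsg/Agent/QS/PLAN.md) -/

set_option autoImplicit false
set_option linter.unusedVariables false

namespace Cfsg.Agent.QS

open Cfsg Subgroup Cfsg.Agent.GT Cfsg.Agent.Inv Cfsg.Agent.Cmp Cfsg.Agent.QE Cfsg.Agent.QF
open scoped commutatorElement

universe u

variable {G : Type u} [Group G] [Finite G] {T A B R R' U Z D : Subgroup G} {z y r a x : G} {p : ℕ}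

theorem Frm_inf {A X Y : Subgroup G} (hX : A ≤ NN X) (hY : A ≤ NN Y) : A ≤ NN (X ⊓ Y) :=
  fun _ ha => inf_normalizer_le_normalizer_inf ⟨hX ha, hY ha⟩

theorem Frm_NC (A : Subgroup G) : NN A ≤ NN (CC A) := fun g hg => map_conj_eq_self_iff.1 (by
  rw [CC, ← centralizer_map_conj, map_conj_eq_of_mem_norm hg])

theorem Pr.fr (h : Pr A B) (sR' : Syl R' (CC B ⊓ NN A)) (hb : R' ≠ ⊥) (sR : Syl R (CC A))
    (hn : R' ≤ NN R) : Fr A B R R' := by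
  obtain ⟨T, z, st⟩ := h.sd
  obtain ⟨g, hg⟩ := h.cj
  have e0 : NN A = NN (CC A) := st.std.2.2.2
  have e1 : CC B = CC A ^ᶜ g := by rw [hg, CC, centralizer_map_conj]
  have hg' : g ∉ NN (CC A) := fun k => h.ne (hg.trans (map_conj_eq_of_mem_norm (e0 ▸ k : g ∈ NN A)))
  have s1 := sR'
  rw [e1, e0] at s1
  have s2 := sR.sup_right sR'.two (s1.le.trans inf_le_right) hn
  obtain ⟨-, -, h3, -, h4⟩ := S1910.result (CC A) st.std.2.1 g hg' R' hb s1.le ⟨s1.two, s1.idx⟩ (R ⊔ R')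
    le_sup_right s2.le ⟨s2.two, s2.idx⟩
  have e2 : (R ⊔ R') ⊓ NN R' ⊓ CC A = R ⊓ NN R' := by
    rw [inf_right_comm]
    congr 1
    exact le_antisymm (fun a ha => sR.mem_of_mem s2.two le_sup_left ha.2 ha.1) (le_inf le_sup_left sR.le)
  rw [e2] at h3 h4
  have h5 : R ⊓ NN R' ≤ CC R' := le_centralizer_iff.1 (commutator_eq_bot_iff_le_centralizer.1 h3)
  have e3 : R ⊓ CC R' = R ⊓ NN R' := le_antisymm (inf_le_inf_left _ (CC_le_NN _)) (le_inf inf_le_left h5)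
  exact ⟨h, sR, sR', hb, hn, h5, e3 ▸ h4⟩

theorem Pr.exists_fr (h : Pr A B) (sR' : Syl R' (CC B ⊓ NN A)) (hb : R' ≠ ⊥) (h2 : IsPGroup 2 D)
    (hle : R' ≤ D) (hD : D ≤ NN A) : ∃ R, Fr A B R R' ∧ D ≤ NN R ∧ D ⊓ CC A ≤ R := by
  obtain ⟨T, z, st⟩ := h.sd
  obtain ⟨S, h1, -, -, -, h3⟩ := st.exists_syl hD h2
  have h4 : D ≤ NN (S ⊓ CC A) := Frm_inf (h1.trans le_normalizer) (hD.trans (Frm_NC A))
  exact ⟨_, h.fr sR' hb h3 (hle.trans h4), h4, inf_le_inf_right _ h1⟩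

theorem Pr.exists_inv (h : Pr A B) (h2 : IsPGroup 2 D) (hD : D ≤ NN A ⊓ NN B) :
    ∃ R', Syl R' (CC B ⊓ NN A) ∧ D ≤ NN R' ∧ D ⊓ CC B ≤ R' ∧ IsPGroup 2 ↥(D ⊔ R') := by
  obtain ⟨S, h1, hS⟩ := exists_syl_ge h2 hD
  have hn : NN A ⊓ NN B ≤ NN (CC B ⊓ NN A) :=
    Frm_inf (inf_le_right.trans (Frm_NC B)) (inf_le_left.trans le_normalizer)
  exact ⟨S ⊓ (CC B ⊓ NN A), hS.inf (le_inf inf_le_right (inf_le_left.trans (CC_le_NN B))) hn,
    Frm_inf (h1.trans le_normalizer) (hD.trans hn),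
    le_inf (inf_le_left.trans h1) (inf_comm D _ ▸ inf_le_inf_left _ (hD.trans inf_le_left)),
    hS.two.to_le (sup_le h1 inf_le_left)⟩

theorem Fr.le_card (h : Fr A B R R') (hD : D ≤ CC A ⊓ NN B) (h2 : IsPGroup 2 D) :
    Nat.card D ≤ Nat.card R' := by
  obtain ⟨T, z, st⟩ := h.sd
  obtain ⟨D1, h1, s1⟩ := exists_syl_ge h2 hD
  refine (card_le_of_le h1).trans ?_
  by_cases hb : D1 = ⊥
  · rw [hb, card_bot]
    exact Nat.card_pos
  obtain ⟨R2, f, -, -⟩ := h.toPr.symm.exists_fr s1 hb s1.two le_rfl (s1.le.trans inf_le_right)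
  obtain ⟨t, ht, t2⟩ := exists_inv_of_ne_bot s1.two hb
  obtain ⟨e⟩ := f.iso
  rw [← Nat.card_congr e.toEquiv]
  exact h.sR'.card_le f.sR.two.to_inf_left (inf_le_inf f.sR.le fun x hx =>
    st.cen (s1.le ht).1 t2 (mem_C1.2 (comm_of_CC hx ht).symm))

theorem Fr.sylS (h : Fr A B R R') : Syl (R ⊓ CC R') (CC A ⊓ NN B) := by
  obtain ⟨T, z, st⟩ := h.toPr.sdB
  obtain ⟨t, ht, t2⟩ := exists_inv_of_ne_bot h.sR'.two h.nb
  obtain ⟨D1, h1, s1⟩ := exists_syl_ge (K := CC A ⊓ NN B) (h.sR.two.to_inf_left (K := CC R'))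
    (inf_le_inf h.sR.le fun x hx => st.cen (h.sR'.le ht).1 t2 (mem_C1.2 (comm_of_CC hx ht).symm))
  obtain ⟨e⟩ := h.iso
  rwa [eq_of_le_of_card_ge h1 ((h.le_card s1.le s1.two).trans (Nat.card_congr e.toEquiv).ge)]

theorem Fr.cenx (h : Fr A B R R') (hx : x ∈ R') (x2 : orderOf x = 2) : R ⊓ C1 x = R ⊓ CC R' := by
  obtain ⟨T, z, st⟩ := h.toPr.sdB
  have h1 : R ⊓ CC R' ≤ R ⊓ C1 x := inf_le_inf_left _ fun a ha => mem_C1.2 (comm_of_CC ha hx).symm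
  exact le_antisymm (h.sylS.le_of_le h.sR.two.to_inf_left h1 (inf_le_inf h.sR.le (st.cen (h.sR'.le hx).1 x2))) h1

theorem Fr.kR (h : Fr A B R R') (hz : A ⊓ CC A = ⊥) (hx : x ∈ R') (x2 : x * x = 1) (hy : y ∈ A)
    (hk : x * y⁻¹ ∈ CC A) : x * y⁻¹ ∈ R ∧ y * y = 1 := by
  have c := (comm_of_CC hk hy).eq
  have e : x * y⁻¹ * (x * y⁻¹) * (y * y) = 1 := by
    calc _ = x * y⁻¹ * (x * y⁻¹ * y) * y := by group
      _ = x * y⁻¹ * (y * (x * y⁻¹)) * y := by rw [c]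
      _ = x * x := by group
      _ = 1 := x2
  have y2 : y * y = 1 := mem_bot.1 (hz ▸ mem_inf.2 ⟨mul_mem hy hy,
    eq_inv_of_mul_eq_one_right e ▸ inv_mem (mul_mem hk hk)⟩)
  rw [y2, mul_one] at e
  have hn : x * y⁻¹ ∈ NN R :=
    mul_mem (h.nR hx) (inv_mem (CC_le_NN R (le_centralizer_iff.1 h.sR.le hy)))
  exact ⟨h.sR.mem_of_mem (h.sR.two.to_sup_of_normal_left' (Two.of_sq e).isPGroup (zpowers_le.2 hn)) le_sup_left hk
    (mem_sup_right (mem_zpowers _)), y2⟩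

theorem Fr.p2 (h : Fr A B R R') (hz : A ⊓ CC A = ⊥) (hi : ∀ x ∈ R', x * x = 1 → In A x) : R ≤ CC R' := by
  by_contra hne
  have key : ∀ x ∈ R', orderOf x = 2 → ∃ k ∈ R ⊓ CC R', orderOf k = 2 ∧ x⁻¹ * k ∈ A ∧ R ⊓ C1 k = R ⊓ CC R' := by
    intro x hx x2
    obtain ⟨y, hy, hk⟩ := hi x hx (mul_self_of_two x2)
    obtain ⟨k1, y2⟩ := h.kR hz hx (mul_self_of_two x2) hy hk
    have e : R ⊓ C1 (x * y⁻¹) = R ⊓ CC R' := by
      rw [← h.cenx hx x2]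
      ext a
      refine and_congr_right fun ha => ?_
      have c : Commute a y := (comm_of_CC (h.sR.le ha) hy).symm
      refine mem_C1.trans (Iff.trans ⟨fun k => ?_, fun k => k.mul_right c.inv_right⟩ mem_C1.symm)
      simpa using k.mul_right c
    have k2 : x * y⁻¹ * (x * y⁻¹) = 1 := by
      have c := (comm_of_CC hk hy).eq
      calc _ = x * y⁻¹ * (x * y⁻¹ * y) * y * (y * y)⁻¹ := by group
        _ = x * y⁻¹ * (y * (x * y⁻¹)) * y * (y * y)⁻¹ := by rw [c]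
        _ = x * x * (y * y)⁻¹ := by group
        _ = 1 := by rw [mul_self_of_two x2, y2, inv_one, mul_one]
    refine ⟨x * y⁻¹, e ▸ mem_inf.2 ⟨k1, mem_C1.2 (Commute.refl _)⟩, ?_, by simpa using hy, e⟩
    refine orderOf_eq_prime (by rw [sq, k2]) fun k0 => hne fun a ha => ?_
    exact (mem_inf.1 (e ▸ mem_inf.2 ⟨ha, mem_C1.2 (k0 ▸ Commute.one_right a)⟩ : a ∈ R ⊓ CC R')).2
  choose! k k1 k2 k3 k4 using key
  obtain ⟨e⟩ := h.iso
  let φ : {x : R' // orderOf x = 2} → {c : ↥(R ⊓ CC R') // orderOf c = 2} := fun x =>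
    ⟨⟨k x.1, k1 _ x.1.2 ((orderOf_coe _).trans x.2)⟩, (orderOf_coe _).symm.trans (k2 _ x.1.2 ((orderOf_coe _).trans x.2))⟩
  have inj : Function.Injective φ := by
    rintro ⟨⟨x, hx⟩, x2⟩ ⟨⟨w, hw⟩, w2⟩ q
    have q' : k x = k w := congrArg (fun c => (c.1 : G)) q
    have x2' : orderOf x = 2 := (orderOf_coe (⟨x, hx⟩ : R')).trans x2
    have w2' : orderOf w = 2 := (orderOf_coe (⟨w, hw⟩ : R')).trans w2
    refine Subtype.ext (Subtype.ext ?_)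
    by_contra n
    have a1 : x⁻¹ * w ∈ A := by
      have := mul_mem (k3 x hx x2') (inv_mem (k3 w hw w2'))
      rwa [q', show x⁻¹ * k w * (w⁻¹ * k w)⁻¹ = x⁻¹ * w by group] at this
    have a2 : x⁻¹ * w ∈ R' := mul_mem (inv_mem hx) hw
    obtain ⟨m, hm⟩ := (Two.of_mem h.sR'.two a2).exists_inv fun q => n (inv_mul_eq_one.1 q)
    have a3 := k3 _ (pow_mem a2 m) hm
    rw [mul_mem_cancel_left (inv_mem (pow_mem a1 m))] at a3
    have a4 := mem_bot.1 (hz ▸ mem_inf.2 ⟨a3, h.sR.le (k1 _ (pow_mem a2 m) hm).1⟩)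
    have a5 := k2 _ (pow_mem a2 m) hm
    rw [a4, orderOf_one] at a5
    exact absurd a5 (by norm_num)
  have sur := (Finite.injective_iff_surjective_of_equiv
    (e.symm.toEquiv.subtypeEquiv fun a => by rw [MulEquiv.toEquiv_eq_coe, MulEquiv.coe_toEquiv, MulEquiv.orderOf_eq])).1 inj
  obtain ⟨t, ht, t2⟩ := exists_inv_of_ne_bot h.sR'.two h.nb
  obtain ⟨c, c1, c2, c3⟩ := exists_inv_fixed h.sR.two le_normalizer (k1 t ht t2).1 (k2 t ht t2)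
  have c4 : c ∈ R ⊓ CC R' := k4 t ht t2 ▸ mem_inf.2 ⟨c1, mem_C1.2 (c3 _ (k1 t ht t2).1).symm⟩
  obtain ⟨⟨⟨x, hx⟩, x2⟩, q⟩ := sur ⟨⟨c, c4⟩, (orderOf_coe _).symm.trans c2⟩
  have q' : k x = c := congrArg (fun c => (c.1 : G)) q
  have := k4 x hx ((orderOf_coe (⟨x, hx⟩ : R')).trans x2)
  rw [q'] at this
  exact hne fun a ha => (mem_inf.1 (this ▸ mem_inf.2 ⟨ha, mem_C1.2 (c3 a ha)⟩ : a ∈ R ⊓ CC R')).2

theorem Fr.iso' (h : Fr A B R R') (hc : R ≤ CC R') : Nonempty (R ≃* R') := by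
  have := h.iso
  rwa [inf_eq_left.2 hc] at this

theorem Fr.sylB (h : Fr A B R R') (hc : R ≤ CC R') : Syl R' (CC B) := by
  obtain ⟨g, hg⟩ := h.cj
  have e1 : CC B = CC A ^ᶜ g := by rw [hg, CC, centralizer_map_conj]
  obtain ⟨D1, h1, s1⟩ := exists_syl_ge h.sR'.two (h.sR'.le.trans inf_le_left)
  obtain ⟨e⟩ := h.iso' hc
  have := (h.sR.conj g).card_le s1.two (e1 ▸ s1.le)
  rw [card_map_conj, Nat.card_congr e.toEquiv] at this
  rwa [eq_of_le_of_card_ge h1 this]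

theorem Fr.symm (h : Fr A B R R') (hc : R ≤ CC R') : Fr B A R' R := by
  obtain ⟨e⟩ := h.iso' hc
  have hc' : R' ≤ CC R := le_centralizer_iff.1 hc
  have s := h.sylS
  rw [inf_eq_left.2 hc] at s
  refine ⟨h.toPr.symm, h.sylB hc, s, fun q => h.nb ?_, hc.trans (CC_le_NN _), inf_le_left.trans hc', ?_⟩
  · rw [← card_eq_one, ← Nat.card_congr e.toEquiv, q, card_bot]
  · rw [inf_eq_left.2 hc']
    exact ⟨e.symm⟩

end Cfsg.Agent.QS
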