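import Mathlib
import Cfsg.Agent.QS.KD
import Cfsg.Agent.QS.Bas
import Cfsg.Agent.QS.Frm
import Cfsg.Agent.Cmp.Basic

/-! # S1817, piece QS-AA: type A (proof in stubs/Cfsg/Agent/QS/PLAN.md) -/

set_option autoImplicit false
set_option linter.unusedVariables false

namespace Cfsg.Agent.QS

open Cfsg Subgroup Cfsg.Agent.GT Cfsg.Agent.Inv Cfsg.Agent.Cmp Cfsg.Agent.QE Cfsg.Agent.QF
open scoped commutatorElement

universe u

variable {G : Type u} [Group G] [Finite G] {T A B R R' U Z D : Subgroup G} {z y r a x : G} {p : ℕ}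

namespace AA

variable {S K : Subgroup G} {c n m : G}

/-- Burnside's fusion lemma for two elements of the centre. -/
theorem burn (hS : Syl S ⊤) (hc : S ≤ C1 c) (hr : S ≤ C1 r) {g : G} (e : g * c * g⁻¹ = r) :
    ∃ n ∈ NN S, n * c * n⁻¹ = r := by
  have h1 : Syl S (C1 r) := ⟨hr, hS.two, fun h => hS.idx (by
    rw [relIndex_top_right, ← relIndex_mul_index hr]; exact h.mul_right _)⟩
  have h2 : S ^ᶜ g ≤ C1 r := by
    rw [← e, C1, centralizer_singleton_conj]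
    exact map_mono hc
  obtain ⟨k, hk, h3⟩ := h1.exists_conj (hS.two.map _) h2
  refine ⟨k * g, mem_normalizer_iff_of_finite.2 fun s hs => ?_, ?_⟩
  · have := h3 _ (conj_mem_map_conj.2 hs)
    rwa [show k * (g * s * g⁻¹) * k⁻¹ = k * g * s * (k * g)⁻¹ by group] at this
  · rw [show k * g * c * (k * g)⁻¹ = k * (g * c * g⁻¹) * k⁻¹ by group, e]
    exact conj_eq_of_comm (mem_C1.1 hk)

/-- The normalizer of a Sylow 2-subgroup swaps no two central elements. -/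
theorem no_swap (hS : Syl S ⊤) (hn : n ∈ NN S) (hx : S ≤ C1 x) (e1 : n * x * n⁻¹ = y) (e2 : n * y * n⁻¹ = x) :
    x = y := by
  obtain ⟨j, hj⟩ := exists_two_pow n
  have h1 : n ^ (2 * j + 1) ∈ S :=
    hS.le_of_le (hS.two.to_sup_of_normal_left' hj.isPGroup (zpowers_le.2 (pow_mem hn _))) le_sup_left le_top
      (mem_sup_right (mem_zpowers _))
  have h2 : Commute (n ^ 2) x := comm_of_conj_eq (by
    rw [show n ^ 2 * x * (n ^ 2)⁻¹ = n * (n * x * n⁻¹) * n⁻¹ by rw [pow_two]; group, e1, e2])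
  have h3 : Commute n x := by
    have := ((h2.pow_left j).inv_left).mul_left (mem_C1.1 (hx h1))
    rwa [← pow_mul, pow_succ, inv_mul_cancel_left] at this
  rw [← e1, conj_eq_of_comm h3]

theorem key (hS : IsPGroup 2 S) (US : U ≤ S) (nU : S ≤ NN U) (nK : S ≤ NN K)
    (uni : ∀ v ∈ U, v ∈ CC U → v * v = 1 → v = 1 ∨ v = a) (uc : ∀ x ∈ S, x ∈ K → x * x = 1 → x = 1 ∨ x = c)
    (lt : ∀ D ≤ S ⊓ CC U, D ⊓ K = ⊥ → Nat.card D < Nat.card U) (hm : m ∈ NN S) :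
    m * a * m⁻¹ = a ∨ m * a * m⁻¹ = c := by
  by_contra! hne
  have DS : U ^ᶜ m ≤ S := map_conj_le_of_mem_normalizer US hm
  have nD : S ≤ NN (U ^ᶜ m) := by
    rw [NN, normalizer_map_conj, ← map_conj_eq_of_mem_norm hm]
    exact map_mono nU
  have cen : ∀ Y : Subgroup G, S ≤ NN Y → U ^ᶜ m ⊓ Y ≠ ⊥ →
      m * a * m⁻¹ ∈ Y ∧ orderOf (m * a * m⁻¹) = 2 ∧ ∀ s ∈ S, Commute s (m * a * m⁻¹) := fun Y hY hb => by
    obtain ⟨y, hy, y2⟩ := exists_inv_of_ne_bot ((hS.to_le DS).to_inf_left (K := Y)) hb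
    obtain ⟨z, hz, z2, hc⟩ := exists_inv_fixed hS ((le_inf nD hY).trans inf_normalizer_le_normalizer_inf) hy y2
    have h1 : m⁻¹ * z * m ∈ CC U := mem_CC.2 fun u hu => by
      have := comm_conj m⁻¹ (hc _ (conj_mem_of_mem_normalizer hm (US hu)))
      rwa [inv_inv, show m⁻¹ * (m * u * m⁻¹) * m = u by group] at this
    have h2 : m⁻¹ * z * m * (m⁻¹ * z * m) = 1 := by
      rw [show m⁻¹ * z * m * (m⁻¹ * z * m) = m⁻¹ * (z * z) * m by group, ← pow_two, ← z2, pow_orderOf_eq_one]; group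
    rcases uni _ (mem_map_conj.1 hz.1) h1 h2 with e | e
    · have : z = 1 := by rw [show z = m * (m⁻¹ * z * m) * m⁻¹ by group, e]; group
      rw [this, orderOf_one] at z2
      omega
    · rw [← e, show m * (m⁻¹ * z * m) * m⁻¹ = z by group]
      exact ⟨hz.2, z2, hc⟩
  have sq : ∀ w : G, orderOf w = 2 → w * w = 1 ∧ w ≠ 1 := fun w hw =>
    ⟨by rw [← pow_two, ← hw, pow_orderOf_eq_one], fun e => by rw [e, orderOf_one] at hw; omega⟩
  have b1 : U ^ᶜ m ⊓ U = ⊥ := by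
    by_contra hb
    obtain ⟨h1, h2, h3⟩ := cen U nU hb
    exact (uni _ h1 (mem_CC.2 fun u hu => h3 u (US hu)) (sq _ h2).1).elim (sq _ h2).2 hne.1
  have b2 : U ^ᶜ m ⊓ K = ⊥ := by
    by_contra hb
    obtain ⟨h1, h2, h3⟩ := cen (S ⊓ K) ((le_inf le_normalizer nK).trans inf_normalizer_le_normalizer_inf)
      fun e => hb (eq_bot_iff.2 ((le_inf inf_le_left (inf_le_inf_right _ DS)).trans e.le))
    exact (uc _ h1.1 h1.2 (sq _ h2).1).elim (sq _ h2).2 hne.2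
  have := lt _ (le_inf DS fun d hd => mem_CC.2 fun u hu => ?_) b2
  · rw [card_map_conj] at this
    omega
  have h1 : u * d * u⁻¹ * d⁻¹ ∈ U ^ᶜ m ⊓ U :=
    mem_inf.2 ⟨mul_mem (conj_mem_of_mem_normalizer (nD (US hu)) hd) (inv_mem hd), by
      rw [show u * d * u⁻¹ * d⁻¹ = u * (d * u⁻¹ * d⁻¹) by group]
      exact mul_mem hu (conj_mem_of_mem_normalizer (nU (DS hd)) (inv_mem hu))⟩
  rw [b1, mem_bot] at h1
  exact commutatorElement_eq_one_iff_commute.1 h1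

theorem fin (hS : Syl S ⊤) (a2 : a * a = 1) (a1 : a ≠ 1) (c1 : c ≠ 1) (ac : a ≠ c) (hc : S ≤ C1 c)
    (hn : n ∈ NN S) (hr : n * c * n⁻¹ = a ∨ n * c * n⁻¹ = a * c)
    (k : ∀ m ∈ NN S, m * a * m⁻¹ = a ∨ m * a * m⁻¹ = c) : False := by
  rcases k n hn with e | e
  · rcases hr with f | f
    · exact ac (by simpa using e.trans f.symm)
    · have := no_swap hS hn hc f (by
        rw [show n * (a * c) * n⁻¹ = n * a * n⁻¹ * (n * c * n⁻¹) by group, e, f, ← mul_assoc, a2, one_mul])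
      exact a1 (by simpa using this.symm)
  · rcases hr with f | f
    · exact ac (no_swap hS hn hc f e).symm
    · rcases k n⁻¹ (inv_mem hn) with g | g
      · have : n * (n⁻¹ * a * n⁻¹⁻¹) * n⁻¹ = a := by group
        rw [g, e] at this
        exact ac this.symm
      · have : n * (n⁻¹ * a * n⁻¹⁻¹) * n⁻¹ = a := by group
        rw [g, f] at this
        exact c1 (by simpa using this)

end AA

theorem aa_core (h : Fr A B R R') (hz : A ⊓ CC A = ⊥) (hr : r ∈ R') (r2 : orderOf r = 2)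
    (hu : ∀ x ∈ R', x * x = 1 → x = 1 ∨ x = r) (ha : A0G A a U) (hra : r * a⁻¹ ∈ CC A) : False := by
  have sq : ∀ w : G, orderOf w = 2 → w * w = 1 ∧ w ≠ 1 := fun w hw =>
    ⟨by rw [← pow_two, ← hw, pow_orderOf_eq_one], fun e => by rw [e, orderOf_one] at hw; omega⟩
  have aA : a ∈ A := ha.syl.le ha.mem
  have hc : R ≤ CC R' := h.p2 hz fun x hx x2 =>
    (hu x hx x2).elim (fun e => e ▸ In.of_mem (one_mem A)) fun e => e ▸ ⟨a, aA, hra⟩
  obtain ⟨e⟩ := h.iso' hc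
  obtain ⟨c, cR, c2, uc⟩ : ∃ c ∈ R, orderOf c = 2 ∧ ∀ x ∈ R, x * x = 1 → x = 1 ∨ x = c := by
    refine ⟨e.symm ⟨r, hr⟩, Subtype.property _, ?_, fun x hx x2 => ?_⟩
    · rw [orderOf_coe, MulEquiv.orderOf_eq, ← orderOf_coe]; exact r2
    have : e ⟨x, hx⟩ * e ⟨x, hx⟩ = 1 := by rw [← map_mul, show (⟨x, hx⟩ * ⟨x, hx⟩ : R) = 1 from Subtype.ext x2, map_one]
    refine (hu _ (e ⟨x, hx⟩).2 (congrArg Subtype.val this)).imp (fun f => ?_) fun f => ?_
    · exact congrArg Subtype.val (e.map_eq_one_iff.1 (Subtype.ext f))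
    · exact congrArg Subtype.val ((e.eq_symm_apply (x := ⟨r, hr⟩) (y := ⟨x, hx⟩)).2 (Subtype.ext f))
  have cK : c ∈ CC A := h.sR.le cR
  have ca : Commute a c := comm_of_CC cK aA
  have hrr : r = a ∨ r = a * c := by
    have k1 := comm_of_CC hra aA
    have k2 : r * a⁻¹ * (r * a⁻¹) = 1 := by
      have := (k1.symm.mul_pow 2).symm
      rwa [inv_mul_cancel_right, pow_two a, (sq a ha.a2).1, mul_one, pow_two, pow_two, (sq r r2).1] at this
    exact (uc _ (h.kR hz hr (sq r r2).1 aA hra).1 k2).imp mul_inv_eq_one.1 fun f => by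
      rw [ca.eq, ← f, inv_mul_cancel_right]
  obtain ⟨T, z, hst⟩ := h.sd
  have RU : R ≤ NN U := h.sR.le.trans ((centralizer_anti ha.syl.le).trans (CC_le_NN U))
  obtain ⟨S, hle, s1, s2, -, -⟩ := hst.exists_syl (D := U ⊔ R)
    (sup_le (ha.syl.le.trans le_normalizer) (h.sR.le.trans (CC_le_NN A)))
    (ha.syl.two.to_sup_of_normal_left' h.sR.two RU)
  have US : U ≤ S := le_sup_left.trans hle
  have RS : R ≤ S := le_sup_right.trans hle
  have eU : S ⊓ A ≤ U := ha.syl.le_of_le s1.two.to_inf_left (le_inf US ha.syl.le) inf_le_right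
  have eR : S ⊓ CC A ≤ R := h.sR.le_of_le s1.two.to_inf_left (le_inf RS h.sR.le) inf_le_right
  have nU : S ≤ NN U := fun s hs => mem_normalizer_iff_of_finite.2 fun u hu =>
    eU (mem_inf.2 ⟨mul_mem (mul_mem hs (US hu)) (inv_mem hs), conj_mem_of_mem_normalizer (s1.le hs) (ha.syl.le hu)⟩)
  have nK : S ≤ NN (CC A) := s1.le.trans (normalizer_le_normalizer_set_centralizer _)
  have sq' : ∀ s w : G, orderOf w = 2 → s * w * s⁻¹ * (s * w * s⁻¹) = 1 ∧ s * w * s⁻¹ ≠ 1 := fun s w hw =>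
    sq _ (by rw [orderOf_conj, hw])
  have Sa : S ≤ C1 a := fun s hs => mem_C1.2 (comm_of_conj_eq ((ha.uni _ (conj_mem_of_mem_normalizer (nU hs) ha.mem)
    (conj_mem_of_mem_normalizer (normalizer_le_normalizer_set_centralizer _ (nU hs))
      (le_centralizer_singleton_iff.1 ha.cen)) (sq' s a ha.a2).1).resolve_left (sq' s a ha.a2).2))
  have Sc : S ≤ C1 c := fun s hs => mem_C1.2 (comm_of_conj_eq ((uc _ (eR (mem_inf.2
    ⟨mul_mem (mul_mem hs (RS cR)) (inv_mem hs), conj_mem_of_mem_normalizer (nK hs) cK⟩)) (sq' s c c2).1).resolve_left (sq' s c c2).2))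
  have Sr : S ≤ C1 r := fun s hs => mem_C1.2 (hrr.elim (fun f => f ▸ mem_C1.1 (Sa hs))
    fun f => f ▸ (mem_C1.1 (Sa hs)).mul_right (mem_C1.1 (Sc hs)))
  obtain ⟨g, hg⟩ := h.cj
  obtain ⟨k, -, hk⟩ := (h.sylB hc).exists_conj_elt ((Two.of_two c2).conj g) (hg ▸ conj_mem_CC g cK)
  rw [show k * (g * c * g⁻¹) * k⁻¹ = k * g * c * (k * g)⁻¹ by group] at hk
  obtain ⟨n, hn, en⟩ := AA.burn s2 Sc Sr ((hu _ hk (sq' _ c c2).1).resolve_left (sq' _ c c2).2)
  refine AA.fin s2 (sq a ha.a2).1 (sq a ha.a2).2 (sq c c2).2 (fun f => (sq a ha.a2).2 ?_) Sc hn (en ▸ hrr)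
    fun m hm => AA.key s1.two US nU nK ha.uni (fun x h1 h2 => uc x (eR ⟨h1, h2⟩))
      (fun D hD => ha.lt D (hD.trans (inf_le_inf_right _ s1.le)) (s1.two.to_le (hD.trans inf_le_left))) hm
  exact mem_bot.1 (hz ▸ (⟨aA, f ▸ cK⟩ : a ∈ A ⊓ CC A))

theorem aa_false (h : Ip A B a r) (f : FG p A) (ha : AG p A a) : False := by
  have r2 := h.ord f.zen
  obtain ⟨R', sR', -, h1, -⟩ := h.toPr.exists_inv (Two.of_two r2).isPGroup
    (zpowers_le.2 ⟨h.rN, CC_le_NN B h.rB⟩)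
  have hr : r ∈ R' := h1 ⟨mem_zpowers r, h.rB⟩
  obtain ⟨R, fr, -⟩ := h.toPr.exists_fr sR' (fun e => by
    rw [e, mem_bot] at hr
    rw [hr, orderOf_one] at r2
    omega) sR'.two le_rfl (sR'.le.trans inf_le_right)
  obtain ⟨U, hU⟩ := ha.ex
  refine aa_core fr f.zen hr r2 (fun x hx x2 => or_iff_not_imp_left.2 fun x1 => ?_) hU h.ry
  have o2 : orderOf x = 2 := orderOf_eq_prime (by rw [pow_two, x2]) x1
  have h2 := ha.inn x (sR'.le hx).2 x2 (fun k => x1 (h.toPr.two k (sR'.le hx).1 (Two.of_sq x2))) (by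
    rw [h.toPr.yg f (sR'.le hx).1 o2, ← h.toPr.yg f h.rB r2, YG_congr h.ry])
  have h3 : x * r⁻¹ ∈ R' := mul_mem hx (inv_mem hr)
  refine mul_inv_eq_one.1 (h.toPr.two ?_ (sR'.le h3).1 (Two.of_mem sR'.two h3))
  rw [show x * r⁻¹ = x * a⁻¹ * (r * a⁻¹)⁻¹ by group]
  exact mul_mem h2 (inv_mem h.ry)

end Cfsg.Agent.QS
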