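import Mathlib
import Cfsg.Agent.STP.G2Even
import Cfsg.Agent.STA.P1G
import Cfsg.Agent.STA.L3
import Cfsg.Agent.S2102
import Cfsg.Agent.Blk.ZStar

/-! A standard subgroup `2·G₂(4)` is normal. -/

set_option autoImplicit false

namespace Cfsg.Agent.STP

open Cfsg Cfsg.Agent.Loc.Mss Subgroup Cfsg.Agent.STA

theorem g2_even' {G : Type*} [Group G] [Finite G] (hO : oddCore G = ⊥) {A : Subgroup G} (hA : IsStandardSubgroup A)
    (e : (A ⧸ center A) ≃* Cfsg.Lie.chevG2.group STA.F)
    (hZ : center A ≠ ⊥) : A.Normal := by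
  classical
  have perf : commutator A = ⊤ := hA.1.1.commutator_eq_top
  have c2 : Nat.card (center A) = 2 := by
    have := ((S2102.result (F := STA.F) (by decide +kernel)).congr e.symm).card_ker_dvd
      (QuotientGroup.mk' (center A)) ⟨QuotientGroup.mk'_surjective _, (QuotientGroup.ker_mk' _).le, perf ▸ le_top⟩
    rw [QuotientGroup.ker_mk', show Nat.card (Multiplicative (ZMod 2)) = 2 by simp, Nat.dvd_prime Nat.prime_two,
      card_eq_one] at this
    exact this.resolve_left hZ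
  obtain ⟨⟨⟨z, zA⟩, zc⟩, z1, hz⟩ := (Nat.card_eq_two_iff' (1 : center A)).1 c2
  have zK : z ∈ 𝐂[A] := mem_cent.2 fun a ha => congrArg Subtype.val (mem_center_iff.1 zc ⟨a, ha⟩)
  have z1 : z ≠ 1 := fun k => z1 (Subtype.ext (Subtype.ext k))
  have two : ∀ x ∈ A, x ∈ 𝐂[A] → x = 1 ∨ x = z := fun x hx h => or_iff_not_imp_left.2 fun k =>
    congrArg (fun y : center A => (y.1 : G)) (hz ⟨⟨x, hx⟩, mem_center_iff.2 fun a => Subtype.ext (h a a.2)⟩
      fun k' => k (congrArg (fun y : center A => (y.1 : G)) k'))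
  have zz : z * z = 1 := (two _ (mul_mem zA zA) (mul_mem zK zK)).resolve_right fun k => z1 (mul_eq_left.1 k)
  have ord : orderOf z = 2 := orderOf_eq_prime ((pow_two z).trans zz) z1
  let N := centralizer {z}
  have memN : ∀ n, n ∈ N ↔ Commute n z := fun n => mem_centralizer_singleton_iff
  have AN : A ≤ N := fun a ha => (memN a).2 (zK a ha)
  have norm : N ≤ 𝐍[A] := hA.centralizer_le ord zK
  let Z : Subgroup N := zpowers ⟨z, AN zA⟩
  have memZ : ∀ n : N, n ∈ Z ↔ n.1 = 1 ∨ n.1 = z := fun n => ⟨by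
    rintro ⟨i, rfl⟩
    exact two _ (zpow_mem zA i) (zpow_mem zK i), fun h => h.elim (fun k => (Subtype.ext k : n = 1) ▸ one_mem _)
      fun k => (Subtype.ext k : n = ⟨z, AN zA⟩) ▸ mem_zpowers _⟩
  have : Z.Normal := ⟨fun x hx n => by
    rcases (memZ x).1 hx with k | k <;> rw [memZ, coe_mul, coe_mul, coe_inv, k]
    exacts [.inl (by simp), .inr (by rw [((memN _).1 n.2).eq, mul_inv_cancel_right])]⟩
  let B := (N ⧸ Z) × Multiplicative STA.F
  let π : N →* B := (MonoidHom.inl _ _).comp (QuotientGroup.mk' Z)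
  have kπ : ∀ n, π n = 1 ↔ n.1 = 1 ∨ n.1 = z := fun n => by
    rw [← memZ, ← QuotientGroup.eq_one_iff]
    exact ⟨congrArg Prod.fst, fun k => Prod.ext k rfl⟩
  have sπ : ∀ b : B, ∃ n, ∀ y, b * y * b⁻¹ = π n * y * (π n)⁻¹ := fun b =>
    have ⟨n, e⟩ := QuotientGroup.mk'_surjective Z b.1
    ⟨n, fun y => Prod.ext (congrArg (fun u => u * y.1 * u⁻¹) e.symm) (by simp [π, B])⟩
  let η := π.comp (inclusion AN)
  have kη : η.ker = center A := by
    ext a
    rw [MonoidHom.mem_ker, MonoidHom.comp_apply, kπ]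
    exact ⟨fun h => h.elim (fun k => (Subtype.ext k : a = 1) ▸ one_mem _) fun k =>
      (Subtype.ext k : a = ⟨z, zA⟩) ▸ zc, fun h => two _ a.2 (mem_cent.2 fun b hb =>
        congrArg Subtype.val (mem_center_iff.1 h ⟨b, hb⟩))⟩
  let ι := (QuotientGroup.lift _ η kη.ge).comp e.symm.toMonoidHom
  have hι : Function.Injective ι := 
    ((QuotientGroup.injective_lift_iff _ _ kη.ge).2 kη.symm).comp e.symm.injective
  have rι : ι.range = η.range := by
    rw [MonoidHom.range_comp, MonoidHom.range_eq_top.2 e.symm.surjective, ← MonoidHom.range_eq_map]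
    ext b
    exact ⟨by rintro ⟨q, rfl⟩; induction q using QuotientGroup.induction_on with | _ a => exact ⟨a, rfl⟩,
      by rintro ⟨a, rfl⟩; exact ⟨a, rfl⟩⟩
  have : ι.range.Normal := ⟨fun x hx b => by
    obtain ⟨n, e⟩ := sπ b
    rw [rι] at hx ⊢
    obtain ⟨a, rfl⟩ := hx
    exact ⟨⟨_, conj_mem_of_norm (norm n.2) a.2⟩, by
      rw [e, ← map_inv, show η a = π (inclusion AN a) from rfl, ← map_mul, ← map_mul]; rfl⟩⟩
  have hK : (MonoidHom.inr _ _).range ≤ 𝐂[ι.range] := by
    rintro _ ⟨v, rfl⟩ _ h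
    obtain ⟨a, rfl⟩ := rι.le h
    exact Prod.ext (by simp [B]) (by simp [B, η, π])
  have c4 : Nat.card (MonoidHom.inr (N ⧸ Z) (Multiplicative STA.F)).range = 4 := by
    rw [← Nat.card_congr (MonoidHom.ofInjective (f := MonoidHom.inr (N ⧸ Z) (Multiplicative STA.F))
      fun _ _ h => congrArg Prod.snd h).toEquiv,
      Nat.card_eq_fintype_card]
    decide +kernel
  obtain ⟨s, hs⟩ := exists_std_G2 ι hι (std_of_normal (((hA.1.quotient _ fun k => hA.1.not_isMulCommutative
    (center_eq_top_iff.1 k)).of_mulEquiv e).of_mulEquiv (MonoidHom.ofInjective hι))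
    (even_iff_two_dvd.2 (Dvd.dvd.trans (by rw [c4]; decide) (card_dvd_of_le hK)))) fun h => by
      have := h ((MonoidHom.inr _ _).range.subgroupOf _) inferInstance (by
        rintro ⟨_, h⟩ ⟨v, rfl⟩
        refine Subtype.ext ?_
        rw [coe_pow, coe_mk, ← map_pow, show v ^ 2 = 1 from (pow_two v).trans (CharTwo.add_self_eq_zero (R := STA.F) _),
          map_one, coe_one])
      rw [Nat.card_congr (subgroupOfEquivOfLe hK).toEquiv, c4] at this
      omega
  rw [rι] at hs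
  let ρ : G → B := fun g => if h : g ∈ N then π ⟨g, h⟩ else 1
  have hρ : ∀ g (h : g ∈ N), ρ g = π ⟨g, h⟩ := fun g h => dif_pos h
  let f : Cv G B :=
    { s := s, A := A, N := N, z := z, ρ := ρ, zz := zz, z1 := z1, zA := zA, memN := memN, AN := AN, norm := norm
      top := fun b => by rw [Lt.N, hs, ← rι, normalizer_eq_top]; exact mem_top b
      mul := fun x hx y hy => by rw [hρ x hx, hρ y hy, hρ _ (mul_mem hx hy), ← map_mul]; rfl
      mem := fun a ha => hs.ge ⟨⟨a, ha⟩, (hρ a (AN ha)).symm⟩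
      surj := fun b hb =>
        have ⟨a, e⟩ := hs.le hb
        ⟨a, a.2, (hρ a (AN a.2)).trans e⟩
      surjN := fun b =>
        have ⟨n, e⟩ := sπ b
        ⟨n, n.2, by rwa [hρ n n.2]⟩
      ρz := (hρ z (AN zA)).trans ((kπ _).2 (.inr rfl))
      ker := fun n hn e => (kπ ⟨n, hn⟩).1 ((hρ n hn).symm.trans e)
      kerK := fun n hn h => mem_cent.2 fun a ha => (L3.comm_of_perfect perf A.subtype (n := n) (fun a => by
        refine ⟨a⁻¹ * ⟨_, conj_mem_of_norm (norm hn) a.2⟩, kη.le ?_, by simp⟩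
        rw [MonoidHom.mem_ker, map_mul, map_inv, inv_mul_eq_one, ← mul_inv_cancel_right (η a) (ρ n),
          h _ (hs.ge ⟨a, rfl⟩), hρ n hn, show η a = π (inclusion AN a) from rfl, ← map_inv, ← map_mul, ← map_mul]
        rfl) ⟨a, ha⟩).eq.symm
      perf := perf
      ti := fun k hk h2 h1 n h => by
        have := hA.2.1.mem_normalizer (g := n⁻¹) (orderOf_eq_prime ((pow_two k).trans h2) h1) hk (by rwa [inv_inv])
        rw [inv_mem_iff] at this
        exact (memN n).2 (mul_inv_eq_iff_eq_mul.1 ((two _ (conj_mem_of_norm (hA.2.2.2 ▸ this) zA)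
          (conj_mem_of_norm this zK)).resolve_left fun k => z1 (conj_eq_one_iff.1 k))) }
  have h1 := IsIsolatedInvolution.mem_center ⟨ord, fun g c => by_contra fun k =>
    Cv.not_pr (f := f) _ ⟨isConj_iff.2 ⟨g, rfl⟩, (memN _).2 c.symm, k⟩⟩ hO
  exact normal_of_top fun g _ => norm ((memN g).2 (mem_center_iff.1 h1 g))

end Cfsg.Agent.STP
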