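import Mathlib
import Cfsg.Agent.STP.BH

/-! # S1817: computations in `Aut L₃(4)` for the double cover -/

set_option autoImplicit false
set_option synthInstance.maxSize 100000
set_option synthInstance.maxHeartbeats 1000000
set_option maxRecDepth 100000
set_option exponentiation.threshold 10000

namespace Cfsg.Agent.QS.L4

open Cfsg.Agent.Spor Cfsg.Agent.Rec Cfsg.Agent.Spor.MX Cfsg.Agent.Inv.Fz Cfsg.Agent.ONT Cfsg.Agent.STP Subgroup
open Cfsg.Agent.HeA (a1 a2 b1 b2 h0 c11 c12 c21 c22 Sq)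

/-- Words for the witnesses. -/
def W5 : List (List ℕ) :=
  [[], [0, 2, 1, 2, 0, 2, 1], [0, 2, 1, 1, 2, 0, 0, 2, 1, 2],
   [0, 0, 2, 1, 2, 1], [0, 2, 1, 1, 1, 2, 1, 2, 0, 2, 0, 2, 1, 2, 0, 0], [2, 0, 2, 1, 1, 2, 1],
   [0, 0, 2, 1, 1], [1, 1, 1, 2, 1, 1, 2, 0], [1, 1, 1, 2, 1, 2, 0, 2, 0, 0, 0, 2]]

/-- Their codes. -/
noncomputable def c5 : List ℕ := [(nat_lit 0x292827262524232221201f1e1d1c1b1a191817161514131211100f0e0d0c0b0a09080706050403020100), (nat_lit 0x202527182821231924291f171c1d1b1522261e161a0b101203130c0e040f140a02070806000d11090105), (nat_lit 0x27251a1817261d23211f151e22191b291624281c200500060803140e0910110a040b13010f0d0c021207), (nat_lit 0x1f191c251a1e1622171d202329272815181b2124260f0d100012060a01080b11020914070313050c040e), (nat_lit 0x151e211f291b192227251a182617231d24161c28200e09031405000608130b0f01040a111002120d0c07), (nat_lit 0x18171519231f271b1c2428201e1a262221251d291602110e0b0a0d130314010c100f0904120006070508),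 (nat_lit 0x191f1c2615232422171b281e1827201a291d2116250f04120910140c010e0b02110006070513030a0d08), (nat_lit 0x231b27161724291a2021151e1d182822191c25261f14001112010f070b080d0a030c0e04050609021013), (nat_lit 0x1d1828222917241a2115201e25191c261b2723161f0a12010e0d140b0403110f0c080007051009021306)]

theorem c5_ok : beqL (W5.map (evC Q c3)) c5 = true := by decide +kernel

/-- The witnesses. -/
noncomputable def Hl : Set B := {x | x ∈ W5.map (evalW (nth 1 (tri xB wB)))}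

theorem Hl_le {b : B} (h : b ∈ Hl) : b ∈ I := words_I _ b h

theorem fR : ∀ s ∈ Rl, (∃ a ∈ Hl, a * a = 1 ∧ ∃ b ∈ Hl, b * b = 1 ∧ Let (a * b * s * (a * b)⁻¹ * s⁻¹) fun d =>
      d * d = 1 ∧ ∃ c ∈ Hl, c * s = s * c ∧ Let (c * c * d * (c * c)⁻¹) fun e =>
        a * e * (a * e) = 1 ∧ b * e * (b * e) = 1 ∧ e * d * (e * d) = 1 ∧ e * d ≠ 1) ∨
    ∃ u ∈ Hl, u * s = s * u ∧ ∃ v ∈ Hl, v * s = s * v ∧ Let (u * u) fun x => x ≠ 1 ∧ x * x = 1 ∧ v * v = x ∧
      u * v * (u * v) = x ∧ ∃ r ∈ Hl, r * s * r⁻¹ * s⁻¹ = x :=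
  (Cod.Lists.cons (K := Hl) (rep3.words W5 c5_ok).lists listsS).decide repM (by decide +kernel)

theorem fS1 : ∀ s ∈ S, s * x1 = x1 * s := listsS.decide repM (by decide +kernel)

theorem fK4 : ∀ s ∈ S, s * s = 1 → s ∉ U → ∀ p ∈ U, p * p = 1 → p ≠ 1 → p * s = s * p →
    ∀ q ∈ U, q * q = 1 → q ≠ 1 → q ≠ p → q * s = s * q → q * p = p * q →
      ∀ r ∈ S, r * r = 1 → r * s = s * r → r * p = p * r → r * q = q * r →
        Let (p * q) fun w => (r = 1 ∨ r = p ∨ r = q ∨ r = w) ∨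
          Let (s * r) fun y => y = 1 ∨ y = p ∨ y = q ∨ y = w :=
  listsS.decide repM (by decide +kernel)

theorem fU1 : (∀ u ∈ U, u * u = 1 → (∀ x ∈ X, u * x * (u * x) = 1) ∧
      ∃ v ∈ U, v * v = 1 ∧ u * v * (u * v) = 1 ∧ ∀ x ∈ X, v * x ∉ X ∧ u * v * x ∉ X) ∧
    (∀ u ∈ U, u * u = x1 → ∀ v ∈ U, v * v = x1 → u * v * (u * v) = x1 → ∀ p ∈ U, p * p = x1 →
      u * p⁻¹ ∈ X ∨ v * p⁻¹ ∈ X ∨ u * v * p⁻¹ ∈ X) ∧
    (∀ x ∈ X, x * x = 1 ∧ ∀ y ∈ X, x * y ∈ X) ∧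
    (π1 a1 * π1 a1 = 1 ∧ π1 a2 * π1 a2 = 1 ∧ π1 a1 * π1 a2 * (π1 a1 * π1 a2) = 1) ∧
    (π1 b1 * π1 b1 = 1 ∧ π1 b2 * π1 b2 = 1 ∧ π1 b1 * π1 b2 * (π1 b1 * π1 b2) = 1) ∧ x1 * x2 ≠ x1 ∧ x1 * x2 ≠ 1 :=
  listsB.decide repM (by decide +kernel)

theorem fT3 {γ : Γ} (h : γ ∈ T3 a1 a2 ∨ γ ∈ T3 b1 b2) : π1 γ ∈ U ∧ π1 γ * π1 γ = 1 := by
  refine ⟨h.elim (T3_le (H := U.comap π1) ?_ ?_) (T3_le (H := U.comap π1) ?_ ?_), ?_⟩
  any_goals exact mem_clos (by simp)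
  simp only [T3, List.mem_cons, List.not_mem_nil, or_false, Set.mem_ofPred_eq] at h
  obtain ⟨-, -, -, ⟨p1, p2, p3⟩, ⟨q1, q2, q3⟩, -⟩ := fU1
  rcases h with (rfl | rfl | rfl) | (rfl | rfl | rfl) <;> (try simp only [map_mul]) <;> assumption

theorem pg_four {s : Set B} (h : ∀ a ∈ s, a * a = 1 ∧ ∀ b ∈ s, a * b = b * a) : IsPGroup 2 (closure s) := by
  have k : ∀ x ∈ closure s, x * x = 1 := fun x hx => by
    induction hx using closure_induction with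
    | mem x hx => exact (h x hx).1
    | one => exact one_mul _
    | mul x y hx hy a b =>
      have c : Commute x y := (closure_le (K := centralizer {y})).2 (fun a ha => mem_centralizer_singleton_iff.2
        (mem_centralizer_singleton_iff.1 ((closure_le (K := centralizer {a})).2
          (fun b hb => mem_centralizer_singleton_iff.2 ((h a ha).2 b hb).symm) hy)).symm) hx
          |> mem_centralizer_singleton_iff.1
      rw [c.symm.mul_mul_mul_comm, a, b, one_mul]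
    | inv x hx a => rw [← mul_inv_rev, a, inv_one]
  exact fun x => ⟨1, Subtype.ext (by simpa [pow_two] using k x x.2)⟩

/-- Four independent commuting involutions, two of them inner, are all inner. -/
theorem k4 {s p q r : B} (hs : s * s = 1) (hp : p * p = 1) (hq : q * q = 1) (hr : r * r = 1) (pI : p ∈ I) (qI : q ∈ I)
    (sI : s ∉ I) (p1 : p ≠ 1) (q1 : q ≠ 1) (qp : q ≠ p) (c1 : p * s = s * p) (c2 : q * s = s * q)
    (c3 : q * p = p * q) (c4 : r * s = s * r) (c5 : r * p = p * r) (c6 : r * q = q * r) :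
    (r = 1 ∨ r = p ∨ r = q ∨ r = p * q) ∨ s * r = 1 ∨ s * r = p ∨ s * r = q ∨ s * r = p * q := by
  obtain ⟨g, -, e⟩ := (isSylIn_of_card (p := 2) (k := 8) (m := 945) (H := ⊤) le_top genS.2
    (by rw [card_top, card_B']; norm_num) (by norm_num)).exists_cj_le (Q := closure {s, p, q, r})
      (pg_four (by simp [*])) le_top
  have m : ∀ x ∈ ({s, p, q, r} : Set B), MulAut.conj g x ∈ S := fun x hx => cj_le_iff.1 e _ (subset_closure hx)
  have u : ∀ x ∈ ({s, p, q, r} : Set B), x ∈ I → MulAut.conj g x ∈ U := fun x hx xI =>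
    cenU ((cjI g).2 xI) (fS1 _ (m x hx))
  have := fK4 _ (m s (by simp)) (by rw [← map_mul, hs, map_one]) (fun k => sI ((cjI g).1 (U_le k)))
    _ (u p (by simp) pI) (by rw [← map_mul, hp, map_one]) (by simpa using p1) (by rw [← map_mul, c1, map_mul])
    _ (u q (by simp) qI) (by rw [← map_mul, hq, map_one]) (by simpa using q1) (by simpa using qp)
    (by rw [← map_mul, c2, map_mul]) (by rw [← map_mul, c3, map_mul])
    _ (m r (by simp)) (by rw [← map_mul, hr, map_one]) (by rw [← map_mul, c4, map_mul])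
    (by rw [← map_mul, c5, map_mul]) (by rw [← map_mul, c6, map_mul])
  simpa only [Let, ← map_mul, EmbeddingLike.apply_eq_iff_eq, EmbeddingLike.map_eq_one_iff] using this

/-- The two types of outer involutions. -/
theorem out2 {s : B} (hs : s * s = 1) (h1 : s ∉ I) :
    (∃ a ∈ I, ∃ b ∈ I, ∃ c ∈ I, a * a = 1 ∧ b * b = 1 ∧ c * s = s * c ∧ ∀ d, d = a * b * s * (a * b)⁻¹ * s⁻¹ →
      d * d = 1 ∧ ∀ e, e = c * c * d * (c * c)⁻¹ →
        a * e * (a * e) = 1 ∧ b * e * (b * e) = 1 ∧ e * d * (e * d) = 1 ∧ e * d ≠ 1) ∨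
    ∃ u ∈ I, ∃ v ∈ I, ∃ r ∈ I, u * s = s * u ∧ v * s = s * v ∧ u * u ≠ 1 ∧ u * u * (u * u) = 1 ∧ v * v = u * u ∧
      u * v * (u * v) = u * u ∧ r * s * r⁻¹ * s⁻¹ = u * u := by
  obtain ⟨g, e1, -⟩ := toS hs hs rfl
  obtain ⟨k, -, h4, -⟩ := fS.1 _ e1 (conj_sq hs) fun e => h1 ((cjI g).1 (U_le e))
  let φ : MulAut B := MulAut.conj k * MulAut.conj g
  have hφ : ∀ {a}, φ a ∈ Hl → a ∈ I := fun ha => (cjI g).1 ((cjI k).1 (Hl_le ha))
  have h5 := fR (φ s) h4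
  simp only [Let] at h5
  rcases h5 with ⟨a, ha, h5, b, hb, h6, h7, c, hc, h8, h9⟩ | ⟨u, hu, h5, v, hv, h6, h7, h8, h9, h10, r, hr, h11⟩
  · obtain ⟨a, rfl⟩ := φ.surjective a
    obtain ⟨b, rfl⟩ := φ.surjective b
    obtain ⟨c, rfl⟩ := φ.surjective c
    simp only [← map_mul φ, ← map_inv φ, EmbeddingLike.apply_eq_iff_eq, ne_eq, EmbeddingLike.map_eq_one_iff]
      at h5 h6 h7 h8 h9
    exact .inl ⟨a, hφ ha, b, hφ hb, c, hφ hc, h5, h6, h8, fun _ e => e ▸ ⟨h7, fun _ e => e ▸ h9⟩⟩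
  · obtain ⟨u, rfl⟩ := φ.surjective u
    obtain ⟨v, rfl⟩ := φ.surjective v
    obtain ⟨r, rfl⟩ := φ.surjective r
    simp only [← map_mul φ, ← map_inv φ, EmbeddingLike.apply_eq_iff_eq, ne_eq, EmbeddingLike.map_eq_one_iff]
      at h5 h6 h7 h8 h9 h10 h11
    exact .inr ⟨u, hφ hu, v, hφ hv, r, hφ hr, h5, h6, h7, h8, h9, h10, h11⟩

end Cfsg.Agent.QS.L4
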