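import Mathlib
import Cfsg.Agent.QS.CD
import Cfsg.Agent.QS.Bas
import Cfsg.Agent.QS.Frm
import Cfsg.Agent.QS.AA

/-! # S1817, piece QS-CIn: covers, inner involutions (proof in stubs/Cfsg/Agent/QS/CPLAN.md) -/

set_option autoImplicit false
set_option linter.unusedVariables false
set_option linter.unusedSectionVars false

namespace Cfsg.Agent.QS

open Cfsg Subgroup Cfsg.Agent.GT Cfsg.Agent.Inv Cfsg.Agent.Cmp Cfsg.Agent.QE Cfsg.Agent.QF
open scoped commutatorElement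

universe u

variable {G : Type u} [Group G] [Finite G] {T A B R R' U Z D : Subgroup G} {z y r a x : G} {p : ℕ}

namespace CIn

theorem mS {K : Subgroup G} (s : Syl R K) (hx : x ∈ K) (h2 : Two x) (hn : x ∈ NN R) : x ∈ R :=
  s.mem_of_mem (s.two.to_sup_of_normal_left' h2.isPGroup (zpowers_le.2 hn)) le_sup_left hx
    (mem_sup_right (mem_zpowers _))

theorem nA (hR : R ≤ CC A) (ha : a ∈ A) : a ∈ NN R := CC_le_NN R (le_centralizer_iff.1 hR ha)

theorem zp (c : CMG A) : IsPGroup 2 ↥(A ⊓ CC A) :=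
  c.card.elim (fun e => IsPGroup.of_card (n := 1) (by rw [e, pow_one])) fun e => IsPGroup.of_card (n := 2) (by rw [e]; rfl)

theorem yg (cB : CMG B) (hr : r ∈ CC B) (r2 : orderOf r = 2) : YG 3 A r = YY 3 A B := by
  unfold YG YY
  congr 1
  ext l
  exact and_congr_right fun hl =>
    ⟨fun k => ⟨cB.gd r hr r2 l k.1 k.2, k.2⟩, fun k => ⟨comm_of_CC hr k.1, k.2⟩⟩

theorem ne1 (r2 : orderOf r = 2) : r ≠ 1 := fun e => by
  rw [e, orderOf_one] at r2
  omega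

/-- the Sylow subgroup of `C(B) ⊓ N(A)` has order two -/
theorem rr (h : Pr A B) (cA : CMG A) (cB : CMG B) (r2 : orderOf r = 2) (s : Syl R' (CC B ⊓ NN A))
    (hr : r ∈ R') (ha : a ∈ A) (hk : r * a⁻¹ ∈ CC A) (a1 : a ∉ CC A) (a2 : a * a ∈ CC A) :
    ∀ x ∈ R', x = 1 ∨ x = r := by
  obtain ⟨-, i2, i3, -⟩ := cA.ia a ha a1 a2
  have eY : YG 3 A a = YY 3 A B := by rw [← YG_congr hk, yg cB (s.le hr).1 r2]
  have k4 : ∀ x ∈ R', x * x * (x * x) = 1 → x * x = 1 := fun x hx e =>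
    h.two (i3 x (s.le hx).2 (by rw [← e, show 4 = 2 + 2 from rfl, pow_add, pow_two]) (by
      rw [eY]
      exact centralizer_anti (YY_le.trans inf_le_right) (s.le hx).1))
      (s.le (mul_mem hx hx)).1 (Two.of_mem s.two (mul_mem hx hx))
  have sq : ∀ k : ℕ, ∀ x ∈ R', x ^ 2 ^ k = 1 → x * x = 1 := fun k => by
    induction k with
    | zero => intro x _ e; rw [pow_zero, pow_one] at e; rw [e, one_mul]
    | succ k ih =>
      intro x hx e
      exact k4 x hx (ih _ (mul_mem hx hx) (by rw [← pow_two, ← pow_mul, ← pow_succ', e]))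
  intro x hx
  obtain ⟨k, e⟩ := Two.of_mem s.two hx
  have x2 := sq k x hx e
  refine or_iff_not_imp_left.2 fun x1 => ?_
  have h2 := i2 x (s.le hx).2 x2 (fun k => x1 (h.two k (s.le hx).1 (Two.of_sq x2))) (by
    rw [yg cB (s.le hx).1 (orderOf_two_of x2 x1), eY])
  have h3 : x * r⁻¹ ∈ R' := mul_mem hx (inv_mem hr)
  refine mul_inv_eq_one.1 (h.two ?_ (s.le h3).1 (Two.of_mem s.two h3))
  rw [show x * r⁻¹ = x * a⁻¹ * (r * a⁻¹)⁻¹ by group]
  exact mul_mem h2 (inv_mem hk)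

theorem card_le (hu : ∀ x ∈ R', x = 1 ∨ x = r) : Nat.card R' ≤ 2 := by
  have : (R' : Set G) ⊆ {1, r} := fun x hx => hu x hx
  have h1 := Set.ncard_le_ncard this (Set.toFinite _)
  have h2 := Set.ncard_insert_le (1 : G) {r}
  rw [Set.ncard_singleton] at h2
  exact (Nat.card_coe_set_eq (R' : Set G)).le.trans (h1.trans h2)

theorem two_elt (h2 : Nat.card Z = 2) : ∃ z ∈ Z, orderOf z = 2 ∧ ∀ x ∈ Z, x = 1 ∨ x = z := by
  obtain ⟨z, z1, hz⟩ := (Nat.card_eq_two_iff' (1 : Z)).1 h2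
  have k : ∀ x ∈ Z, x = 1 ∨ x = (z : G) := fun x hx => or_iff_not_imp_left.2 fun x1 =>
    congrArg Subtype.val (hz ⟨x, hx⟩ fun e => x1 (congrArg Subtype.val e))
  have z1' : (z : G) ≠ 1 := fun e => z1 (Subtype.ext e)
  refine ⟨z, z.2, orderOf_two_of ((k _ (mul_mem z.2 z.2)).resolve_right fun e => z1' (by simpa using e)) z1', k⟩

/-- the final argument -/
theorem fin (h : Pr A B) (c : ∀ g : G, CMG (A ^ᶜ g)) (hr : r ∈ CC B) (r2 : orderOf r = 2) (rA : r ∈ A)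
    (zA : z ∈ A ⊓ CC A) (z2 : orderOf z = 2) (uz : ∀ x ∈ A ⊓ CC A, x = 1 ∨ x = z) {g : G} (hg : B = A ^ᶜ g)
    (er : g * z * g⁻¹ = r) : False := by
  have cA : CMG A := by simpa only [map_conj_one] using c 1
  have cB : CMG B := hg ▸ c g
  have rK : r ∉ CC A := fun k => ne1 r2 (h.two k hr (Two.of_two r2))
  have rB : r ∈ B := by rw [hg, ← er]; exact conj_mem_map_conj.2 zA.1
  have sq : ∀ n : G, ∀ x ∈ A ^ᶜ n, x * x ∈ CC (A ^ᶜ n) → x * x = 1 := fun n x hx k => by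
    obtain ⟨w, hw, e⟩ := (c n).lift x hx k
    have h1 : n⁻¹ * w * n ∈ A ⊓ CC A := ⟨mem_map_conj.1 hw.1, by
      have := hw.2
      rw [CC, centralizer_map_conj] at this
      exact mem_map_conj.1 this⟩
    have h2 : n⁻¹ * w * n * (n⁻¹ * w * n) = 1 :=
      (uz _ h1).elim (fun f => by rw [f, one_mul]) fun f => by rw [f, mul_self_of_two z2]
    rw [e, show w * w = n * (n⁻¹ * w * n * (n⁻¹ * w * n)) * n⁻¹ by group, h2]
    group
  obtain ⟨⟨U, sU, rU, cU, uU⟩, -, -, x, xY, hx⟩ := cA.ia r rA rK (by rw [mul_self_of_two r2]; exact one_mem _)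
  have xAB : x ∈ A ⊓ B := YY_le (p := 3) (yg cB hr r2 ▸ xY)
  have ex : x * x = z * r := by
    rcases uz _ (mem_inf.2 ⟨mul_mem (mul_mem xAB.1 xAB.1) (inv_mem rA), hx⟩) with e | e
    · rw [mul_inv_eq_one] at e
      exact absurd (e.symm.trans (sq g x (hg ▸ xAB.2) (by rw [e, ← hg]; exact hr))) (ne1 r2)
    · exact mul_inv_eq_iff_eq_mul.1 e
  have zB : z ∈ B := by
    rw [eq_mul_inv_of_mul_eq ex.symm]
    exact mul_mem (mul_mem xAB.2 xAB.2) (inv_mem rB)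
  have nc : ∀ n : G, n * z * n⁻¹ ≠ z * r := fun n e => by
    have h1 : z * r ∈ CC (A ^ᶜ n) := e ▸ conj_mem_CC n zA.2
    have h2 : orderOf (z * r) = 2 := by rw [← e, orderOf_conj, z2]
    have h3 : YG 3 A r ≤ A ^ᶜ n := (closure_le _).2 fun l hl =>
      (c n).gd _ h1 h2 l ((comm_of_CC zA.2 hl.1).mul_right hl.2.1) hl.2.2
    exact ne1 h2 (ex ▸ sq n x (h3 xY) (ex ▸ h1))
  obtain ⟨T, w, st⟩ := h.sd
  obtain ⟨S, US, s1, s2, -, -⟩ := st.exists_syl (D := U) (sU.le.trans le_normalizer) sU.two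
  have eU : S ⊓ A ≤ U := sU.le_of_le s1.two.to_inf_left (le_inf US sU.le) inf_le_right
  have nU : ∀ s ∈ S, ∀ u ∈ U, s * u * s⁻¹ ∈ U := fun s hs u hu =>
    eU (mem_inf.2 ⟨mul_mem (mul_mem hs (US hu)) (inv_mem hs), conj_mem_of_mem_normalizer (s1.le hs) (sU.le hu)⟩)
  have nK : ∀ s ∈ S, ∀ k ∈ CC A, s * k * s⁻¹ ∈ CC A := fun s hs k hk =>
    conj_mem_of_mem_normalizer (Frm_NC A (s1.le hs)) hk
  have Sz : S ≤ C1 z := fun s hs => mem_C1.2 (comm_of_conj_eq ((uz _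
    ⟨conj_mem_of_mem_normalizer (s1.le hs) zA.1, nK s hs z zA.2⟩).resolve_left
      (ne1 (by rw [orderOf_conj, z2]))))
  have Sr : S ≤ C1 r := fun s hs => by
    have hv := nU s hs r rU
    refine mem_C1.2 (comm_of_conj_eq ?_)
    rcases uU _ hv (fun u hu => by
      have := nK s hs _ (cU _ (nU _ (inv_mem hs) u hu))
      rwa [show s * ⁅s⁻¹ * u * s⁻¹⁻¹, r⁆ * s⁻¹ = ⁅u, s * r * s⁻¹⁆ by
        simp only [commutatorElement_def]; group] at this) (by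
      rw [mul_self_of_two ((orderOf_conj r s).trans r2)]; exact one_mem _) with k | k
    · have := nK _ (inv_mem hs) _ k
      rw [show s⁻¹ * (s * r * s⁻¹) * s⁻¹⁻¹ = r by group] at this
      exact absurd this rK
    · rcases uz _ (mem_inf.2 ⟨mul_mem (sU.le hv) (inv_mem rA), k⟩) with e | e
      · exact mul_inv_eq_one.1 e
      · refine absurd ?_ (nc (s * g))
        rw [← mul_inv_eq_iff_eq_mul.1 e, ← er]
        group
  obtain ⟨n, hn, en⟩ := AA.burn s2 Sz Sr er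
  have eB : A ^ᶜ n = B := Pr.eq_of ⟨T, w, st⟩ ⟨n, rfl⟩ ⟨g, hg⟩ (en ▸ conj_mem_CC n zA.2) hr r2
  have zS : z ∈ S := US (mS sU zA.1 (Two.of_two z2) (CC_le_NN U (centralizer_anti sU.le zA.2)))
  have h1 : n⁻¹ * z * n ∈ A := mem_map_conj.1 (eB ▸ zB)
  have h2 : n⁻¹ * z * n ∈ U := eU ⟨by simpa using conj_mem_of_mem_normalizer (inv_mem hn) zS, h1⟩
  have h3 : orderOf (n⁻¹ * z * n) = 2 := by simpa using (orderOf_conj z n⁻¹).trans z2
  have zr : z ≠ r := fun e => rK (e ▸ zA.2)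
  rcases uU _ h2 (fun u hu => by
    have := comm_conj n⁻¹ (mem_C1.1 (Sz (conj_mem_of_mem_normalizer hn (US hu))))
    rw [inv_inv, show n⁻¹ * (n * u * n⁻¹) * n = u by group] at this
    rw [commutatorElement_eq_one_iff_commute.2 this]
    exact one_mem _) (by rw [mul_self_of_two h3]; exact one_mem _) with k | k
  · have e := (uz _ ⟨h1, k⟩).resolve_left (ne1 h3)
    refine zr ?_
    rw [← en]
    conv_rhs => rw [← e]
    group
  · rcases uz _ (mem_inf.2 ⟨mul_mem h1 (inv_mem rA), k⟩) with e | e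
    · refine zr (AA.no_swap s2 hn Sz en ?_)
      rw [← mul_inv_eq_one.1 e]
      group
    · exact nc n⁻¹ (by rw [inv_inv]; exact mul_inv_eq_iff_eq_mul.1 e)

end CIn

open CIn in
theorem cin (h : Pr A B) (c : ∀ g : G, CMG (A ^ᶜ g)) (hr : r ∈ CC B) (r2 : orderOf r = 2)
    (hA : r ∈ NN A) : ¬ In A r := by
  rintro ⟨a, ha, hk⟩
  obtain ⟨g, hg⟩ := h.cj
  have cA : CMG A := by simpa only [map_conj_one] using c 1
  have cB : CMG B := hg ▸ c g
  have ca := comm_of_CC hk ha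
  have a1 : a ∉ CC A := fun k => ne1 r2 (h.two (by simpa using mul_mem hk k) hr (Two.of_two r2))
  have e2 : r * a⁻¹ * (r * a⁻¹) * (a * a) = 1 := by
    calc _ = r * a⁻¹ * (r * a⁻¹ * a) * a := by group
      _ = r * r := by rw [← ca.eq]; group
      _ = 1 := mul_self_of_two r2
  have a2 : a * a ∈ CC A := (mul_mem_cancel_left (mul_mem hk hk)).1 (e2 ▸ one_mem _)
  obtain ⟨R', sR', -, h1, -⟩ := h.exists_inv (Two.of_two r2).isPGroup (zpowers_le.2 ⟨hA, CC_le_NN B hr⟩)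
  have hr' : r ∈ R' := h1 ⟨mem_zpowers r, hr⟩
  obtain ⟨R, fr, -⟩ := h.exists_fr sR' (fun e => ne1 r2 (mem_bot.1 (e ▸ hr'))) sR'.two le_rfl
    (sR'.le.trans inf_le_right)
  have hu := rr h cA cB r2 sR' hr' ha hk a1 a2
  obtain ⟨e⟩ := fr.iso
  have ec := fr.cenx hr' r2
  have le : A ⊓ CC A ≤ R ⊓ C1 r := fun z hz =>
    ⟨mS fr.sR hz.2 (Two.of_mem (zp cA) hz) (nA fr.sR.le hz.1), mem_C1.2 (by
      simpa using (comm_of_CC hk hz.1).mul_right (comm_of_CC hz.2 ha).symm)⟩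
  have c1 : Nat.card ↥(R ⊓ C1 r) ≤ 2 := by
    rw [ec, Nat.card_congr e.toEquiv]
    exact card_le hu
  have c2 : Nat.card ↥(A ⊓ CC A) = 2 := by
    have := card_le_of_le le
    have := cA.card
    omega
  have eZ : A ⊓ CC A = R ⊓ C1 r := eq_of_le_of_card_ge le (c2 ▸ c1)
  have k2 : Two (r * a⁻¹) := by
    obtain ⟨j, hj⟩ := Two.of_mem (zp cA) (inv_mem (⟨mul_mem ha ha, a2⟩ : a * a ∈ A ⊓ CC A))
    exact ⟨j + 1, by rw [pow_succ', pow_mul, pow_two, eq_inv_of_mul_eq_one_left e2, hj]⟩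
  have kZ : r * a⁻¹ ∈ A ⊓ CC A := eZ ▸ ⟨mS fr.sR hk k2 (mul_mem (fr.nR hr') (inv_mem (nA fr.sR.le ha))),
    mem_C1.2 (by simpa using (Commute.refl (r * a⁻¹)).mul_right ca.symm)⟩
  have rA : r ∈ A := by simpa using mul_mem kZ.1 ha
  have hc : R ≤ CC R' := fun x hx =>
    (mem_inf.1 (ec ▸ mem_inf.2 ⟨hx, mem_C1.2 (comm_of_CC (fr.sR.le hx) rA).symm⟩ : x ∈ R ⊓ CC R')).2
  obtain ⟨z, zA, z2, uz⟩ := two_elt c2
  have s := fr.sylB hc
  have o2 : orderOf (g * z * g⁻¹) = 2 := by rw [orderOf_conj, z2]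
  exact fin h c hr r2 rA zA z2 uz hg ((hu _ (mS s (hg ▸ conj_mem_CC g zA.2) (Two.of_two o2)
    (nA s.le (hg ▸ conj_mem_map_conj.2 zA.1)))).resolve_left (ne1 o2))

end Cfsg.Agent.QS
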