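import Mathlib
import Cfsg.Agent.QS.CD
import Cfsg.Agent.QS.Bas
import Cfsg.Agent.QS.CIn

/-! # S1817, piece QS-COu: covers, outer involutions (proof in stubs/Cfsg/Agent/QS/CPLAN.md) -/

set_option autoImplicit false
set_option linter.unusedVariables false

namespace Cfsg.Agent.QS

open Cfsg Subgroup Cfsg.Agent.GT Cfsg.Agent.Inv Cfsg.Agent.Cmp Cfsg.Agent.QE Cfsg.Agent.QF
open scoped commutatorElement

universe u

variable {G : Type u} [Group G] [Finite G] {T A B R R' U Z D : Subgroup G} {z y r a x : G} {p : ℕ}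

namespace COu

/-- The facts used about the conjugates of `A`. -/
structure Kt (A : Subgroup G) : Prop where
  o2 : ∀ g : G, ∀ x ∈ NN (A ^ᶜ g), ∀ y ∈ NN (A ^ᶜ g), In (A ^ᶜ g) x ∨ In (A ^ᶜ g) y ∨ In (A ^ᶜ g) (x * y)
  out : ∀ g k : G, A ^ᶜ g ≠ A ^ᶜ k → ∀ t ∈ CC (A ^ᶜ g), orderOf t = 2 → t ∈ NN (A ^ᶜ k) → ¬ In (A ^ᶜ k) t
  cen : ∀ g : G, ∀ t ∈ CC (A ^ᶜ g), orderOf t = 2 → C1 t ≤ NN (A ^ᶜ g)

/-- An involution of `N(A)` centralizing another conjugate. -/
structure Tw (A C : Subgroup G) (t : G) : Prop where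
  cj : ∃ g, C = A ^ᶜ g
  ne : C ≠ A
  cc : t ∈ CC C
  t2 : orderOf t = 2
  nn : t ∈ NN A

theorem kt (h : ∃ T z, St T A z) (c : ∀ g : G, CMG (A ^ᶜ g)) : Kt A := by
  obtain ⟨T, z, h⟩ := h
  refine ⟨fun g => (c g).o2, fun g k hne t ht t2 hn => ?_, fun g t ht t2 => (h.conj g).cen ht t2⟩
  refine cin ⟨⟨_, _, h.conj k⟩, ⟨g * k⁻¹, ?_⟩, hne⟩ (fun m => ?_) ht t2 hn
  · rw [map_conj_map_conj, inv_mul_cancel_right]
  · rw [map_conj_map_conj]
    exact c _

variable {C C' : Subgroup G} {t t' : G}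

omit [Finite G] in
theorem ord2 (h2 : x * x = 1) (h1 : x ≠ 1) : orderOf x = 2 :=
  haveI := Fact.mk Nat.prime_two
  orderOf_eq_prime ((pow_two x).trans h2) h1

omit [Finite G] in
theorem comm_of_sq (hx : x * x = 1) (hy : y * y = 1) (h : x * y * (x * y) = 1) : Commute x y := by
  have h1 := inv_eq_of_mul_eq_one_right h
  rw [mul_inv_rev, inv_eq_of_mul_eq_one_right hx, inv_eq_of_mul_eq_one_right hy] at h1
  exact h1.symm

omit [Finite G] in
theorem Tw.sq (h : Tw A C t) : t * t = 1 := by rw [← pow_two, ← h.t2, pow_orderOf_eq_one]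

omit [Finite G] in
theorem Tw.conj (h : Tw A C t) {g : G} (hg : g ∈ NN A) : Tw A (C ^ᶜ g) (g * t * g⁻¹) := by
  obtain ⟨k, hk⟩ := h.cj
  refine ⟨⟨g * k, by rw [hk, map_conj_map_conj]⟩, fun e => h.ne (map_conj_inj.1
    (e.trans (map_conj_eq_of_mem_norm hg).symm)), conj_mem_CC g h.cc, by rw [orderOf_conj, h.t2],
    mul_mem (mul_mem hg h.nn) (inv_mem hg)⟩

omit [Finite G]

variable (k : Kt A)
include k

theorem Tw.out (h : Tw A C t) : ¬ In A t := by
  obtain ⟨g, rfl⟩ := h.cj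
  have h1 := k.out g 1 (by rw [map_conj_one]; exact h.ne) t h.cc h.t2
  rw [map_conj_one] at h1
  exact h1 h.nn

theorem Tw.mem (h : Tw A C t) (hx : Commute x t) : x ∈ NN C := by
  obtain ⟨g, rfl⟩ := h.cj
  exact k.cen g t h.cc h.t2 (mem_C1.2 hx)

theorem Tw.o2 (h : Tw A C t) (hx : Commute x t) (hy : Commute y t) : In C x ∨ In C y ∨ In C (x * y) := by
  have h1 := h.mem k hx
  have h2 := h.mem k hy
  obtain ⟨g, rfl⟩ := h.cj
  exact k.o2 g x h1 y h2

theorem Tw.sq_in (h : Tw A C t) (hx : Commute x t) : In C (x * x) := by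
  rcases h.o2 k hx hx with e | e | e
  exacts [e.mul e, e.mul e, e]

theorem Tw.zeta (h : Tw A C t) (hx : x ∈ CC A) (x2 : x * x = 1) (hc : Commute x t) (hi : In C x) : x = 1 := by
  by_contra h1
  have h2 := h.mem k hc
  obtain ⟨g, rfl⟩ := h.cj
  exact k.out 1 g (by rw [map_conj_one]; exact h.ne.symm) x (by rwa [map_conj_one]) (ord2 x2 h1) h2 hi

theorem Tw.not_in (h : Tw A C t) (h' : Tw A C' t') (hc : Commute t t') (hne : t * t' ≠ 1) : ¬ In C' t := by
  have h1 := h'.mem k hc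
  have h2 : C ≠ C' := by
    rintro rfl
    have h3 : Tw A C (t * t') := ⟨h.cj, h.ne, mul_mem h.cc h'.cc, ord2 (by
      rw [← pow_two, hc.mul_pow, pow_two, pow_two, h.sq, h'.sq, one_mul]) hne, mul_mem h.nn h'.nn⟩
    have h4 := k.o2 1 t (by rw [map_conj_one]; exact h.nn) t' (by rw [map_conj_one]; exact h'.nn)
    rw [map_conj_one] at h4
    rcases h4 with e | e | e
    exacts [h.out k e, h'.out k e, h3.out k e]
  obtain ⟨g, rfl⟩ := h.cj
  obtain ⟨m, rfl⟩ := h'.cj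
  exact k.out g m h2 t h.cc h.t2 h1

/-- The centre has order two. -/
theorem two {C : Fin 4 → Subgroup G} {s : Fin 4 → G} (h : Tw A B r) (hs : ∀ i, Tw A (C i) (s i))
    (h1 : ∀ i, Commute (s i) r) (h2 : ∀ i j, Commute (s i) (s j)) (h3 : ∀ i, s i * r ≠ 1)
    (h4 : ∀ i j, i ≠ j → s i * s j ≠ 1) (h5 : s 0 * s 1 * (s 2 * s 3) ∈ CC A) : False := by
  have o := fun i => (hs i).not_in k h (h1 i) (h3 i)
  have q : ∀ i j, In B (s i * s j) := fun i j =>
    ((h.o2 k (h1 i) (h1 j)).resolve_left (o i)).resolve_left (o j)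
  have q2 : ∀ i j, (s i * s j) ^ 2 = 1 := fun i j => by
    rw [(h2 i j).mul_pow, pow_two, pow_two, (hs i).sq, (hs j).sq, one_mul]
  have e := h.zeta k h5 (by
    rw [← pow_two, (((h2 0 2).mul_right (h2 0 3)).mul_left ((h2 1 2).mul_right (h2 1 3))).mul_pow, q2, q2, one_mul])
    (((h1 0).mul_left (h1 1)).mul_left ((h1 2).mul_left (h1 3))) ((q 0 1).mul (q 2 3))
  have o' := fun i (hi : i ≠ 0) => (hs i).not_in k (hs 0) (h2 i 0) (h4 i 0 hi)
  have q' := (((hs 0).o2 k (h2 1 0) (h2 2 0)).resolve_left (o' 1 (by decide))).resolve_left (o' 2 (by decide))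
  refine o' 3 (by decide) ?_
  have e' : s 3 = s 0 * (s 1 * s 2) := by
    rw [← inv_eq_of_mul_eq_one_right (hs 3).sq, inv_eq_iff_mul_eq_one, ← mul_eq_one_comm, ← e]
    group
  rw [e']
  exact (In.of_CC (hs 0).cc).mul q'

section

variable {i : G} (iA : i ∈ A) (iC : i ∈ CC A) (i2 : i * i ≠ 1) (i4 : i * i * (i * i) = 1)
  (hZ : ∀ c ∈ A, c ∈ CC A → c = 1 ∨ c = i ∨ c = i * i ∨ c = i⁻¹)
include i4 hZ

omit k in
theorem sq_Z {c : G} (h1 : c ∈ A) (h2 : c ∈ CC A) : c * c = 1 ∨ c * c = i * i := by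
  rcases hZ c h1 h2 with rfl | rfl | rfl | rfl
  exacts [.inl (one_mul _), .inr rfl, .inl i4, .inr (by rw [← mul_inv_rev, inv_eq_of_mul_eq_one_right i4])]

theorem Tw.fix (h : Tw A C t) {c : G} (h1 : c ∈ A) (h2 : c ∈ CC A) (hc : Commute c t) : c * c = 1 := by
  refine h.zeta k (mul_mem h2 h2) ?_ (hc.mul_left hc) (h.sq_in k hc)
  rcases sq_Z i4 hZ h1 h2 with e | e <;> rw [e]
  exacts [one_mul _, i4]

include iA iC i2

theorem Tw.inv (h : Tw A C t) : t * i * t⁻¹ = i⁻¹ := by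
  have h1 : t * i * t⁻¹ * (t * i * t⁻¹) ≠ 1 := fun e => i2 (by
    calc i * i = t⁻¹ * (t * i * t⁻¹ * (t * i * t⁻¹)) * t := by group
      _ = 1 := by rw [e]; group)
  have h2 := conj_mem_CC t iC
  rw [map_conj_eq_of_mem_norm h.nn] at h2
  rcases hZ _ (conj_mem_of_mem_normalizer h.nn iA) h2 with e | e | e | e
  · exact absurd (by rw [e, one_mul]) h1
  · exact absurd (h.fix k i4 hZ iA iC (comm_of_conj_eq e).symm) i2
  · exact absurd (by rw [e, i4]) h1
  · exact e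

theorem Tw.cz (h : Tw A C t) : Commute (i * i) t := by
  refine (comm_of_conj_eq ?_).symm
  calc t * (i * i) * t⁻¹ = t * i * t⁻¹ * (t * i * t⁻¹) := by group
    _ = _ := by rw [h.inv k iA iC i2 i4 hZ, ← mul_inv_rev, inv_eq_of_mul_eq_one_right i4]

theorem four (h : Tw A C t) (h' : Tw A C' t') (hc : Commute t t') (hn : t * t' ∉ CC A) : False := by
  have h1 := h.conj (inv_mem (CC_le_NN A iC))
  have e : i⁻¹ * t * i⁻¹⁻¹ = i * i * t := by
    calc i⁻¹ * t * i⁻¹⁻¹ = i⁻¹ * (t * i * t⁻¹) * t := by group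
      _ = _ := by rw [h.inv k iA iC i2 i4 hZ, ← mul_inv_rev, inv_eq_of_mul_eq_one_right i4]
  rw [e] at h1
  have cz := h'.cz k iA iC i2 i4 hZ
  rcases h'.o2 k cz hc with m | m | m
  · exact i2 (h'.zeta k (mul_mem iC iC) i4 cz m)
  · exact h.not_in k h' hc (fun m => hn (m ▸ one_mem _)) m
  · refine h1.not_in k h' (cz.mul_left hc) (fun m => hn ?_) m
    rw [mul_assoc] at m
    rw [eq_inv_of_mul_eq_one_right m]
    exact inv_mem (mul_mem iC iC)

end

end COu

open COu in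
theorem cout (h : Pr A B) (c : ∀ g : G, CMG (A ^ᶜ g)) (hr : r ∈ CC B) (r2 : orderOf r = 2)
    (hA : r ∈ NN A) : False := by
  have k := kt h.sd c
  have cA : CMG A := by simpa only [map_conj_one] using c 1
  have w : Tw A B r := ⟨h.cj, h.ne, hr, r2, hA⟩
  have ri := inv_eq_of_mul_eq_one_right w.sq
  obtain ⟨g, gA, h1, h2, h3, h4⟩ := cA.oc r hA w.sq (w.out k)
  have hs := fun i => w.conj (le_normalizer (gA i))
  have yA : ∀ i, ⁅g i, r⁆ ∈ A := fun i => by
    rw [commutatorElement_def, mul_assoc, mul_assoc, ← mul_assoc r]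
    exact mul_mem (gA i) (conj_mem_of_mem_normalizer hA (inv_mem (gA i)))
  have ey : ∀ i, ⁅g i, r⁆ = g i * r * (g i)⁻¹ * r := fun i => by rw [commutatorElement_def, ri]
  simp only [ey] at h1 h2 h3 h4 yA
  generalize hC : (fun i => B ^ᶜ g i) = C
  generalize hσ : (fun i => g i * r * (g i)⁻¹) = s
  have hs' : ∀ i, Tw A (C i) (s i) := by rw [← hC, ← hσ]; exact hs
  have e1 : ∀ i, g i * r * (g i)⁻¹ = s i := fun i => congrFun hσ i
  simp only [e1] at h1 h2 h3 h4 yA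
  have si := fun i => inv_eq_of_mul_eq_one_right (hs' i).sq
  have e2 : ∀ i j, s i * r * (s j * r)⁻¹ = s i * s j := fun i j => by
    rw [mul_inv_rev, si, mul_assoc, mul_inv_cancel_left]
  have sA : ∀ i j, s i * s j ∈ A := fun i j => e2 i j ▸ mul_mem (yA i) (inv_mem (yA j))
  simp only [e2] at h2
  rcases cA.card with hc | hc
  · have l : ∀ x ∈ A, x * x ∈ CC A → x * x = 1 := fun x hx x2 => by
      obtain ⟨d, hd, e⟩ := cA.lift x hx x2
      have h5 := pow_card_eq_one' (x := (⟨d, hd⟩ : ↥(A ⊓ CC A)))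
      rw [hc] at h5
      rw [e, ← pow_two]
      exact congrArg Subtype.val h5
    have c1 : ∀ i, Commute (s i) r := fun i => comm_of_sq (hs' i).sq w.sq (l _ (yA i) (h1 i).2)
    have e3 : ∀ i j, s i * r * (s j * r) = s i * s j := fun i j => by
      rw [(c1 j).eq, mul_assoc, ← mul_assoc r, w.sq, one_mul]
    refine two k w hs' c1 (fun i j => comm_of_sq (hs' i).sq (hs' j).sq (l _ (sA i j) ?_))
      (fun i e => (h1 i).1 (e ▸ one_mem _)) (fun i j hij e => h2 i j hij (e ▸ one_mem _)) ?_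
    · have h5 := h3 i j
      rwa [commutatorElement_def, inv_eq_of_mul_eq_one_right (l _ (yA i) (h1 i).2),
        inv_eq_of_mul_eq_one_right (l _ (yA j) (h1 j).2), mul_assoc _ (s i * r), e3] at h5
    · rwa [mul_assoc _ (s 2 * r), e3, e3] at h4
  · obtain ⟨i, hi⟩ := cA.cyc.exists_generator
    have o4 : orderOf (i : G) = 4 := by
      rw [Subgroup.orderOf_coe, orderOf_eq_card_of_forall_mem_zpowers hi, hc]
    have i4 : (i : G) * i * (i * i) = 1 := by
      rw [← pow_orderOf_eq_one (i : G), o4]; simp only [pow_succ, pow_zero, one_mul, mul_assoc]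
    have i2 : (i : G) * i ≠ 1 := fun e => by
      have h5 := orderOf_dvd_of_pow_eq_one ((pow_two _).trans e)
      rw [o4] at h5
      omega
    have hZ : ∀ d ∈ A, d ∈ CC A → d = 1 ∨ d = i ∨ d = i * i ∨ d = (i : G)⁻¹ := fun d d1 d2 => by
      obtain ⟨n, hn⟩ := (mem_powers_iff_mem_zpowers.2 (hi ⟨d, d1, d2⟩))
      have h5 : (i : G) ^ (n % 4) = d := by
        rw [← o4, pow_mod_orderOf]
        exact congrArg Subtype.val hn
      have h6 : n % 4 < 4 := Nat.mod_lt _ (by norm_num)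
      generalize n % 4 = m at h5 h6
      subst h5
      interval_cases m
      exacts [.inl (pow_zero _), .inr (.inl (pow_one _)), .inr (.inr (.inl (pow_two _))),
        .inr (.inr (.inr (eq_inv_of_mul_eq_one_left (by
          rw [← i4]; simp only [pow_succ, pow_zero, one_mul, mul_assoc]))))]
    have y2 : ∀ j, s j * r * (s j * r) = i * i := fun j => by
      obtain ⟨d, hd, e⟩ := cA.lift _ (yA j) (h1 j).2
      rw [e]
      refine (sq_Z i4 hZ hd.1 hd.2).resolve_left fun m => ?_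
      exact four k i.2.1 i.2.2 i2 i4 hZ (hs' j) w (comm_of_sq (hs' j).sq w.sq (e.trans m)) (h1 j).1
    have e4 : ∀ j, r * s j * r = s j * (i * i) := fun j => by
      rw [← y2 j]
      calc r * s j * r = s j * s j * r * s j * r := by rw [(hs' j).sq, one_mul]
        _ = _ := by group
    have cz := fun j => (hs' j).cz k i.2.1 i.2.2 i2 i4 hZ
    have c1 : Commute (s 0 * s 1) r := by
      refine (comm_of_conj_eq ?_).symm
      calc r * (s 0 * s 1) * r⁻¹ = r * s 0 * r * (r⁻¹ * s 1 * r⁻¹) := by group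
        _ = s 0 * ((i : G) * i * s 1) * (i * i) := by rw [ri, e4, e4]; group
        _ = s 0 * s 1 * ((i : G) * i * (i * i)) := by rw [(cz 1).eq]; group
        _ = _ := by rw [i4, mul_one]
    have c2 : s 0 * s 1 * (s 0 * s 1) ∈ CC A := by
      have h5 := h3 0 1
      have e5 : ⁅s 0 * r, s 1 * r⁆ = s 0 * s 1 * (s 0 * s 1) := by
        calc ⁅s 0 * r, s 1 * r⁆ = s 0 * (r * (s 0 * (s 1)⁻¹)⁻¹ * r⁻¹) * (s 1)⁻¹ := by
              rw [commutatorElement_def]; group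
          _ = _ := by rw [si, conj_eq_of_comm c1.symm.inv_right, mul_inv_rev, si, si]; group
      rwa [e5] at h5
    have c3 := w.zeta k c2 (w.fix k i4 hZ (mul_mem (sA 0 1) (sA 0 1)) c2 (c1.mul_left c1)) (c1.mul_left c1)
      (w.sq_in k c1)
    exact four k i.2.1 i.2.2 i2 i4 hZ (hs' 0) (hs' 1) (comm_of_sq (hs' 0).sq (hs' 1).sq c3) (h2 0 1 (by decide))

end Cfsg.Agent.QS
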