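import Mathlib
import Cfsg.Agent.QS.KD
import Cfsg.Agent.QS.Bas

/-! # S1817, piece QS-Sig: the counting lemma -/

set_option autoImplicit false
set_option linter.unusedVariables false
set_option linter.unusedSectionVars false

namespace Cfsg.Agent.QS

open Cfsg Subgroup Cfsg.Agent.GT Cfsg.Agent.Inv Cfsg.Agent.Cmp Cfsg.Agent.QE Cfsg.Agent.QF
open scoped commutatorElement

universe u

variable {G : Type u} [Group G] [Finite G] {T A B R R' U Z D : Subgroup G} {z y r a x : G} {p : ℕ}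

theorem Sig.orb (E N : Subgroup G) :
    {E' : Subgroup G | ∃ n ∈ N, E ^ᶜ n = E'}.ncard = (NN E).relIndex N := by
  open scoped Pointwise in
  let ι : MulAction N (Subgroup G) :=
    MulAction.compHom (Subgroup G) ((MulAut.conj (G := G)).comp N.subtype)
  have h := @MulAction.index_stabilizer N (Subgroup G) _ ι E
  have h1 : @MulAction.stabilizer N (Subgroup G) _ ι E = (NN E).subgroupOf N :=
    Subgroup.ext fun g => map_conj_eq_self_iff (H := E) (g := (g : G))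
  have h2 : @MulAction.orbit N (Subgroup G) ι.toSMul E = {E' : Subgroup G | ∃ n ∈ N, E ^ᶜ n = E'} :=
    Set.ext fun E' => ⟨fun ⟨g, hg⟩ => ⟨g, g.2, hg⟩, fun ⟨g, hg, e⟩ => ⟨⟨g, hg⟩, e⟩⟩
  rw [h1, h2] at h
  exact h.symm

theorem Sig.nn_inf {H K : Subgroup G} {n : G} (h1 : n ∈ NN H) (h2 : n ∈ NN K) : n ∈ NN (H ⊓ K) :=
  map_conj_eq_self_iff.1 (by
    rw [map_conj_inf, map_conj_eq_of_mem_norm h1, map_conj_eq_of_mem_norm h2])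

theorem Sig.nn_sup {H K : Subgroup G} {n : G} (h1 : n ∈ NN H) (h2 : n ∈ NN K) : n ∈ NN (H ⊔ K) :=
  map_conj_eq_self_iff.1 (by
    rw [map_conj_sup, map_conj_eq_of_mem_norm h1, map_conj_eq_of_mem_norm h2])

theorem Sig.nn_CC {H : Subgroup G} {n : G} (h1 : n ∈ NN H) : n ∈ NN (CC H) :=
  map_conj_eq_self_iff.1 (by rw [CC, ← centralizer_map_conj, map_conj_eq_of_mem_norm h1])

theorem sigma {E N H : Subgroup G} {Ω : Set G} (hZE : Z ⊓ E = ⊥) (hc : Z ≤ CC E) (hE : E ≠ ⊥)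
    (hN : N ≤ NN (Z ⊔ E) ⊓ NN Z) (hH : H ≤ N ⊓ CC E)
    (ti : ∀ n ∈ N, ∀ e ∈ E, e ≠ 1 → n * e * n⁻¹ ∈ E → n ∈ NN E)
    (hΩ : ∀ n ∈ N, n ∉ NN E → ∀ v ∈ Z, ∀ e ∈ E, e ≠ 1 → v * e ∈ E ^ᶜ n → v ∈ Ω)
    (tr : ∀ a ∈ Ω, ∀ b ∈ Ω, ∃ h ∈ H, h * a * h⁻¹ = b) (mv : ∃ n ∈ N, n ∉ NN E) :
    (NN E).relIndex N = Ω.ncard + 1 := by
  obtain ⟨⟨e, he⟩, e1⟩ := (ne_bot_iff_exists_ne_one).1 hE
  have e1 : e ≠ 1 := fun h => e1 (Subtype.ext h)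
  have one : ∀ v ∈ Z, v ∈ E → v = 1 := fun v h1 h2 => mem_bot.1 (hZE ▸ mem_inf.2 ⟨h1, h2⟩)
  have hEZ : E ≤ NN Z := (le_centralizer_iff.1 hc).trans (CC_le_NN Z)
  -- existence of `v`
  have ex : ∀ n ∈ N, ∃ v ∈ Z, v * e ∈ E ^ᶜ n := fun n hn => by
    have h1 : n⁻¹ * e * n ∈ Z ⊔ E := conj_mem_of_mem_normalizer' (hN hn).1 (mem_sup_right he)
    obtain ⟨v, hv, e', he', h2⟩ := exists_mul_of_mem_sup hEZ h1
    refine ⟨n * v⁻¹ * n⁻¹, conj_mem_of_mem_normalizer (hN hn).2 (inv_mem hv), mem_map_conj.2 ?_⟩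
    have : n⁻¹ * (n * v⁻¹ * n⁻¹ * e) * n = v⁻¹ * (n⁻¹ * e * n) := by group
    rw [this, ← h2, inv_mul_cancel_left]
    exact he'
  -- uniqueness of `v`
  have un : ∀ n ∈ N, ∀ v ∈ Z, ∀ w ∈ Z, v * e ∈ E ^ᶜ n → w * e ∈ E ^ᶜ n → v = w :=
    fun n hn v hv w hw h1 h2 => by
      have h3 := mem_map_conj.1 (mul_mem h1 (inv_mem h2))
      rw [show v * e * (w * e)⁻¹ = v * w⁻¹ by group] at h3
      have h4 := one _ (conj_mem_of_mem_normalizer' (hN hn).2 (mul_mem hv (inv_mem hw))) h3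
      have h5 : v * w⁻¹ = n * (n⁻¹ * (v * w⁻¹) * n) * n⁻¹ := by group
      rw [h4, mul_one, mul_inv_cancel] at h5
      exact mul_inv_eq_one.1 h5
  -- `v` determines the conjugate
  have inj : ∀ n ∈ N, ∀ m ∈ N, ∀ v ∈ Z, v * e ∈ E ^ᶜ n → v * e ∈ E ^ᶜ m → E ^ᶜ n = E ^ᶜ m :=
    fun n hn m hm v hv h1 h2 => by
      refine map_conj_eq_map_conj_iff.2 (ti _ (mul_mem (inv_mem hm) hn) _ (mem_map_conj.1 h1) (fun h => ?_) ?_)
      · have h5 : v * e = n * (n⁻¹ * (v * e) * n) * n⁻¹ := by group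
        rw [h, mul_one, mul_inv_cancel] at h5
        have h6 : v = e⁻¹ := eq_inv_of_mul_eq_one_left h5
        exact e1 (inv_eq_one.1 (h6 ▸ one v hv (h6 ▸ inv_mem he)))
      · rw [show m⁻¹ * n * (n⁻¹ * (v * e) * n) * (m⁻¹ * n)⁻¹ = m⁻¹ * (v * e) * m by group]
        exact mem_map_conj.1 h2
  -- every element of `Ω` occurs
  have sur : ∀ b ∈ Ω, b ∈ Z ∧ ∃ n ∈ N, n ∉ NN E ∧ b * e ∈ E ^ᶜ n := fun b hb => by
    obtain ⟨n, hn, hn'⟩ := mv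
    obtain ⟨v, hv, h1⟩ := ex n hn
    obtain ⟨h, hh, rfl⟩ := tr v (hΩ n hn hn' v hv e he e1 h1) b hb
    have h2 := (hH hh).1
    have h3 := (hH hh).2
    refine ⟨conj_mem_of_mem_normalizer (hN h2).2 hv, h * n, mul_mem h2 hn,
      fun h4 => hn' ((mul_mem_cancel_left (CC_le_NN E h3)).1 h4), ?_⟩
    have h5 : h * v * h⁻¹ * e = h * (v * e) * h⁻¹ := by
      have := (comm_of_CC h3 he).inv_right.eq
      rw [mul_assoc, ← this]; group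
    rw [map_conj_mul, h5]
    exact conj_mem_map_conj.2 h1
  have h11 : (1 : G) * e ∈ E ^ᶜ (1 : G) := by rw [map_conj_one, one_mul]; exact he
  have n1 : (1 : G) ∉ Ω := fun h => by
    obtain ⟨-, n, hn, hn', h1⟩ := sur 1 h
    have := inj n hn 1 (one_mem _) 1 (one_mem _) h1 h11
    rw [map_conj_one] at this
    exact hn' (map_conj_eq_self_iff.1 this)
  have ex' : ∀ E' ∈ {E' : Subgroup G | ∃ n ∈ N, E ^ᶜ n = E'}, ∃ v, v ∈ Z ∧ v * e ∈ E' := by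
    rintro _ ⟨n, hn, rfl⟩
    exact ex n hn
  choose f hf using ex'
  rw [← Sig.orb, ← Set.ncard_insert_of_notMem n1]
  refine Set.ncard_congr f ?_ ?_ ?_
  · rintro _ ⟨n, hn, rfl⟩
    have h1 := hf _ ⟨n, hn, rfl⟩
    by_cases hn' : n ∈ NN E
    · refine .inl (un n hn _ h1.1 1 (one_mem _) h1.2 ?_)
      rw [map_conj_eq_of_mem_norm hn', one_mul]
      exact he
    · exact .inr (hΩ n hn hn' _ h1.1 e he e1 h1.2)
  · rintro _ _ ⟨n, hn, rfl⟩ ⟨m, hm, rfl⟩ h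
    have h1 := hf _ ⟨n, hn, rfl⟩
    have h2 := hf _ ⟨m, hm, rfl⟩
    exact inj n hn m hm _ h1.1 h1.2 (h ▸ h2.2)
  · rintro b (rfl | hb)
    · have h1 := hf _ ⟨1, one_mem _, rfl⟩
      exact ⟨_, ⟨1, one_mem _, rfl⟩, un 1 (one_mem _) _ h1.1 1 (one_mem _) h1.2 h11⟩
    · obtain ⟨hz, n, hn, -, h2⟩ := sur b hb
      have h1 := hf _ ⟨n, hn, rfl⟩
      exact ⟨_, ⟨n, hn, rfl⟩, un n hn _ h1.1 b hz h1.2 h2⟩

theorem sig_ti (h : St T A z) (hz : A ⊓ CC A = ⊥) (sR : Syl R (CC A)) (hZ : Z ≤ A) {n : G}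
    (hn : n ∈ NN (Z ⊔ R)) : (n ∈ NN A → n ∈ NN R) ∧ ∀ e ∈ R, e ≠ 1 → n * e * n⁻¹ ∈ R → n ∈ NN R := by
  have hRZ : R ≤ NN Z := sR.le.trans ((centralizer_le hZ).trans (CC_le_NN Z))
  have e1 : (Z ⊔ R) ⊓ CC A = R := by
    refine le_antisymm (fun x hx => ?_) (le_inf le_sup_right sR.le)
    obtain ⟨v, hv, r, hr, rfl⟩ := exists_mul_of_mem_sup hRZ hx.1
    have h1 : v ∈ CC A := (mul_mem_cancel_right (sR.le hr)).1 hx.2
    rw [mem_bot.1 (hz ▸ mem_inf.2 ⟨hZ hv, h1⟩ : v ∈ (⊥ : Subgroup G)), one_mul]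
    exact hr
  have k : n ∈ NN A → n ∈ NN R := fun h1 => e1 ▸ Sig.nn_inf hn (Sig.nn_CC h1)
  refine ⟨k, fun e he e1 h1 => ?_⟩
  obtain ⟨m, hm⟩ := (Two.of_mem sR.two he).exists_inv e1
  refine k (h.nn_of (sR.le (pow_mem he m)) hm ?_)
  rw [← conj_pow]
  exact sR.le (pow_mem h1 m)

theorem sig_idx (h : St T A z) (sR : Syl R (CC A)) (hZ : Z ≤ A) (h2 : IsPGroup 2 Z)
    (hi : (NN R).relIndex (NN (Z ⊔ R) ⊓ NN Z) = Nat.card Z) : Nat.card Z ∣ (NN Z).relIndex (NN A) := by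
  have : Fact (Nat.Prime 2) := ⟨Nat.prime_two⟩
  have hK : CC A ≤ NN Z ⊓ NN A := le_inf ((centralizer_le hZ).trans (CC_le_NN Z)) (CC_le_NN A)
  obtain ⟨S, hS, sS⟩ := exists_syl_ge sR.two (sR.le.trans hK)
  have hn : NN Z ⊓ NN A ≤ NN (CC A) := fun n hn => Sig.nn_CC hn.2
  have e1 : S ⊓ CC A = R :=
    le_antisymm (sR.le_of_le sS.two.to_inf_left (le_inf hS sR.le) inf_le_right) (le_inf hS sR.le)
  have hSR : S ≤ NN R := fun s hs => e1 ▸ Sig.nn_inf (le_normalizer hs) (hn (sS.le hs))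
  have j : ¬ 2 ∣ (NN R ⊓ (NN Z ⊓ NN A)).relIndex (NN Z ⊓ NN A) := fun e =>
    sS.idx (e.trans (relIndex_dvd_of_le_left _ (le_inf hSR sS.le)))
  have d1 : Nat.card Z ∣ (NN R ⊓ (NN Z ⊓ NN A)).index := by
    have l1 : NN R ⊓ (NN Z ⊓ NN A) ≤ NN R ⊓ (NN (Z ⊔ R) ⊓ NN Z) := fun n hn =>
      ⟨hn.1, Sig.nn_sup hn.2.1 hn.1, hn.2.1⟩
    refine Dvd.dvd.trans ?_ (index_dvd_of_le l1)
    rw [← hi, ← inf_relIndex_right]
    exact relIndex_dvd_index_of_le inf_le_right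
  rw [← relIndex_mul_index (inf_le_right : NN R ⊓ (NN Z ⊓ NN A) ≤ _),
    ← relIndex_mul_index (inf_le_right : NN Z ⊓ NN A ≤ _), inf_relIndex_right (NN Z)] at d1
  obtain ⟨k, hk⟩ := IsPGroup.iff_card.1 h2
  rw [hk] at d1 ⊢
  have c : ∀ m : ℕ, ¬ 2 ∣ m → Nat.Coprime (2 ^ k) m := fun m hm =>
    Nat.Coprime.pow_left k ((Nat.Prime.coprime_iff_not_dvd Nat.prime_two).2 hm)
  exact (c _ h.odd_idx).dvd_of_dvd_mul_right ((c _ j).dvd_of_dvd_mul_left d1)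

end Cfsg.Agent.QS
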