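import Mathlib
import Cfsg.Agent.QS.KD
import Cfsg.Agent.QS.Bas
import Cfsg.Agent.QS.Frm
import Cfsg.Agent.QS.Sig
import Cfsg.Agent.QS.AA

/-! # S1817, piece QS-SS: type S (proof in stubs/Cfsg/Agent/QS/PLAN.md) -/

set_option autoImplicit false
set_option linter.unusedVariables false

namespace Cfsg.Agent.QS

open Cfsg Subgroup Cfsg.Agent.GT Cfsg.Agent.Inv Cfsg.Agent.Cmp Cfsg.Agent.QE Cfsg.Agent.QF
open scoped commutatorElement

universe u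

variable {G : Type u} [Group G] [Finite G] {T A B R R' U Z D : Subgroup G} {z y r a x : G} {p : ℕ}

theorem SS.leA (s : SG p A y Z) : Z ≤ A := s.le.trans (YG_le.trans inf_le_left)

theorem SS.le_of {Z' : Subgroup G} {v : G} (s : SG p A y Z) (s' : SG p B v Z') (e : YG p A y = YG p B v)
    (hz : B ⊓ CC B = ⊥) : Z ≤ Z' := fun u hu => by
  have hB : u ∈ B := (YG_le (e ▸ s.le hu)).1
  obtain ⟨w, hw, h⟩ := s'.cen u (le_normalizer hB) (.of_sq (s.sq u hu)) (e ▸ s.cz hu)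
  have h1 : u * w⁻¹ ∈ B ⊓ CC B := mem_inf.2 ⟨mul_mem hB (inv_mem (SS.leA s' hw)), h⟩
  rw [hz, mem_bot, mul_inv_eq_one] at h1
  exact h1 ▸ hw

theorem SS.nn_sup {n : G} (h1 : n ∈ NN Z) (h2 : n ∈ NN R) : n ∈ NN (Z ⊔ R) := by
  rw [← map_conj_eq_self_iff] at h1 h2 ⊢
  rw [map_conj_sup, h1, h2]

/-- Step 1. -/
theorem SS.step1 (h : Fr A B R R') (hz : A ⊓ CC A = ⊥) (s : SG p A y Z) (hY : YG p A y ≤ B) :
    R ≤ CC R' ∧ ∀ x ∈ R', ∃ v ∈ Z, x * v⁻¹ ∈ R := by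
  have k : ∀ x ∈ R', x * x = 1 ∧ ∃ v ∈ Z, x * v⁻¹ ∈ CC A := fun x hx => by
    have hx' := h.sR'.le hx
    have t : Two x := .of_mem h.sR'.two hx
    obtain ⟨v, hv, hk⟩ := s.cen x hx'.2 t (centralizer_anti hY hx'.1)
    refine ⟨h.toPr.two ?_ (mul_mem hx'.1 hx'.1) (by simpa only [sq] using t.pow 2), v, hv, hk⟩
    have c := comm_of_CC hk (SS.leA s hv)
    have e : x * x = (x * v⁻¹) * (x * v⁻¹) := by
      calc x * x = x * v⁻¹ * (v * (x * v⁻¹)) * v := by group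
        _ = x * v⁻¹ * (x * v⁻¹) * (v * v) := by rw [c.eq]; group
        _ = _ := by rw [s.sq v hv, mul_one]
    rw [e]
    exact mul_mem hk hk
  refine ⟨h.p2 hz fun x hx _ => ?_, fun x hx => ?_⟩
  · obtain ⟨-, v, hv, hk⟩ := k x hx
    exact ⟨v, SS.leA s hv, hk⟩
  · obtain ⟨h2, v, hv, hk⟩ := k x hx
    exact ⟨v, hv, (h.kR hz hx h2 (SS.leA s hv) hk).1⟩

/-- Step 2: the projection `R' → R` is onto. -/
theorem SS.step2 (e : R ≃* R') (hi : Z ⊓ R' = ⊥) (k : ∀ x ∈ R', ∃ v ∈ Z, x * v⁻¹ ∈ R) :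
    ∀ w ∈ R, ∃ x ∈ R', ∃ v ∈ Z, w = x * v := by
  choose! v hv hk using k
  let φ : R' → R := fun x => ⟨x * (v x)⁻¹, hk x x.2⟩
  have hφ : Function.Injective φ := fun x x' hx => by
    have h1 : (x : G) * (v x)⁻¹ = x' * (v x')⁻¹ := congrArg Subtype.val hx
    have h2 : (x' : G)⁻¹ * x = (v x')⁻¹ * v x := by
      calc (x' : G)⁻¹ * x = (x' : G)⁻¹ * (x * (v x)⁻¹) * v x := by group
        _ = _ := by rw [h1]; group
    have h3 : (x' : G)⁻¹ * x ∈ Z ⊓ R' := mem_inf.2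
      ⟨h2 ▸ mul_mem (inv_mem (hv _ x'.2)) (hv _ x.2), mul_mem (inv_mem x'.2) x.2⟩
    rw [hi, mem_bot, inv_mul_eq_one] at h3
    exact Subtype.ext h3.symm
  intro w hw
  obtain ⟨x, hx⟩ := (Finite.injective_iff_surjective_of_equiv e.symm.toEquiv).1 hφ ⟨w, hw⟩
  exact ⟨x, x.2, _, inv_mem (hv _ x.2), (congrArg Subtype.val hx).symm⟩

theorem SS.third (h : 2 < Nat.card Z) (v : G) : ∃ b ∈ Z, b ≠ 1 ∧ b ≠ v := by
  by_contra! k
  have h1 : (Z : Set G) ⊆ {1, v} := fun b hb => by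
    by_cases e : b = 1
    · exact .inl e
    · exact .inr (k b hb e)
  have h2 := (Set.ncard_le_ncard h1 (Set.toFinite _)).trans (Set.ncard_insert_le _ _)
  rw [Set.ncard_singleton] at h2
  exact absurd h (not_lt.2 h2)

/-- Step 4. -/
theorem SS.step4 (h : St T A z) (hz : A ⊓ CC A = ⊥) (sR : Syl R (CC A)) (hb : R ≠ ⊥) (s : SG p A y Z)
    {n : G} (h1 : n ∈ NN (Z ⊔ R)) (h2 : n ∈ NN Z) (h3 : n ∉ NN R) : False := by
  have hZ := SS.leA s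
  have hA : A ≤ CC R := le_centralizer_iff.1 sR.le
  have ti : ∀ n ∈ NN (Z ⊔ R) ⊓ NN Z, ∀ e ∈ R, e ≠ 1 → n * e * n⁻¹ ∈ R → n ∈ NN R :=
    fun n hn => (sig_ti h hz sR hZ hn.1).2
  have k := sigma (Z := Z) (E := R) (N := NN (Z ⊔ R) ⊓ NN Z) (H := A ⊓ NN Z) (Ω := (Z : Set G) \ {1})
    (eq_bot_iff.2 (hz ▸ inf_le_inf hZ sR.le)) (hZ.trans hA) hb le_rfl
    (fun a ha => ⟨⟨SS.nn_sup ha.2 (CC_le_NN _ (hA ha.1)), ha.2⟩, hA ha.1⟩) ti
    (fun n hn h3 v hv e he e1 h4 => ⟨hv, fun v1 => h3 (by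
      rw [Set.mem_singleton_iff.1 v1, one_mul, mem_map_conj] at h4
      exact (inv_mem_iff (x := n)).1 (ti n⁻¹ (inv_mem hn) e he e1 (by simpa only [inv_inv] using h4)))⟩)
    (fun a ha b hb => by
      obtain ⟨g, g1, g2, g3⟩ := s.tr a ha.1 b hb.1 ha.2 hb.2
      exact ⟨g, ⟨g1, g2⟩, g3⟩) ⟨n, ⟨h1, h2⟩, h3⟩
  rw [Set.ncard_diff_singleton_add_one (one_mem Z) (Set.toFinite _)] at k
  exact s.idx (sig_idx h sR hZ (fun g => ⟨1, Subtype.ext (by simpa [sq] using s.sq g g.2)⟩) k)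

theorem ss_false (h : Ip A B y r) (f : FG p A) (hy : GoodG p A y) : False := by
  obtain ⟨Z, s, cl⟩ | ha := hy.ty
  swap
  · exact aa_false h f ha
  have hz := f.zen
  have fB := f.of_pr h.toPr
  have hzB := fB.zen
  have r2 := h.ord hz
  have hY : YG p A y = YY p A B := (YG_congr h.ry).symm.trans (h.toPr.yg f h.rB r2)
  have YB : YG p A y ≤ B := hY ▸ YY_le.trans inf_le_right
  have ZA := SS.leA s
  have ZB := s.le.trans YB
  obtain ⟨R', h1, sR'⟩ := exists_syl_ge (K := CC B ⊓ NN A) (Two.of_two r2).isPGroup (zpowers_le.2 ⟨h.rB, h.rN⟩)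
  have hr : r ∈ R' := h1 (mem_zpowers r)
  have r1 : r ≠ 1 := fun e => by simp [e] at r2
  obtain ⟨R, fr, -⟩ := h.toPr.exists_fr sR' (fun e => r1 (by rwa [e, mem_bot] at hr)) sR'.two le_rfl
    (sR'.le.trans inf_le_right)
  obtain ⟨hc, k1⟩ := SS.step1 fr hz s YB
  obtain ⟨e⟩ := fr.iso' hc
  have RB : R' ≤ CC B := sR'.le.trans inf_le_left
  have k2 := SS.step2 e (eq_bot_iff.2 (hzB ▸ inf_le_inf ZB RB)) k1
  have hW : Z ⊔ R = Z ⊔ R' := by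
    refine le_antisymm (sup_le le_sup_left fun w hw => ?_) (sup_le le_sup_left fun x hx => ?_)
    · obtain ⟨x, hx, v, hv, rfl⟩ := k2 w hw
      exact mul_mem (mem_sup_right hx) (mem_sup_left hv)
    · obtain ⟨v, hv, hk⟩ := k1 x hx
      simpa using mul_mem (mem_sup_right (S := Z) hk) (mem_sup_left hv)
  have w2 : orderOf (e.symm ⟨r, hr⟩ : G) = 2 := by
    rw [orderOf_coe, MulEquiv.orderOf_eq, ← orderOf_coe]; exact r2
  have hw := (e.symm ⟨r, hr⟩).2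
  generalize (e.symm ⟨r, hr⟩ : G) = w at w2 hw
  obtain ⟨x, hx, v, hv, ew⟩ := k2 w hw
  have wv : w * v⁻¹ ∈ CC B := by rw [ew, mul_inv_cancel_right]; exact RB hx
  have ip : Ip B A v w := h.toPr.symm.ip hzB (fr.sR.le hw) w2 (ZB hv) wv
  have hY' : YG p A y = YG p B v :=
    hY.trans (YY_comm.trans ((h.toPr.symm.yg fB (fr.sR.le hw) w2).symm.trans (YG_congr wv)))
  obtain ⟨g, hg⟩ := h.cj
  have k3 := cl g v (hg ▸ ZB hv) ip.y2 (by rw [← hg, hY'])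
  rw [← hg] at k3
  obtain ⟨Z', s'⟩ | ha := k3
  swap
  · exact aa_false ip fB ha
  obtain rfl : Z = Z' := le_antisymm (SS.le_of s s' hY' hzB) (SS.le_of s' s hY'.symm hz)
  have v1 : v ≠ 1 := fun e => by simpa [e] using ip.y2
  obtain ⟨b, hb, b1, bv⟩ := SS.third s.four v
  obtain ⟨n, nB, nZ, en⟩ := s'.tr v hv b hb v1 b1
  obtain ⟨T, z, st⟩ := h.sd
  refine SS.step4 st hz fr.sR (fun e => by simp [e] at hw; simp [hw] at w2) s (n := n) ?_ nZ fun nR => bv ?_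
  · rw [hW]
    exact SS.nn_sup nZ (CC_le_NN _ (le_centralizer_iff.1 RB nB))
  · have c1 := comm_of_CC (RB hx) nB
    have c2 := comm_of_CC (RB hx) (ZB (mul_mem hb (inv_mem hv)))
    have e1 : n * w * n⁻¹ * w⁻¹ = b * v⁻¹ := by
      calc n * w * n⁻¹ * w⁻¹ = n * x * n⁻¹ * ((n * v * n⁻¹) * v⁻¹) * x⁻¹ := by rw [ew]; group
        _ = _ := by rw [conj_eq_of_comm c1, en, conj_eq_of_comm c2.symm]
    have h3 : b * v⁻¹ ∈ A ⊓ CC A := mem_inf.2 ⟨ZA (mul_mem hb (inv_mem hv)),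
      fr.sR.le (e1 ▸ mul_mem (conj_mem_of_mem_normalizer nR hw) (inv_mem hw))⟩
    rwa [hz, mem_bot, mul_inv_eq_one] at h3

end Cfsg.Agent.QS
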