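import Mathlib
import Cfsg.Agent.QS.KD
import Cfsg.Agent.QS.Bas
import Cfsg.Agent.QS.Frm
import Cfsg.Agent.QS.SS

/-! # S1817, piece QS-CW: Sp4, the group R' (proof in stubs/Cfsg/Agent/QS/PLAN.md) -/

set_option autoImplicit false
set_option linter.unusedVariables false

namespace Cfsg.Agent.QS

open Cfsg Subgroup Cfsg.Agent.GT Cfsg.Agent.Inv Cfsg.Agent.Cmp Cfsg.Agent.QE Cfsg.Agent.QF
open scoped commutatorElement

universe u

variable {G : Type u} [Group G] [Finite G] {T A B R R' U Z D : Subgroup G} {z y r a x : G} {p : ℕ}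

theorem cw_mem (s : Syl U A) (ha : a ∈ A) (hn : a ∈ NN U) (h2 : Two a) : a ∈ U :=
  s.le_of_le (PG.isPGroup_sup_of_le_normalizer h2.isPGroup s.two (zpowers_le.2 hn)) le_sup_right
    (sup_le (zpowers_le.2 ha) s.le) (mem_sup_left (mem_zpowers a))

omit [Finite G] in
theorem cw_cen (ha : a ∈ A) (h : x * a⁻¹ ∈ CC A) : A ⊓ C1 a ≤ C1 x := fun l hl => mem_C1.2 (by
  have e := In.conj_eq h ha hl.1
  rw [← (mem_C1.1 hl.2).eq, mul_inv_cancel_right, mul_inv_eq_iff_eq_mul] at e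
  exact e.symm)

theorem cw_core (f : FG p A) (c : CG p A) (h : Ip A B y r) :
    ∃ U R, Syl U A ∧ Syl R (CC B ⊓ NN A) ∧ ∀ x ∈ R, x * x = 1 ∧ ∃ u ∈ U ⊓ CC U, x * u⁻¹ ∈ CC A := by
  have : Fact (Nat.Prime 2) := ⟨Nat.prime_two⟩
  have hz := f.zen
  have ng : ∀ v ∈ A, ∀ s ∈ CC B, orderOf s = 2 → s * v⁻¹ ∈ CC A → ¬ GoodG p A v := fun v hv s hs s2 k g =>
    ss_false (h.toPr.ip hz hs s2 hv k) f g
  have ng' : ∀ v ∈ CC B, ¬ GoodG p A v := fun v hv g => ng v g.yA v hv g.y2 (by simp) g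
  obtain ⟨U, hU⟩ : ∃ U, U = A ⊓ C1 y := ⟨_, rfl⟩
  have sU : Syl U A := hU ▸ (c.c1 y h.yA h.y2).resolve_left (ss_false h f)
  have yU : y ∈ U ⊓ CC U := ⟨hU ▸ ⟨h.yA, mem_C1.2 (Commute.refl y)⟩, mem_CC.2 fun k hk => mem_C1.1 (hU ▸ hk).2⟩
  have r2 := h.ord hz
  obtain ⟨T, z, sB⟩ := h.toPr.sdB
  have Ur : U ≤ C1 r := hU ▸ cw_cen h.yA h.ry
  have UB : U ≤ NN B := Ur.trans (sB.cen h.rB r2)
  obtain ⟨R, sR, nR, -, P2⟩ := h.toPr.exists_inv sU.two (le_inf (sU.le.trans le_normalizer) UB)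
  have RB : R ≤ CC B := sR.le.trans inf_le_left
  have RA : R ≤ NN A := sR.le.trans inf_le_right
  have cjU : ∀ x ∈ R, ∀ u ∈ U, x * u * x⁻¹ ∈ U := fun x hx u hu =>
    sU.le_of_le (T := (U ⊔ R) ⊓ A) (P2.to_le inf_le_left) (le_inf le_sup_left sU.le) inf_le_right
      (mem_inf.2 ⟨mul_mem (mul_mem (mem_sup_right hx) (mem_sup_left hu)) (inv_mem (mem_sup_right hx)),
        conj_mem_of_mem_normalizer (RA hx) (sU.le hu)⟩)
  have cmR : ∀ x ∈ R, ∀ u ∈ U, x * u * x⁻¹ * u⁻¹ ∈ R := fun x hx u hu => by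
    have := mul_mem hx (conj_mem_of_mem_normalizer (nR hu) (inv_mem hx))
    rwa [← mul_assoc, ← mul_assoc] at this
  have sq : ∀ x u : G, u ∈ A → x * u⁻¹ ∈ CC A → x * x = x * u⁻¹ * (x * u⁻¹) * (u * u) := fun x u hu k => by
    rw [← (comm_of_CC k hu).mul_mul_mul_comm, inv_mul_cancel_right]
  have s3 : ∀ x ∈ R, x * x = 1 → ∀ u ∈ A, x * u⁻¹ ∈ CC A → u ∈ U ⊓ CC U := fun x hx x2 u hu k => by
    have u2 : u * u = 1 := mem_bot.1 (hz ▸ mem_inf.2 ⟨mul_mem hu hu, by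
      rw [eq_inv_of_mul_eq_one_right ((sq x u hu k).symm.trans x2)]; exact inv_mem (mul_mem k k)⟩)
    have uU : u ∈ U := cw_mem sU hu (mem_normalizer_fintype fun w hw => by
      rw [← In.conj_eq k hu (sU.le hw)]; exact cjU x hx w hw) (Two.of_sq u2)
    refine ⟨uU, by_contra fun hn => ?_⟩
    have u1 : u ≠ 1 := fun e => hn (e ▸ one_mem _)
    have x1 : x ≠ 1 := fun e => hn (centralizer_le sU.le (by simpa [e] using k))
    have xo : orderOf x = 2 := orderOf_eq_prime (by rwa [pow_two]) x1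
    obtain ⟨g, hg, gd⟩ := c.c2 U sU y yU h.y2 (ss_false h f) u uU (orderOf_eq_prime (by rwa [pow_two]) u1)
      (ng u hu x (RB hx) xo k) hn
    have gA : g ∈ A := (sup_le sU.le inf_le_left :) hg
    have gB : g ∈ NN B := (sup_le UB ((cw_cen hu k).trans (sB.cen (RB hx) xo)) :) hg
    refine ng' _ ?_ gd
    rw [mul_assoc g, mul_assoc g, ← In.conj_eq h.ry h.yA (inv_mem gA), ← mul_assoc, ← mul_assoc]
    exact mul_mem (conj_mem_of_mem_normalizer (Frm_NC B gB) h.rB) (inv_mem h.rB)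
  have s0 : ∀ x ∈ R, ∀ u ∈ U, x * u⁻¹ ∈ CC A → u * u = 1 := fun x hx u hu k => by
    by_contra hn
    obtain ⟨v, hv, gd⟩ := c.c3 U sU u hu hn
    refine ng' v (RB ((commutator_le.2 fun a ha w hw => ?_ : _ ≤ R) hv)) gd
    obtain ⟨i, rfl⟩ := mem_zpowers_iff.1 ha
    have e : x ^ i * (u ^ i)⁻¹ ∈ CC A := by
      rw [← inv_mul_cancel_right x u, (comm_of_CC k (sU.le hu)).symm.mul_zpow, mul_inv_cancel_right]
      exact zpow_mem k i
    rw [commutatorElement_def, ← In.conj_eq e (zpow_mem (sU.le hu) i) (sU.le hw)]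
    exact cmR _ (zpow_mem hx i) w hw
  have s5 : ∀ n : ℕ, ∀ x ∈ R, x ^ 2 ^ n = 1 → x * x = 1 ∧ ∃ u ∈ U ⊓ CC U, x * u⁻¹ ∈ CC A := fun n => by
    induction n with
    | zero => exact fun x _ e => ⟨by simp_all, 1, one_mem _, by simp_all⟩
    | succ n ih =>
      intro x hx e
      obtain ⟨-, u1, h1, k1⟩ := ih (x * x) (mul_mem hx hx) (by rwa [← pow_two, ← pow_mul, ← pow_succ'])
      obtain ⟨u, hu, k⟩ := c.k1 U sU x (RA hx) u1 h1 k1 fun w hw => by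
        have dU := mul_mem (cjU x hx w hw) (inv_mem hw)
        have dR := cmR x hx w hw
        exact s3 _ dR (s0 _ dR _ dU (by simp)) _ (sU.le dU) (by simp)
      have x2 : x * x = 1 := h.toPr.two
        (by rw [sq x u (sU.le hu) k, s0 x hx u hu k, mul_one]; exact mul_mem k k) (RB (mul_mem hx hx))
        (Two.of_mem sR.two (mul_mem hx hx))
      exact ⟨x2, u, s3 x hx x2 u (sU.le hu) k, k⟩
  exact ⟨U, R, sU, sR, fun x hx => (Two.of_mem sR.two hx).elim fun n e => s5 n x hx e⟩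

theorem cw (f : FG p A) (c : CG p A) (h : Ip A B y r) (sR' : Syl R' (CC B ⊓ NN A)) :
    ∃ U, Syl U A ∧ ∀ x ∈ R', x * x = 1 ∧ ∃ u ∈ U ⊓ CC U, x * u⁻¹ ∈ CC A := by
  obtain ⟨U, R, sU, sR, k⟩ := cw_core f c h
  obtain ⟨j, hj, hc⟩ := sR.exists_conj sR'.two sR'.le
  have e : A ^ᶜ j⁻¹ = A := map_conj_eq_of_mem_norm (inv_mem hj.2)
  refine ⟨U ^ᶜ j⁻¹, e ▸ sU.conj j⁻¹, fun x hx => ?_⟩
  obtain ⟨x2, u, hu, h1⟩ := k _ (hc x hx)
  refine ⟨by rwa [conj_mul, conj_eq_one_iff] at x2, j⁻¹ * u * j⁻¹⁻¹,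
    ⟨conj_mem_map_conj.2 hu.1, conj_mem_CC _ hu.2⟩, ?_⟩
  have := conj_mem_CC j⁻¹ h1
  rw [e] at this
  convert this using 1
  group

end Cfsg.Agent.QS
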