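import Mathlib
import Cfsg.Agent.QS.KD
import Cfsg.Agent.QS.Bas
import Cfsg.Agent.QS.Frm

/-! # S1817, piece QS-CX1: Sp4, inner action (proof in stubs/Cfsg/Agent/QS/PLAN.md) -/

set_option autoImplicit false
set_option linter.unusedVariables false

namespace Cfsg.Agent.QS

open Cfsg Subgroup Cfsg.Agent.GT Cfsg.Agent.Inv Cfsg.Agent.Cmp Cfsg.Agent.QE Cfsg.Agent.QF
open scoped commutatorElement

universe u

variable {G : Type u} [Group G] [Finite G] {T A B R R' U Z D : Subgroup G} {z y r a x : G} {p : ℕ}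

/-- The elements acting as inner automorphisms. -/
def cx1I (B : Subgroup G) : Subgroup G where
  carrier := {x | In B x}
  one_mem' := In.of_mem (one_mem B)
  mul_mem' := In.mul
  inv_mem' := fun {x} ⟨a, ha, h⟩ => by
    rw [show x⁻¹ = a⁻¹ * (x * a⁻¹)⁻¹ by group]
    exact In.mul (In.of_mem (inv_mem ha)) (In.of_CC (inv_mem h))

theorem cx1_mem (s : Syl U A) (ha : a ∈ A) (hn : a ∈ NN U) (h2 : Two a) : a ∈ U :=
  s.le_of_le (PG.isPGroup_sup_of_le_normalizer h2.isPGroup s.two (zpowers_le.2 hn)) le_sup_right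
    (sup_le (zpowers_le.2 ha) s.le) (mem_sup_left (mem_zpowers a))

theorem cx1_cc {X Y W : Subgroup G} (h : X ≤ CC Y) (h' : X ≤ CC W) : X ≤ CC (Y ⊔ W) :=
  le_centralizer_iff.1 (sup_le (le_centralizer_iff.1 h) (le_centralizer_iff.1 h'))

theorem o1_idx (o : O1 B) (hD : D ≤ NN B) (h : ∀ x ∈ D, In B (x * x)) :
    ∃ D₀ ≤ D, D₀.relIndex D ≤ 2 ∧ ∀ x ∈ D₀, In B x := by
  refine ⟨cx1I B ⊓ D, inf_le_right, ?_, fun x hx => hx.1⟩
  rw [inf_relIndex_right]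
  refine Nat.le_of_dvd two_pos (relIndex_dvd_two_iff.2 ?_)
  by_cases k : ∃ a ∈ D, ¬ In B a
  · obtain ⟨a, ha, k⟩ := k
    refine ⟨a, ha, fun b hb => ?_⟩
    rcases o b (hD hb) a (hD ha) (h b hb) (h a ha) with e | e | e
    · exact .inr e
    · exact absurd e k
    · exact .inl e
  · push Not at k
    exact ⟨1, one_mem _, fun b hb => .inr (k b hb)⟩

theorem in_syl (sU : Syl U A) (sR : Syl R (CC A)) (hz : A ⊓ CC A = ⊥) (hi : In A x) (h2 : Two x)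
    (hU : x ∈ NN U) (hR : x ∈ NN R) : ∃ u ∈ U, x * u⁻¹ ∈ R := by
  obtain ⟨a, ha, hk⟩ := hi
  obtain ⟨n, hn⟩ := h2
  have c := comm_of_CC hk ha
  have e : (x * a⁻¹) ^ 2 ^ n * a ^ 2 ^ n = 1 := by rw [← c.symm.mul_pow, inv_mul_cancel_right, hn]
  have a1 : a ^ 2 ^ n = 1 := mem_bot.1 (hz ▸ mem_inf.2 ⟨pow_mem ha _, by
    rw [eq_inv_of_mul_eq_one_right e]; exact inv_mem (pow_mem hk _)⟩)
  rw [a1, mul_one] at e
  refine ⟨a, cx1_mem sU ha (mem_normalizer_fintype fun u hu => ?_) ⟨n, a1⟩, cx1_mem sR hk ?_ ⟨n, e⟩⟩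
  · rw [← In.conj_eq hk ha (sU.le hu)]
    exact conj_mem_of_mem_normalizer hU hu
  · exact mul_mem hR (inv_mem (CC_le_NN R (le_centralizer_iff.1 sR.le ha)))

theorem cx7 (cA : CG p A) (cB : CG p B) (hzB : B ⊓ CC B = ⊥) (h : Fr A B R R') (hc : R ≤ CC R')
    (sU : Syl U A) (hel : ∀ x ∈ R, x * x = 1) (hR' : R' ≤ (U ⊓ CC U) ⊔ R) {w : G} (hw : w ∈ R) :
    In B w := by
  obtain ⟨T, z, sB⟩ := h.toPr.sdB
  obtain ⟨g, hg⟩ := h.cj
  have UR : U ≤ CC R := sU.le.trans (le_centralizer_iff.1 h.sR.le)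
  have RU : R ≤ CC U := le_centralizer_iff.1 UR
  have RR : R ≤ CC R := fun a ha => mem_CC.2 fun b hb => by
    have e := inv_eq_of_mul_eq_one_right (hel _ (mul_mem hb ha))
    rw [mul_inv_rev, inv_eq_of_mul_eq_one_right (hel _ ha), inv_eq_of_mul_eq_one_right (hel _ hb)] at e
    exact e.symm
  have QC : U ⊔ R ≤ CC R' := sup_le ((cx1_cc (le_centralizer_iff.1 inf_le_right) UR).trans
    (centralizer_le hR')) hc
  have QR : U ⊔ R ≤ NN R' := QC.trans (CC_le_NN _)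
  have QN : U ⊔ R ≤ NN B := QR.trans (sB.nnR (h.sR'.le.trans inf_le_left) h.sR'.two h.nb)
  have Q2 : IsPGroup 2 ↥(U ⊔ R) := PG.isPGroup_sup_of_le_normalizer sU.two h.sR.two (UR.trans (CC_le_NN _))
  have wQ : U ⊔ R ≤ C1 w := fun a ha => mem_C1.2 (comm_of_CC (cx1_cc RU RR hw) ha)
  obtain ⟨c4, c4'⟩ := cA.c4 U sU
  obtain ⟨D, hD, hi, hin⟩ := o1_idx cB.o1 QN fun x hx => by
    obtain ⟨u, hu, k, hk, rfl⟩ := exists_mul_of_mem_sup (RU.trans (CC_le_NN _)) hx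
    rw [(comm_of_CC (RU hk) hu).symm.mul_mul_mul_comm, hel k hk, mul_one]
    have : ⁅U, U⁆ ≤ cx1I B := commutator_le.2 fun a ha b hb =>
      cB.outc a (QN (mem_sup_left ha)) b (QN (mem_sup_left hb))
    exact this (c4 ▸ mem_inf.2 ⟨mul_mem hu hu, c4' u hu⟩)
  obtain ⟨S, hS, s1, -, s2, -⟩ := sB.exists_syl QN Q2
  have nU : U ⊔ R ≤ NN (S ⊓ B) := fun a ha => mem_normalizer_fintype fun u hu =>
    mem_inf.2 ⟨mul_mem (mul_mem (hS ha) hu.1) (inv_mem (hS ha)), conj_mem_of_mem_normalizer (QN ha) hu.2⟩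
  have key : ∀ x : D, ∃ b ∈ C1 w ⊓ (S ⊓ B), (x : G) * b⁻¹ ∈ R' := fun x => by
    obtain ⟨b, hb, k⟩ := in_syl s2 (h.sylB hc) hzB (hin x x.2) (Two.of_mem Q2 (hD x.2)) (nU (hD x.2))
      (QR (hD x.2))
    refine ⟨b, ⟨?_, hb⟩, k⟩
    have := mul_mem (inv_mem (mem_C1.2 (comm_of_CC (hc hw) k))) (wQ (hD x.2))
    rwa [show ((x : G) * b⁻¹)⁻¹ * x = b by group] at this
  choose f f1 f2 using key
  have n1 : Nat.card D ≤ Nat.card ↥(C1 w ⊓ (S ⊓ B)) * Nat.card R' := by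
    rw [← Nat.card_prod]
    refine Nat.card_le_card_of_injective (fun x => (⟨f x, f1 x⟩, ⟨_, f2 x⟩)) fun x y e => Subtype.ext ?_
    have e1 : f x = f y := congrArg (fun q => (q.1 : G)) e
    have e2 : (x : G) * (f x)⁻¹ = y * (f y)⁻¹ := congrArg (fun q => (q.2 : G)) e
    rwa [e1, mul_left_inj] at e2
  have n2 : Nat.card U * Nat.card R ≤ Nat.card ↥(U ⊔ R) := by
    rw [← Nat.card_prod]
    refine Nat.card_le_card_of_injective
      (fun q => ⟨q.1 * q.2, mul_mem (mem_sup_left q.1.2) (mem_sup_right q.2.2)⟩) fun q q' e => ?_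
    have e1 : (q.1 : G) * q.2 = q'.1 * q'.2 := congrArg Subtype.val e
    have m1 : (q'.1 : G)⁻¹ * q.1 ∈ A := sU.le (mul_mem (inv_mem q'.1.2) q.1.2)
    have m2 : (q'.1 : G)⁻¹ * q.1 ∈ CC A := by
      rw [show (q'.1 : G)⁻¹ * q.1 = q'.2 * (q.2 : G)⁻¹ by
        rw [eq_mul_inv_iff_mul_eq, mul_assoc, e1, inv_mul_cancel_left]]
      exact h.sR.le (mul_mem q'.2.2 (inv_mem q.2.2))
    have m3 : g * ((q'.1 : G)⁻¹ * q.1) * g⁻¹ = 1 :=
      mem_bot.1 (hzB ▸ mem_inf.2 ⟨hg ▸ conj_mem_map_conj.2 m1, hg ▸ conj_mem_CC g m2⟩)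
    have m4 : (q'.1 : G) = q.1 := inv_mul_eq_one.1 (conj_eq_one_iff.1 m3)
    rw [m4, mul_right_inj] at e1
    exact Prod.ext (Subtype.ext m4.symm) (Subtype.ext e1)
  have n3 : Nat.card ↥(S ⊓ B) ≤ Nat.card U := by
    have := (sU.conj g).card_le s2.two (hg ▸ s2.le)
    rwa [card_map_of_injective (MulAut.conj g).injective] at this
  have n4 : Nat.card R = Nat.card R' := (h.iso' hc).elim fun e => Nat.card_congr e.toEquiv
  have n5 := PG.relIndex_mul_card hD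
  have n6 := PG.relIndex_mul_card_inf (C1 w) (S ⊓ B)
  refine cB.ix _ s2 w (QN (mem_sup_right hw)) (nU (mem_sup_right hw)) (hel w hw) ?_
  refine Nat.le_of_mul_le_mul_right (c := Nat.card ↥(C1 w ⊓ (S ⊓ B)) * Nat.card R') ?_
    (Nat.mul_pos Nat.card_pos Nat.card_pos)
  calc _ = Nat.card ↥(S ⊓ B) * Nat.card R := by rw [← mul_assoc, n6, n4]
    _ ≤ Nat.card U * Nat.card R := Nat.mul_le_mul_right _ n3
    _ ≤ _ := n2.trans (n5 ▸ Nat.mul_le_mul hi n1)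

end Cfsg.Agent.QS
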