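import Mathlib
import Cfsg.Agent.QS.KD
import Cfsg.Agent.QS.Bas
import Cfsg.Agent.QS.Frm
import Cfsg.Agent.QS.CW
import Cfsg.Agent.QS.CX1

/-! # S1817, piece QS-CX: Sp4, the common centre (proof in stubs/Cfsg/Agent/QS/PLAN.md) -/

set_option autoImplicit false
set_option linter.unusedVariables false

namespace Cfsg.Agent.QS

open Cfsg Subgroup Cfsg.Agent.GT Cfsg.Agent.Inv Cfsg.Agent.Cmp Cfsg.Agent.QE Cfsg.Agent.QF
open scoped commutatorElement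

universe u

variable {G : Type u} [Group G] [Finite G] {T A B R R' U Z D : Subgroup G} {z y r a x : G} {p : ℕ}

namespace CX

omit [Finite G] in
theorem in_iff : In A x ↔ x ∈ A ⊔ CC A := by
  constructor
  · rintro ⟨a, ha, h⟩
    have e : x = x * a⁻¹ * a := by group
    rw [e]
    exact mul_mem (mem_sup_right h) (mem_sup_left ha)
  · intro h
    obtain ⟨a, ha, k, hk, rfl⟩ := exists_mul_of_mem_sup (CC_le_NN A) h
    exact ⟨a, ha, by rwa [conj_eq_of_comm (comm_of_CC hk ha)]⟩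

omit [Finite G] in
theorem comm_in (c : CG p A) (hD : D ≤ NN A) (hx : x ∈ ⁅D, D⁆) : In A x := by
  refine in_iff.2 (commutator_le.2 (fun a ha b hb => ?_) hx)
  exact in_iff.1 (c.outc a (hD ha) b (hD hb))

omit [Finite G] in
theorem comm_left {k u v : G} (hu : Commute k u) (hv : Commute k v) : ⁅k * u, v⁆ = ⁅u, v⁆ := by
  have h := conj_eq_of_comm ((hu.mul_right hv).mul_right hu.inv_right)
  rw [commutatorElement_def, commutatorElement_def]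
  calc k * u * v * (k * u)⁻¹ * v⁻¹ = k * (u * v * u⁻¹) * k⁻¹ * v⁻¹ := by group
    _ = _ := by rw [h]

omit [Finite G] in
theorem comm_right {k u v : G} (hu : Commute k u) (hv : Commute k v) : ⁅u, k * v⁆ = ⁅u, v⁆ := by
  rw [← commutatorElement_inv, comm_left hv hu, commutatorElement_inv]

omit [Finite G] in
theorem le_CC_of_sq (h : ∀ x ∈ R, x * x = 1) : R ≤ CC R := fun x hx => mem_CC.2 fun k hk => by
  have h1 := h _ (mul_mem hk hx)
  have h2 : k⁻¹ = k := inv_eq_of_mul_eq_one_right (h k hk)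
  have h3 : x⁻¹ = x := inv_eq_of_mul_eq_one_right (h x hx)
  have h4 : (k * x)⁻¹ = k * x := inv_eq_of_mul_eq_one_right h1
  rw [mul_inv_rev, h2, h3] at h4
  exact h4.symm

theorem half (h : Fr A B R R') (hz : A ⊓ CC A = ⊥) (hU : U ≤ A)
    (hw : ∀ x ∈ R', x * x = 1 ∧ ∃ u ∈ U ⊓ CC U, x * u⁻¹ ∈ CC A) : R' ≤ (U ⊓ CC U) ⊔ R := by
  intro x hx
  obtain ⟨x2, u, hu, hk⟩ := hw x hx
  have h1 := (h.kR hz hx x2 (hU hu.1) hk).1
  have e : x = x * u⁻¹ * u := by group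
  rw [e]
  exact mul_mem (mem_sup_right h1) (mem_sup_left hu)

omit [Finite G] in
theorem le_C (hU : U ≤ A) (hR : R ≤ CC A) (h : R' ≤ (U ⊓ CC U) ⊔ R) : U ≤ CC R ⊓ CC R' := by
  have h1 : R ≤ CC U := hR.trans (centralizer_anti hU)
  exact le_inf (le_centralizer_iff.1 h1) (le_centralizer_iff.1 (h.trans (sup_le inf_le_right h1)))

theorem C_le (h : ∃ T z, St T A z) (hR : R ≤ CC A) (h2 : IsPGroup 2 R) (hb : R ≠ ⊥) :
    CC R ≤ NN A := by
  obtain ⟨T, z, h⟩ := h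
  exact (CC_le_NN R).trans (h.nnR hR h2 hb)

/-- The symmetric data. -/
structure Dt (p : ℕ) (A B R R' U U' P : Subgroup G) : Prop where
  cA : CG p A
  cB : CG p B
  zA : A ⊓ CC A = ⊥
  zB : B ⊓ CC B = ⊥
  sR : Syl R (CC A)
  sR' : Syl R' (CC B)
  sU : Syl U A
  sU' : Syl U' B
  two : IsPGroup 2 P
  PR : P ≤ CC R
  PR' : P ≤ CC R'
  PA : P ≤ NN A
  PB : P ≤ NN B
  UP : U ≤ P
  UP' : U' ≤ P

variable {U' P : Subgroup G}

omit [Finite G] in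
theorem Dt.symm (d : Dt p A B R R' U U' P) : Dt p B A R' R U' U P :=
  ⟨d.cB, d.cA, d.zB, d.zA, d.sR', d.sR, d.sU', d.sU, d.two, d.PR', d.PR, d.PB, d.PA, d.UP', d.UP⟩

theorem Dt.nU (d : Dt p A B R R' U U' P) : P ≤ NN U := by
  have h1 : P ⊓ A ≤ U :=
    d.sU.le_of_le (d.two.to_le inf_le_left) (le_inf d.UP d.sU.le) inf_le_right
  intro g hg
  refine mem_normalizer_iff_of_finite.2 fun x hx => h1 (mem_inf.2 ⟨?_, ?_⟩)
  · exact mul_mem (mul_mem hg (d.UP hx)) (inv_mem hg)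
  · exact conj_mem_of_mem_normalizer (d.PA hg) (d.sU.le hx)

theorem Dt.inn (d : Dt p A B R R' U U' P) (hx : x ∈ P) (hi : In A x) : ∃ u ∈ U, x * u⁻¹ ∈ R :=
  in_syl d.sU d.sR d.zA hi (Two.of_mem d.two hx) (d.nU hx) (CC_le_NN _ (d.PR hx))

theorem Dt.cen (d : Dt p A B R R' U U' P) {v : G} (hv : v ∈ U ⊓ CC U) : v ∈ CC U' := by
  obtain ⟨e', sq'⟩ := d.cB.c4 U' d.sU'
  obtain ⟨e, -⟩ := d.cA.c4 U d.sU
  have hA : U' ≤ NN A := d.UP'.trans d.PA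
  obtain ⟨D, hD, hi, hin⟩ := o1_idx d.cA.o1 hA fun x hx => comm_in d.cA hA (by
    rw [e']
    exact ⟨mul_mem hx hx, sq' x hx⟩)
  have hvB : In B v := comm_in d.cB (d.UP.trans d.PB) (by rw [e]; exact hv)
  obtain ⟨u', hu', hk'⟩ := d.symm.inn (d.UP hv.1) hvB
  have hkU : v * u'⁻¹ ∈ CC U' := centralizer_anti d.sU'.le (d.sR'.le hk')
  have hDu : D ≤ C1 u' := fun x hx => by
    obtain ⟨u, hu, hk⟩ := d.inn (d.UP' (hD hx)) (hin x hx)
    have h1 : Commute (x * u⁻¹ * u) v :=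
      (comm_of_CC (d.PR (d.UP hv.1)) hk).mul_left (comm_of_CC hv.2 hu)
    rw [inv_mul_cancel_right] at h1
    have h2 := (comm_of_CC hkU (hD hx)).inv_right.mul_right h1
    rw [mul_inv_rev, inv_inv, inv_mul_cancel_right] at h2
    exact mem_C1.2 h2
  have h3 : u' ∈ CC U' := d.cB.c6 U' d.sU' u' hu'
    ((relIndex_le_of_le_left hDu (index_ne_zero_of_finite)).trans hi)
  have e2 : v = v * u'⁻¹ * u' := by group
  rw [e2]
  exact mul_mem hkU h3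

theorem Dt.dec (d : Dt p A B R R' U U' P) (hx : x ∈ U') : ∃ u ∈ U, x * u⁻¹ ∈ R :=
  d.inn (d.UP' hx) (d.cA.c7 U d.sU x (d.PA (d.UP' hx)) (d.nU (d.UP' hx))
    (Two.of_mem d.sU'.two hx) (mem_CC.2 fun v hv => (comm_of_CC (d.cen hv) hx).symm))

theorem Dt.le (d : Dt p A B R R' U U' P) : U' ⊓ CC U' ≤ U ⊓ CC U := by
  rw [← (d.cA.c4 U d.sU).1, ← (d.cB.c4 U' d.sU').1]
  refine commutator_le.2 fun x hx y hy => ?_
  obtain ⟨u, hu, hk⟩ := d.dec hx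
  obtain ⟨v, hv, hl⟩ := d.dec hy
  have h1 := comm_left (comm_of_CC (d.PR (d.UP hu)) hk) (comm_of_CC (d.PR (d.UP' hy)) hk)
  have h2 := comm_right (comm_of_CC (d.PR (d.UP hu)) hl) (comm_of_CC (d.PR (d.UP hv)) hl)
  rw [inv_mul_cancel_right] at h1 h2
  rw [h1, h2]
  exact commutator_mem_commutator hu hv

end CX

theorem cx (f : FG p A) (cA : CG p A) (cB : CG p B) (h : Ip A B y r) :
    ∃ R R' U U', Fr A B R R' ∧ R ≤ CC R' ∧ (∀ x ∈ R, x * x = 1) ∧ Syl U A ∧ Syl U' B ∧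
      U ⊓ CC U = U' ⊓ CC U' ∧ R' ≤ (U ⊓ CC U) ⊔ R ∧ R ≤ (U ⊓ CC U) ⊔ R' := by
  have fB : FG p B := f.of_pr h.toPr
  have r2 := h.ord f.zen
  obtain ⟨R', sR', -, hr, -⟩ := h.toPr.exists_inv (D := zpowers r) (Two.of_two r2).isPGroup
    (zpowers_le.2 ⟨h.rN, CC_le_NN _ h.rB⟩)
  have hb : R' ≠ ⊥ := by
    rintro rfl
    have h1 : r = 1 := mem_bot.1 (hr ⟨mem_zpowers r, h.rB⟩)
    rw [h1, orderOf_one] at r2
    omega
  obtain ⟨R, fr, -, -⟩ := h.toPr.exists_fr sR' hb sR'.two le_rfl (sR'.le.trans inf_le_right)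
  obtain ⟨U, sU, hU⟩ := cw f cA h sR'
  have hc : R ≤ CC R' := fr.p2 f.zen fun x hx _ => by
    obtain ⟨-, u, hu, hk⟩ := hU x hx
    exact ⟨u, sU.le hu.1, hk⟩
  have hR' := CX.half fr f.zen sU.le hU
  have hel : ∀ x ∈ R, x * x = 1 := fun x hx => by
    obtain ⟨e⟩ := fr.iso' hc
    have h1 : e (⟨x, hx⟩ * ⟨x, hx⟩) = 1 := by
      rw [map_mul]
      exact Subtype.ext (hU _ (e ⟨x, hx⟩).2).1
    exact congrArg Subtype.val (e.injective (h1.trans (map_one e).symm))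
  have fs := fr.symm hc
  obtain ⟨w, hw, w2⟩ := exists_inv_of_ne_bot fr.sR.two fs.nb
  obtain ⟨b, hb', hwb⟩ := cx7 cA cB fB.zen fr hc sU hel hR' hw
  obtain ⟨U1, sU1, hU1⟩ := cw fB cB (fs.toPr.ip fB.zen (fr.sR.le hw) w2 hb' hwb) fs.sR'
  have hR1 := CX.half fs fB.zen sU1.le hU1
  have CA : CC R ≤ NN A := CX.C_le h.sd fr.sR.le fr.sR.two fs.nb
  have CB : CC R' ≤ NN B := CX.C_le fs.sd fs.sR.le fs.sR.two hb
  have UC := CX.le_C sU.le fr.sR.le hR'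
  have UC1 : U1 ≤ CC R ⊓ CC R' := by
    rw [inf_comm]
    exact CX.le_C sU1.le fs.sR.le hR1
  obtain ⟨P, UP, sP⟩ := exists_syl_ge sU.two UC
  obtain ⟨c, hcC, hcP⟩ := sP.exists_conj sU1.two UC1
  have sU' : Syl (U1 ^ᶜ c) B := by
    have h1 := sU1.conj c
    rwa [map_conj_eq_of_mem_norm (CB hcC.2)] at h1
  have d : CX.Dt p A B R R' U (U1 ^ᶜ c) P :=
    ⟨cA, cB, f.zen, fB.zen, fr.sR, fs.sR, sU, sU', sP.two, sP.le.trans inf_le_left,
      sP.le.trans inf_le_right, (sP.le.trans inf_le_left).trans CA,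
      (sP.le.trans inf_le_right).trans CB, UP, map_conj_le_iff_forall.2 hcP⟩
  have e := le_antisymm d.symm.le d.le
  refine ⟨R, R', U, U1 ^ᶜ c, fr, hc, hel, sU, sU', e, hR', ?_⟩
  rw [e]
  have h1 := (map_conj_le_map_conj_iff (g := c)).2 hR1
  rwa [map_conj_sup, map_conj_inf, map_conj_eq_of_mem_norm (CC_le_NN _ hcC.1),
    map_conj_eq_of_mem_norm (CC_le_NN _ hcC.2), ← centralizer_map_conj] at h1

end Cfsg.Agent.QS
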