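import Mathlib
import Cfsg.Agent.QS.KD
import Cfsg.Agent.QS.Bas
import Cfsg.Agent.QS.Frm
import Cfsg.Agent.QS.Sig
import Cfsg.Agent.QS.SS
import Cfsg.Agent.QS.CX

/-! # S1817, piece QS-CY: Sp4, the end (proof in stubs/Cfsg/Agent/QS/PLAN.md) -/

set_option autoImplicit false
set_option linter.unusedVariables false

namespace Cfsg.Agent.QS

open Cfsg Subgroup Cfsg.Agent.GT Cfsg.Agent.Inv Cfsg.Agent.Cmp Cfsg.Agent.QE Cfsg.Agent.QF
open scoped commutatorElement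

universe u

variable {G : Type u} [Group G] [Finite G] {T A B R R' U Z D : Subgroup G} {z y r a x : G} {p : ℕ}

omit [Finite G] in
theorem cy_inf {n : G} (h : n ∈ NN A) (h' : n ∈ NN B) : n ∈ NN (A ⊓ B) :=
  map_conj_eq_self_iff.1 (by rw [map_conj_inf, map_conj_eq_of_mem_norm h, map_conj_eq_of_mem_norm h'])

omit [Finite G] in
theorem cy_sup {n : G} (h : n ∈ NN A) (h' : n ∈ NN B) : n ∈ NN (A ⊔ B) :=
  map_conj_eq_self_iff.1 (by rw [map_conj_sup, map_conj_eq_of_mem_norm h, map_conj_eq_of_mem_norm h'])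

omit [Finite G] in
theorem cy_cc {n : G} (h : n ∈ NN A) : n ∈ NN (CC A) :=
  map_conj_eq_self_iff.1 (by rw [CC, ← centralizer_map_conj, map_conj_eq_of_mem_norm h])

omit [Finite G] in
theorem cy_two (h : x * x = 1) (h1 : x ≠ 1) : orderOf x = 2 := orderOf_eq_prime (by rw [sq, h]) h1

theorem ct_false (f : FG p A) (cA : CG p A) (cB : CG p B) (h : Ip A B y r) : False := by
  obtain ⟨R, R', U, U', fr, hc, hel, sU, sU', hZ, h1, h2⟩ := cx f cA cB h
  obtain ⟨T, z, st⟩ := fr.sd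
  have fB := f.of_pr fr.toPr
  have RK : R ≤ CC A := fr.sR.le
  have RK' : R' ≤ CC B := fr.sR'.le.trans inf_le_left
  have AR : A ≤ CC R := le_centralizer_iff.1 RK
  have BR : B ≤ CC R' := le_centralizer_iff.1 RK'
  have nZ : ∀ n ∈ NN U, n ∈ NN (U ⊓ CC U) := fun n hn => cy_inf hn (cy_cc hn)
  have nZ' : ∀ n ∈ NN U', n ∈ NN (U ⊓ CC U) := fun n hn => hZ ▸ cy_inf hn (cy_cc hn)
  obtain ⟨Ω, odd, -, -, hΩ, tr⟩ := cA.c8 U sU
  obtain ⟨Ω', -, two, hΩ1, hΩ', tr'⟩ := cB.c8 U' sU'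
  have ZA : U ⊓ CC U ≤ A := inf_le_left.trans sU.le
  have ZB : U ⊓ CC U ≤ B := hZ ▸ inf_le_left.trans sU'.le
  rw [← hZ] at hΩ1 hΩ'
  generalize U ⊓ CC U = Z at *
  have hZR : Z ⊓ R = ⊥ := le_bot_iff.1 (f.zen ▸ inf_le_inf ZA RK)
  have hW : Z ⊔ R = Z ⊔ R' := le_antisymm (sup_le le_sup_left h2) (sup_le le_sup_left h1)
  have hR : R ≠ ⊥ := by
    rintro rfl
    obtain ⟨e⟩ := fr.iso' hc
    exact fr.nb (card_eq_one.1 (by rw [← Nat.card_congr e.toEquiv, card_bot]))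
  have ti := fun n (hn : n ∈ NN (Z ⊔ R)) => sig_ti st f.zen fr.sR ZA hn
  have key := sigma (Z := Z) (E := R) (N := NN (Z ⊔ R) ⊓ NN Z) (H := A ⊓ NN U) (Ω := Ω) hZR (ZA.trans AR) hR le_rfl
    (fun n hn => ⟨⟨cy_sup (nZ n hn.2) (CC_le_NN R (AR hn.1)), nZ n hn.2⟩, AR hn.1⟩)
    (fun n hn => (ti n hn.1).2) ?_ tr ?_
  · obtain ⟨S, hD, sS, sT, sA, sK⟩ := st.exists_syl (D := U ⊔ R)
      (sup_le (sU.le.trans le_normalizer) (RK.trans (CC_le_NN A)))
      (IsPGroup.to_sup_of_normal_right' sU.two fr.sR.two ((sU.le.trans AR).trans (CC_le_NN R)))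
    have e1 : S ⊓ A = U := le_antisymm (sU.le_of_le sA.two (le_inf (le_sup_left.trans hD) sU.le) inf_le_right)
      (le_inf (le_sup_left.trans hD) sU.le)
    have e2 : S ⊓ CC A = R := le_antisymm (fr.sR.le_of_le sK.two (le_inf (le_sup_right.trans hD) RK) inf_le_right)
      (le_inf (le_sup_right.trans hD) RK)
    have hS : S ≤ NN R ⊓ (NN (Z ⊔ R) ⊓ NN Z) := fun s hs => by
      have k1 : s ∈ NN U := e1 ▸ cy_inf (le_normalizer hs) (sS.le hs)
      have k2 : s ∈ NN R := e2 ▸ cy_inf (le_normalizer hs) (cy_cc (sS.le hs))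
      exact ⟨k2, cy_sup (nZ s k1) k2, nZ s k1⟩
    refine sT.idx ?_
    rw [← relIndex_mul_relIndex _ _ _ hS le_top, ← relIndex_mul_relIndex _ _ _ inf_le_right le_top,
      inf_relIndex_right, key]
    exact ((odd.add_one.two_dvd).mul_right _).mul_left _
  · intro n hn hn' v hv e he e1 hve
    have pr : Pr A (A ^ᶜ n) := Pr.of_conj ⟨T, z, st⟩ fun k => hn' ((ti n hn.1).1 k)
    obtain ⟨w, hw, ew⟩ := mem_map_conj_iff_exists.1 hve
    have ip := pr.ip (y := v) (r := v * e) f.zen (ew ▸ conj_mem_CC n (RK hw))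
      (cy_two (by rw [← ew, conj_mul, hel w hw]; simp) fun k => e1 (by
        have : e ∈ Z ⊓ R := mem_inf.2 ⟨by rw [eq_inv_of_mul_eq_one_right k]; exact inv_mem hv, he⟩
        rwa [hZR, mem_bot] at this)) (ZA hv)
      (by rw [conj_eq_of_comm (comm_of_CC (RK he) (ZA hv))]; exact RK he)
    refine (hΩ v hv fun k => ?_).resolve_left (ss_false ip f)
    have := ip.y2
    rw [k, orderOf_one] at this
    exact absurd this (by norm_num)
  · obtain ⟨⟨w, hw⟩, w1⟩ := ne_bot_iff_exists_ne_one.1 hR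
    have w1 : w ≠ 1 := fun k => w1 (Subtype.ext k)
    obtain ⟨v, hv, k, hk, rfl⟩ := exists_mul_of_mem_sup (RK'.trans ((centralizer_anti ZB).trans (CC_le_NN Z))) (h2 hw)
    have ip := fr.toPr.symm.ip (y := v) (r := v * k) fB.zen (RK hw) (cy_two (hel _ hw) w1) (ZB hv)
      (by rw [conj_eq_of_comm (comm_of_CC (RK' hk) (ZB hv))]; exact RK' hk)
    have vΩ : v ∈ Ω' := (hΩ' v hv fun e => by
      have := ip.y2
      rw [e, orderOf_one] at this
      exact absurd this (by norm_num)).resolve_left (ss_false ip fB)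
    obtain ⟨v', hv', ne⟩ := Set.exists_ne_of_one_lt_ncard two v
    obtain ⟨n, hn, en⟩ := tr' v vΩ v' hv'
    refine ⟨n, ⟨hW ▸ cy_sup (nZ' n hn.2) (CC_le_NN R' (BR hn.1)), nZ' n hn.2⟩, fun hnR => ne ?_⟩
    have e : n * (v * k) * n⁻¹ * (v * k)⁻¹ = v' * v⁻¹ := by
      rw [← en, ← conj_mul, conj_eq_of_comm (comm_of_CC (RK' hk) hn.1)]; group
    have : v' * v⁻¹ ∈ Z ⊓ R := mem_inf.2 ⟨mul_mem (hΩ1 v' hv') (inv_mem hv),
      e ▸ mul_mem (conj_mem_of_mem_normalizer hnR hw) (inv_mem hw)⟩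
    rwa [hZR, mem_bot, mul_inv_eq_one] at this

end Cfsg.Agent.QS
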