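import Mathlib
import Cfsg.Agent.QS.HG
import Cfsg.Agent.QF.Tits
import Cfsg.Agent.QS.HTib
import Cfsg.Agent.S2184
import Cfsg.Agent.GT.PGroupChain

/-! # S1817, piece QS-HTic: the Tits group, the other class (proof in stubs/Cfsg/Agent/QS/HPLAN.md) -/

set_option autoImplicit false
set_option linter.unusedVariables false
set_option maxRecDepth 100000
set_option synthInstance.maxSize 100000
set_option synthInstance.maxHeartbeats 1000000

namespace Cfsg.Agent.QS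

open Cfsg Subgroup Cfsg.Agent.GT Cfsg.Agent.Inv Cfsg.Agent.Cmp Cfsg.Agent.QE Cfsg.Agent.QF
open scoped commutatorElement

variable {X : Type*} [Group X] [Finite X] {F : Type} [Field F] [Fintype F]

/-- A 2-group centralizes a conjugate of a 2-central involution. -/
theorem hti_cen {c : X} (h : Cen c) {S : Subgroup X} (hS : IsPGroup 2 S) :
    ∃ k : X, ∀ s ∈ S, Commute s (k * c * k⁻¹) := by
  obtain ⟨q, hq⟩ := hS.nonempty_fixed_point_of_prime_not_dvd_card (X ⧸ C1 c) h.2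
  obtain ⟨k, rfl⟩ := QuotientGroup.mk_surjective q
  refine ⟨k, fun s hs => ?_⟩
  have e : ((s * k : X) : X ⧸ C1 c) = (k : X ⧸ C1 c) := hq ⟨s, hs⟩
  have e' := (mem_C1.1 (QuotientGroup.eq.1 e.symm)).eq
  calc s * (k * c * k⁻¹) = k * (k⁻¹ * (s * k) * c) * k⁻¹ := by group
    _ = _ := by rw [e']; group

theorem hti_Y {e y q : X} (ye : Commute y e) (qe : Commute q e) (y3 : y ^ 3 = 1) :
    q * y * q⁻¹ ∈ Yp 15 (MulAut.conj e) :=
  mem_Yp_conj ((qe.mul_left ye).mul_left qe.inv_left) (by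
    rw [conj_pow, show 15 = 3 * 5 from rfl, pow_mul, y3, one_pow, mul_one, mul_inv_cancel])

theorem hti_abs {z x e y r : X} {V : Subgroup X} (cV : Nat.card V = 4)
    (mV : ∀ w ∈ V, w = 1 ∨ w = z ∨ w = x ∨ w = z * x) (zV : z ∈ V) (xV : x ∈ V) (e2 : orderOf e = 2)
    (y3 : orderOf y = 3) (ye : Commute y e) (xe : Commute x e) (zx : Commute z x)
    (yz : y * z * y⁻¹ = x) (yx : y * x * y⁻¹ = z * x) (rz : Commute r z) (rx : Commute r x)
    (re : r * e * r⁻¹ = z * e) (hR : IsPGroup 2 (C1 z ⊓ C1 x : Subgroup X))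
    (hP : ∀ u, (∀ k ∈ Yp 15 (MulAut.conj e) ⊓ (C1 z ⊓ C1 x), Commute k u) → u ∈ V ∨ u * e ∈ V)
    (cz : Cen z) (h3 : ¬ 3 ∣ Nat.card (C1 z))
    (two : (ConjClasses.mk '' {g : X | orderOf g = 2}).ncard = 2)
    (bt : ∃ Z : Subgroup X, Z ≠ ⊥ ∧ Nat.card Z ∣ 4 ∧ C1 e ≤ NN Z ∧ ∀ v ∈ Z, v ≠ 1 → Cen v)
    (inn : ∀ β : MulAut X, β * β = 1 → β ∈ Inn X) : HB 15 e false := by
  have z1 : z ≠ 1 := fun k => by simpa [k] using cz.1
  have e1 : e ≠ 1 := fun k => by simp [k] at e2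
  have zz : z * z = 1 := by rw [← pow_two, ← cz.1, pow_orderOf_eq_one]
  have ee : e * e = 1 := by rw [← pow_two, ← e2, pow_orderOf_eq_one]
  have xx : x * x = 1 := by rw [← yz, conj_mul, zz, mul_one, mul_inv_cancel]
  have x1 : x ≠ 1 := fun k => z1 (by simpa [k] using yz)
  have yy : y ^ 3 = 1 := by rw [← y3, pow_orderOf_eq_one]
  have yw : y * (z * x) * y⁻¹ = z := by
    rw [← conj_mul, yz, yx, ← mul_assoc, ← zx.eq, mul_assoc, xx, mul_one]
  have yY : y ∈ Yp 15 (MulAut.conj e) := by simpa using hti_Y ye (Commute.one_left e) yy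
  have zY : z ∈ Yp 15 (MulAut.conj e) := by
    have k := mul_mem yY (inv_mem (hti_Y ye xe yy))
    rwa [show y * (x * y * x⁻¹)⁻¹ = y * x * y⁻¹ * x⁻¹ by group, yx, mul_inv_cancel_right] at k
  have xY : x ∈ Yp 15 (MulAut.conj e) := yz ▸ mul_mem (mul_mem yY zY) (inv_mem yY)
  have VY : V ≤ Yp 15 (MulAut.conj e) := fun w hw => by
    rcases mV w hw with rfl | rfl | rfl | rfl
    exacts [one_mem _, zY, xY, mul_mem zY xY]
  have i1 : IsConj z x := isConj_iff.2 ⟨y, yz⟩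
  have cz' : ∀ v ∈ V, v ≠ 1 → IsConj z v := fun w hw w1 => by
    rcases mV w hw with rfl | rfl | rfl | rfl
    exacts [absurd rfl w1, IsConj.refl _, i1, i1.trans (isConj_iff.2 ⟨y, yx⟩)]
  have ye' : y * e * y⁻¹ = e := by rw [ye.eq, mul_inv_cancel_right]
  have j1 : IsConj e (z * e) := isConj_iff.2 ⟨r, re⟩
  have j2 : IsConj e (x * e) := j1.trans (isConj_iff.2 ⟨y, by rw [← conj_mul, yz, ye']⟩)
  have ce' : ∀ v ∈ V, IsConj e (v * e) := fun w hw => by
    rcases mV w hw with rfl | rfl | rfl | rfl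
    exacts [by rw [one_mul], j1, j2, j2.trans (isConj_iff.2 ⟨y, by rw [← conj_mul, yx, ye']⟩)]
  have nze : ¬ IsConj z e := fun k => by
    obtain ⟨k, hk⟩ := isConj_iff.1 k
    have := map_C1 (MulAut.conj k) z
    rw [MulAut.conj_apply, hk] at this
    refine h3 ?_
    rw [← card_map_of_injective (f := (MulAut.conj k).toMonoidHom) (MulAut.conj k).injective, this, ← y3]
    exact orderOf_dvd_natCard _ (mem_C1.2 ye)
  have nce : ¬ Cen e := fun k => by
    obtain ⟨k, hk⟩ := hti_cen k hR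
    rcases hP _ (fun s hs => hk s hs.2) with h | h
    · exact nze ((cz' _ h (by simpa using e1)).trans (isConj_iff.2 ⟨k, rfl⟩ : IsConj e _).symm)
    · have c1 : Commute r (k * e * k⁻¹ * e) := by
        rcases mV _ h with h | h | h | h <;> rw [h]
        exacts [Commute.one_right _, rz, rx, rz.mul_right rx]
      have c2 : Commute r e := by
        simpa only [inv_mul_cancel_left] using (hk r ⟨mem_C1.2 rz, mem_C1.2 rx⟩).inv_right.mul_right c1
      rw [c2.eq, mul_inv_cancel_right] at re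
      exact z1 (by simpa using re)
  have L : ∀ Z : Subgroup X, Nat.card Z ∣ 4 → y ∈ NN Z → ∀ u ∈ Z, u ∈ V → u ≠ 1 → V = Z := fun Z c hy u hu uV u1 => by
    have s : ∀ w ∈ Z, y * w * y⁻¹ ∈ Z := fun w hw => (mem_normalizer_iff.1 hy w).1 hw
    have hz : z ∈ Z := by
      rcases mV u uV with rfl | rfl | rfl | rfl
      exacts [absurd rfl u1, hu, yw ▸ s _ (yx ▸ s _ hu), yw ▸ s _ hu]
    have hx : x ∈ Z := yz ▸ s _ hz
    refine eq_of_le_of_card_ge (fun w hw => ?_) (cV ▸ Nat.le_of_dvd (by norm_num) c)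
    rcases mV w hw with rfl | rfl | rfl | rfl
    exacts [one_mem _, hz, hx, mul_mem hz hx]
  have M : ∀ Z : Subgroup X, Nat.card Z ∣ 4 → Z ≠ ⊥ → Yp 15 (MulAut.conj e) ≤ NN Z →
      ∃ u ∈ Z, u ≠ 1 ∧ (u ∈ V ∨ u * e ∈ V) := fun Z c hZ hN => by
    obtain ⟨n, -, hn⟩ := (Nat.dvd_prime_pow Nat.prime_two (m := 2)).1 c
    obtain ⟨⟨u, hu⟩, u1⟩ := ne_bot_iff_exists_ne_one.1 (PG.inf_centralizer_ne_bot_of_isPGroup (IsPGroup.of_card hn)
      (hR.to_inf_right (H := Yp 15 (MulAut.conj e))) (inf_le_left.trans hN) hZ)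
    exact ⟨u, hu.1, fun k => u1 (Subtype.ext k), hP u fun k hk => mem_CC.1 hu.2 k hk⟩
  have hN : Yp 15 (MulAut.conj e) ≤ NN V := by
    obtain ⟨Z, h1, h2, h3, h4⟩ := bt
    obtain ⟨u, hu, u1, h⟩ := M Z h2 h1 ((Yp_le_C1 _ _).trans h3)
    rw [L Z h2 (h3 (mem_C1.2 ye)) u hu (h.resolve_right fun h => nce ((h4 u hu u1).conj ?_)) u1]
    · exact (Yp_le_C1 _ _).trans h3
    · simpa only [mul_assoc, ee, mul_one] using (ce' _ h).symm
  refine ⟨e2, fun c hc => ?_, ⟨⟨z, zY⟩, ⟨fun k => z1 (congrArg Subtype.val k), V.subgroupOf _,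
    normal_subgroupOf_of_le_normalizer hN, (Nat.card_congr (subgroupOfEquivOfLe VY).toEquiv).trans cV, zV,
    ⟨y, yY⟩, fun w hw k => Subtype.ext ?_⟩, mv_conj cz.1 j1⟩, ?_, fun β h2 h1 => (h1 (inn β h2)).elim⟩
  · obtain ⟨p, q, -, hs⟩ := Set.ncard_eq_two.1 two
    have m : ∀ c : X, orderOf c = 2 → ConjClasses.mk c = p ∨ ConjClasses.mk c = q := fun c hc =>
      hs.le ⟨c, hc, rfl⟩
    have n : ConjClasses.mk z ≠ ConjClasses.mk e := fun k => nze (ConjClasses.mk_eq_mk_iff_isConj.1 k)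
    have k : ConjClasses.mk z = ConjClasses.mk c ∨ ConjClasses.mk e = ConjClasses.mk c := by
      rcases m z cz.1 with a | a <;> rcases m e e2 with b | b <;> rcases m c hc with d | d <;> simp_all
    exact k.imp (fun k => cz.conj (ConjClasses.mk_eq_mk_iff_isConj.1 k)) ConjClasses.mk_eq_mk_iff_isConj.1
  · have k' : y * w * y⁻¹ = w := congrArg Subtype.val k
    rcases mV w hw with h | h | h | h
    · exact h
    · rw [h, yz] at k'
      rw [k', yz, zz] at yx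
      exact absurd yx x1
    · rw [h, yx] at k'
      exact absurd (by simpa using k') z1
    · rw [h, yw] at k'
      exact absurd (by simpa using k') x1
  · rintro v ⟨v1, W, hW, c, hv, t, ht⟩
    have c' : Nat.card (W.map (Yp 15 (MulAut.conj e)).subtype) ∣ 4 := by
      rw [card_map_of_injective (subtype_injective _), c]
    have hN' : Yp 15 (MulAut.conj e) ≤ NN (W.map (Yp 15 (MulAut.conj e)).subtype) := fun s hs =>
      mem_normalizer_fintype (by
        rintro _ ⟨w, hw, rfl⟩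
        exact ⟨_, hW.conj_mem w hw ⟨s, hs⟩, rfl⟩)
    obtain ⟨_, ⟨u, hu, rfl⟩, u1, h⟩ := M _ c' (ne_bot_iff_exists_ne_one.2 ⟨⟨v, v, hv, rfl⟩, fun k =>
      have k' := congrArg Subtype.val k; v1 (Subtype.ext k')⟩) hN'
    have k : V = W.map (Yp 15 (MulAut.conj e)).subtype := by
      rcases h with h | h
      · exact L _ c' (hN' yY) _ ⟨u, hu, rfl⟩ h u1
      · refine L _ c' (hN' yY) _ ⟨_, mul_mem (hW.conj_mem u hu t) (inv_mem hu), rfl⟩ ?_ fun k =>
          u1 (congrArg Subtype.val (ht u hu (mul_inv_eq_one.1 (Subtype.ext k))))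
        have s := mul_mem ((mem_normalizer_iff.1 (hN t.2) _).1 h) (inv_mem h)
        have te : (t : X) * e * (t : X)⁻¹ = e := by rw [(mem_C1.1 (Yp_le_C1 _ _ t.2)).eq, mul_inv_cancel_right]
        rwa [← conj_mul, te, mul_inv_rev, mul_assoc _ e, mul_inv_cancel_left] at s
    exact cz.conj (cz' _ (k.ge ⟨v, hv, rfl⟩) fun k => v1 (Subtype.ext k))

section
open Cfsg.Agent.Spor Cfsg.Agent.Rec Cfsg.Agent.NG Cfsg.Agent.NG.TP Cfsg.Agent.Chev Cfsg.Agent.Chev.F4T

theorem hti_facts {K : Type} [Group K] {z a g gi f fi x b : K} (h : Sat relC [z, a, g, gi, f, fi, x, b])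
    (hN : 10240 ≤ Nat.card (clos [z, a, g, gi, f, fi, x, b])) :
    Nat.card (clos [z, x]) = 4 ∧ (∀ w ∈ clos [z, x], w = 1 ∨ w = z ∨ w = x ∨ w = z * x) ∧
    (∀ u ∈ clos [g, f, b], Commute u x → u ^ 8 = 1) ∧
    (Let (f * (f * (x * (f * (x * (f * f)))))) fun e => Let (g * (f * (x * (f * (gi * (x * f)))))) fun k =>
      Let (a * (x * (b * (f * (x * fi))))) fun l => Let (f * (f * (b * (fi * (b * fi))))) fun r =>
      (∀ u ∈ clos [g, f, b], Commute l u → Commute k u → u ∈ clos [z, x] ∨ u * e ∈ clos [z, x]) ∧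
      orderOf z = 2 ∧ orderOf e = 2 ∧ Commute x e ∧ Commute z x ∧ Commute r z ∧ Commute r x ∧
      r * e * r⁻¹ = z * e ∧ Commute k z ∧ Commute k x ∧ Commute l z ∧ Commute l x ∧ Commute b e ∧
      Commute (f * (x * fi)) e) := by
  obtain ⟨_, _, _, _, _, _, _, _, h₀⟩ : ∃ z a g gi f fi x b : GL (Fin 11) (ZMod 2),
      B11.C.RepL c8 [z, a, g, gi, f, fi, x, b] := ⟨_, _, _, _, _, _, _, _, B11.repL c8_ok⟩
  obtain ⟨C, r⟩ := presC.cod_of_card h₀ (h₀.sat relC_ok) rfl (card8 h₀) (by norm_num) h rfl hN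
  have e : WC.map (evC A cL) = [2, 4, 7].map (nth A.one c8) := eq_of_beqL (by decide +kernel)
  have e' : WY.map (evC A cL) = [0, 6].map (nth A.one c8) := eq_of_beqL (by decide +kernel)
  have h1 : C.Lists C_t.dom (clos [g, f, b]) ∧ Nat.card (clos [g, f, b]) = 10240 :=
    (r.pick [2, 4, 7]).gen (e ▸ C_ok)
  have h2 : C.Lists Y_t.dom (clos [z, x]) ∧ Nat.card (clos [z, x]) = 4 :=
    (r.pick [0, 6]).gen (e' ▸ Y_ok)
  have l := h1.1.cons (h2.1.cons Cod.listsL_nil)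
  exact ⟨h2.2, l.decide r (by decide +kernel), l.decide r (by decide +kernel), l.decide r (by decide +kernel)⟩

theorem hti_main {K : Type} [Group K] [Finite K] {z a g gi f fi x b m : K}
    (hK : Nat.card K = 2 ^ 11 * 3 ^ 3 * 5 ^ 2 * 13) (hs : Sat relM [z, a, g, gi, f, fi, x, b, m])
    (hN : 10240 ≤ Nat.card (clos [z, a, g, gi, f, fi, x, b])) (hS : Nat.card (clos [g, f * b * fi]) = 2 ^ 11)
    (P : ParSys 2 K) {i j : P.I} (hall : ∀ k, k = i ∨ k = j) (h0 : P.P ∅ ≤ P.U)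
    (hw : Sat [[8, 4, 7, 5, 0, 4, 7, 5, 8, 6], [8, 4, 7, 5, 6, 4, 7, 5, 8, 6, 0],
      [8, 4, 7, 5, 4, 4, 6, 4, 6, 4, 4, 4, 7, 5, 8, 4, 4, 6, 4, 6, 4, 4],
      [2, 4, 6, 4, 3, 6, 4, 8, 4, 7, 5, 7, 4, 7, 5, 8, 7],
      [1, 6, 7, 4, 6, 5, 8, 4, 7, 5, 4, 6, 5, 4, 7, 5, 8, 4, 6, 5]] [z, a, g, gi, f, fi, x, b, m])
    (two : (ConjClasses.mk '' {g : K | orderOf g = 2}).ncard = 2)
    (bt : ∀ e : K, orderOf e = 2 → ∃ Z : Subgroup K, Z ≠ ⊥ ∧ Nat.card Z ∣ 4 ∧ C1 e ≤ NN Z ∧ ∀ v ∈ Z, v ≠ 1 → Cen v)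
    (inn : ∀ β : MulAut K, β * β = 1 → β ∈ Inn K) : ∃ e : K, HB 15 e false := by
  have hs' : Sat relC [z, a, g, gi, f, fi, x, b] := (sat_append.1 hs).1.take (m := 8) (by decide +kernel)
  obtain ⟨cV, mV, h8, hP, z2, e2, xe, zx, rz, rx, re, kz, kx, lz, lx, be, qe⟩ := hti_facts hs' hN
  obtain ⟨h, rfl, rfl⟩ := Tits_facts hs' hN
  have hm := (sat_append.1 hs).2
  simp only [exM, sat_cons, evalW_cons, evalW_nil, nth_succ, nth_zero, mul_one] at hm hw
  obtain ⟨m1, -, m3, m4, -⟩ := hm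
  obtain ⟨w1, w2, w3, w4, w5, -⟩ := hw
  have mi : m⁻¹ = m := inv_eq_of_mul_eq_one_right m1
  have bi : b⁻¹ = b := inv_eq_of_mul_eq_one_right h.bb
  have zi : z⁻¹ = z := inv_eq_of_mul_eq_one_right (by rw [← pow_two, ← z2, pow_orderOf_eq_one])
  have xx := (sat_append.1 (sat_append.1 hs).1).2 [6, 6] (by simp [exC])
  simp only [evalW_cons, evalW_nil, nth_succ, nth_zero, mul_one] at xx
  have xi : x⁻¹ = x := inv_eq_of_mul_eq_one_right xx
  have mz : m * z * m⁻¹ = x := by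
    rw [mi, ← inv_eq_of_mul_eq_one_right xx, eq_inv_iff_mul_eq_one, mul_assoc, mul_assoc, m4]
  have hc : Nat.card (clos [g, f * b * f⁻¹]) = 2 ^ (Nat.card K).factorization 2 := by
    rw [hS, hK, show 2 ^ 11 * 3 ^ 3 * 5 ^ 2 * 13 = 2 ^ 11 * 8775 by norm_num,
      Nat.factorization_eq_of_coprime_left (by norm_num) (by simp), Nat.prime_two.factorization_pow]
    simp
  set S : Sylow 2 K := Sylow.ofCard _ hc
  have eS : (S : Subgroup K) = clos [g, f * b * f⁻¹] := rfl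
  have mf : f ∈ clos [g, f, b] := mem_clos (by simp)
  have hle : (S : Subgroup K) ≤ clos [g, f, b] := clos_le.2 (by
    simp only [List.forall_mem_cons, List.not_mem_nil, false_imp_iff, implies_true, and_true]
    exact ⟨mem_clos (by simp), mul_mem (mul_mem mf (mem_clos (by simp))) (inv_mem mf)⟩)
  have hC : ∀ t, t * z = z * t → t ∈ clos [g, f, b] := fun t ht => by
    obtain ⟨k, hk⟩ := P.exists_comap_U S
    refine Tits_max (P.comap (MulAut.conj k)) hall (fun y hy => h0 hy) (hk ▸ hle) (fun e => ?_)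
      (fun u hu => mem_centralizer_singleton_iff.2 (h.cz u hu)) (fun e => h.xf ?_) (mem_centralizer_singleton_iff.2 ht)
    · have k := card_le_of_le e
      rw [hk, eS, hS, h.card] at k
      omega
    · have k : ∀ u : K, u * z = z * u := fun u => mem_centralizer_singleton_iff.1 (e.ge (mem_top u))
      rw [← mz, k m, mul_inv_cancel_right, k f]
  have cC : Nat.card (C1 z) = 10240 := by
    rw [← h.card, show C1 z = clos [g, f, b] from
      le_antisymm (fun t ht => hC t (mem_C1.1 ht)) fun t ht => mem_C1.2 (h.cz t ht)]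
  generalize he : f * (f * (x * (f * (x * (f * f))))) = e at *
  have ei : e⁻¹ = e := inv_eq_of_mul_eq_one_right (by rw [← pow_two, ← e2, pow_orderOf_eq_one])
  have yi : (m * (f * (b * f⁻¹)))⁻¹ = f * (b * (f⁻¹ * m)) := by
    simp only [mul_inv_rev, inv_inv, mi, bi, mul_assoc]
  have yz : m * (f * (b * f⁻¹)) * z * (m * (f * (b * f⁻¹)))⁻¹ = x := by
    rw [yi, ← mul_inv_eq_one, xi, ← w1]; simp only [mul_assoc]
  have yx : m * (f * (b * f⁻¹)) * x * (m * (f * (b * f⁻¹)))⁻¹ = z * x := by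
    rw [yi, ← mul_inv_eq_one, mul_inv_rev, xi, zi, ← w2]; simp only [mul_assoc]
  have ye : Commute (m * (f * (b * f⁻¹))) e := by
    rw [← commutatorElement_eq_one_iff_commute, commutatorElement_def, yi, ei, ← w3, ← he]; simp only [mul_assoc]
  have yy : (m * (f * (b * f⁻¹))) ^ 3 = 1 := by
    rw [← m3]; simp only [pow_succ, pow_zero, one_mul, mul_assoc]
  have k1 : g * (f * (x * (f * (g⁻¹ * (x * f))))) =
      b * (m * (f * (b * f⁻¹))) * b⁻¹ * (m * (f * (b * f⁻¹)))⁻¹ := by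
    rw [← mul_inv_eq_one, mul_inv_rev, inv_inv, mul_inv_rev, inv_inv, mul_inv_rev, yi, bi, ← w4]
    simp only [mul_assoc]
  have k2 : a * (x * (b * (f * (x * f⁻¹)))) =
      f * (x * f⁻¹) * (m * (f * (b * f⁻¹))) * (f * (x * f⁻¹))⁻¹ * (m * (f * (b * f⁻¹)))⁻¹ := by
    rw [← mul_inv_eq_one, mul_inv_rev, inv_inv, mul_inv_rev, inv_inv, mul_inv_rev, yi, ← w5]
    simp only [mul_assoc, mul_inv_rev, inv_inv, xi]
  generalize m * (f * (b * f⁻¹)) = y at *
  have yY : y ∈ Yp 15 (MulAut.conj e) := by simpa using hti_Y ye (Commute.one_left e) yy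
  have z1 : z ≠ 1 := h.z1
  have y1 : y ≠ 1 := by
    rintro rfl
    exact z1 (by simpa using yx)
  have zY : z ∈ Yp 15 (MulAut.conj e) := by
    have k := mul_mem yY (inv_mem (hti_Y ye xe yy))
    rwa [show y * (x * y * x⁻¹)⁻¹ = y * x * y⁻¹ * x⁻¹ by group, yx, mul_inv_cancel_right] at k
  refine ⟨e, hti_abs cV mV (mem_clos (by simp)) (mem_clos (by simp)) e2 (orderOf_eq_prime yy y1) ye xe zx yz yx
    rz rx re (fun u => ⟨3, Subtype.ext (h8 u (hC _ (mem_C1.1 u.2.1)) (mem_C1.1 u.2.2))⟩) (fun u hu => hP u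
      (hC u (hu z ⟨zY, mem_C1.2 (Commute.refl z), mem_C1.2 zx⟩).symm) (hu _ ⟨?_, mem_C1.2 lz, mem_C1.2 lx⟩)
      (hu _ ⟨?_, mem_C1.2 kz, mem_C1.2 kx⟩)) (cen_of_dvd (n := 11) (m := 8775) z2 (by rw [hK]; norm_num) (by norm_num)
      (by rw [cC]; norm_num)) (by rw [cC]; norm_num) two (bt e e2) inn⟩
  · rw [k2]
    exact Subgroup.mul_mem _ (hti_Y ye qe yy) (Subgroup.inv_mem _ yY)
  · rw [k1]
    exact Subgroup.mul_mem _ (hti_Y ye be yy) (Subgroup.inv_mem _ yY)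

/-- The statement for a group given with its structure. -/
def hti_P (K : Type) [Group K] : Prop := (ConjClasses.mk '' {g : K | orderOf g = 2}).ncard = 2 →
  (∀ e : K, orderOf e = 2 → ∃ Z : Subgroup K, Z ≠ ⊥ ∧ Nat.card Z ∣ 4 ∧ C1 e ≤ NN Z ∧ ∀ v ∈ Z, v ≠ 1 → Cen v) →
  (∀ β : MulAut K, β * β = 1 → β ∈ Inn K) → ∃ e : K, HB 15 e false

theorem hti_T : hti_P Lie.TitsGroup := by
  change hti_P (commutator (Lie.twistedF4 (ZMod 2) 1))
  rw [twistedF4_two]
  have h2 : ∀ t : ZMod 2, t = 0 ∨ t = 1 := by decide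
  have h := T2.idxTwo h2
  have φ := (commutator T2.Fix).equivMapOfInjective _ (subtype_injective _)
  refine hti_main card_T2 (Tits_sat (Tits_map ▸ (sat_append.1 sat_eT).1)) ?_ ?_
    (h.parSys.comap φ) h.all (fun y hy => (h.parSys.P_empty.trans h.normalizer_subgroupOf).le hy)
    (Tits_sat (Tits_map ▸ fun w hw => eT_one ?_))
  · rw [Tits_card, ← card_C]
    refine card_le_of_le (genLt_le fun i hi => mem_clos ?_)
    interval_cases i <;> simp [Tits_E]
  · rw [Tits_card, ← card_sylT, sylT]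
    refine congrArg (fun H : Subgroup T2.Fix => Nat.card H) (congrArg Subgroup.closure (Set.ext fun y => ?_))
    simp [Tits_E, evalW_cons, mul_assoc]
  · revert w
    decide +kernel

end

theorem hb_tits : ∃ b : Lie.TitsGroup, HB 15 b false :=
  hti_T (S2184.result (K := ZMod 2) 0 (by simp)).2 bt_tits tits_inn

end Cfsg.Agent.QS
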