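import Mathlib
import Cfsg.Agent.QS.KD
import Cfsg.Agent.QS.Bas
import Cfsg.Agent.QF.Act
import Cfsg.Agent.GT.PGroupRank

/-! # S1817, piece QS-Gd: good primes (proof in stubs/Cfsg/Agent/QS/PLAN.md) -/

set_option autoImplicit false
set_option linter.unusedVariables false

namespace Cfsg.Agent.QS

open Cfsg Subgroup Cfsg.Agent.GT Cfsg.Agent.Inv Cfsg.Agent.Cmp Cfsg.Agent.QE Cfsg.Agent.QF
open scoped commutatorElement

universe u

variable {G : Type u} [Group G] [Finite G] {T A B R R' U Z D : Subgroup G} {z y r a x : G} {p : ℕ}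

variable {X : Type*} [Group X] [Finite X]

omit [Finite G] in
theorem zen_of (hz : center A = ⊥) : A ⊓ CC A = ⊥ :=
  (eq_bot_iff_forall _).2 fun a ha => congrArg Subtype.val (mem_bot.1 (hz ▸ mem_center_iff.2 fun b =>
    Subtype.ext (ha.2 b b.2) : (⟨a, ha.1⟩ : A) ∈ ⊥))

theorem Gd.prime (g : Gq G) (h : St T A z) (hz : A ⊓ CC A = ⊥) (e : A ≃* X) (k : Gp X p) {t : G} (ht : t ∈ CC A)
    (t2 : orderOf t = 2) (hc : Commute y t) (hy : y ^ p = 1) : y ∈ A := by
  have : Fact p.Prime := ⟨k.pr⟩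
  have yN : y ∈ NN A := h.cen ht t2 (mem_C1.2 hc)
  have AC : A ≤ C1 t := fun l hl => mem_C1.2 (ht l hl)
  have one : ∀ a ∈ A, a ∈ CC A → a = 1 := fun a h1 h2 => mem_bot.1 (hz ▸ mem_inf.2 ⟨h1, h2⟩)
  by_cases hi : In A y
  · obtain ⟨a, ha, h1⟩ := hi
    by_contra hn
    have h2 : (y * a⁻¹) ^ p * a ^ p = 1 := by
      rw [← (show Commute (y * a⁻¹) a from (h1 a ha).symm).mul_pow, inv_mul_cancel_right, hy]
    have h3 : a ^ p = 1 := one _ (pow_mem ha p) (eq_inv_of_mul_eq_one_right h2 ▸ inv_mem (pow_mem h1 p))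
    rw [h3, mul_one] at h2
    have h4 : y * a⁻¹ ∉ A := fun k => hn (by simpa using mul_mem k ha)
    exact rank_three g.gl t2 k.pr k.p2 AC (k.rk.of_mulEquiv e.symm)
      (orderOf_eq_prime h2 fun k => h4 (k ▸ one_mem A)) (mul_mem (mem_C1.2 hc) (inv_mem (AC ha))) h1 h4
  exfalso
  set n : NN A := ⟨y, yN⟩
  have hn : n ^ p = 1 := Subtype.ext hy
  have h1 : ac e n ^ p = 1 := by rw [← map_pow, hn, map_one]
  have h2 : ac e n ∉ Inn X := fun k => hi ((ac_inn e).1 k)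
  have h3 : orderOf (ac e n) = p := orderOf_eq_prime h1 fun k => h2 (k ▸ one_mem _)
  set H : Subgroup (NN A) := A.subgroupOf (NN A) ⊔ zpowers n with hH
  have inj : Function.Injective ((ac e).comp H.subtype) := (injective_iff_map_eq_one _).2 fun x hx => by
    obtain ⟨x, xH⟩ := x
    obtain ⟨a, ha, b, hb, rfl⟩ := mem_sup_of_normal_left.1 xH
    obtain ⟨i, rfl⟩ := mem_powers_iff_mem_zpowers.2 hb
    change ac e (a * n ^ i) = 1 at hx
    have h4 : ac e n ^ i ∈ Inn X := by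
      rw [map_mul, map_pow] at hx
      exact eq_inv_of_mul_eq_one_right hx ▸ inv_mem ((ac_inn e).2 (In.of_mem ha))
    obtain ⟨j, rfl⟩ := SetA.dvd_of_mem k.pr h3 h2 h4
    have h5 : n ^ (p * j) = 1 := by rw [pow_mul, hn, one_pow]
    refine Subtype.ext ?_
    change a * n ^ (p * j) = 1
    rw [h5, mul_one] at hx ⊢
    exact Subtype.ext (one _ ha ((ac_eq_one e).1 hx))
  have rng : Inn X ⊔ zpowers (ac e n) ≤ ((ac e).comp H.subtype).range := by
    refine sup_le ?_ (zpowers_le.2 ⟨⟨n, mem_sup_right (mem_zpowers n)⟩, rfl⟩)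
    rintro _ ⟨v, rfl⟩
    exact ⟨⟨⟨io e v, le_normalizer (io_mem e v)⟩, mem_sup_left (io_mem e v)⟩, ac_of_mem e v⟩
  have hle : H.map (NN A).subtype ≤ C1 t := by
    rw [map_le_iff_le_comap]
    exact sup_le (fun a ha => AC ha) (zpowers_le.2 (mem_C1.2 hc))
  exact PG.not_pRankLE_iff_pRankAtLeast.2 (((((k.out _ h1 h2).of_le rng).of_mulEquiv
    (MonoidHom.ofInjective inj).symm).of_mulEquiv (equivMapOfInjective H _ (NN A).subtype_injective)).of_le hle)
    (SetA.rk2 g.gl.qt t2 k.pr k.p2)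

omit [Finite G] in
theorem Gd.sf {P : G → Prop} (hP : ∀ x n, P x → P (x ^ n)) (hp : Squarefree p)
    (h : ∀ r : ℕ, r.Prime → r ∣ p → ∀ y, P y → y ^ r = 1 → y ∈ A) (hx : P x) (h1 : x ^ p = 1) : x ∈ A := by
  induction p using Nat.strong_induction_on generalizing x with
  | _ p ih =>
  by_cases p1 : p = 1
  · rw [p1, pow_one] at h1
    exact h1 ▸ one_mem A
  obtain ⟨r, hr, m, rfl⟩ := Nat.exists_prime_and_dvd p1
  have m0 : 0 < m := Nat.pos_of_ne_zero fun e => hp.ne_zero (by rw [e, mul_zero])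
  have h2 : x ^ m ∈ A := h r hr (dvd_mul_right r m) _ (hP x m hx) (by rw [← pow_mul, mul_comm, h1])
  have h3 : x ^ r ∈ A := ih m (by nlinarith [hr.two_le]) hp.of_mul_right
    (fun s hs hd => h s hs (hd.mul_left r)) (hP x r hx) (by rw [← pow_mul, h1])
  obtain ⟨a, b, e⟩ := Nat.isCoprime_iff_coprime.2 (Nat.coprime_of_squarefree_mul hp)
  have := mul_mem (zpow_mem h3 a) (zpow_mem h2 b)
  rwa [← zpow_natCast, ← zpow_natCast, ← zpow_mul, ← zpow_mul, ← zpow_add, mul_comm _ a, mul_comm _ b, e,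
    zpow_one] at this

theorem fg_of (g : Gq G) (h : St T A z) (hz : center A = ⊥) (e : A ≃* X) (k : KF X p) : FG p A :=
  ⟨zen_of hz, fun t ht t2 x hx h1 => Gd.sf (P := fun y => Commute y t) (fun _ n h => h.pow_left n) k.sf
    (fun r hr hd y hy h2 => Gd.prime g h (zen_of hz) e (k.gp r hr hd) ht t2 hy h2) hx h1⟩

end Cfsg.Agent.QS
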