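import Mathlib
import Cfsg.Agent.QS.KD
import Cfsg.Agent.QS.Bas
import Cfsg.Agent.QS.Frm

/-! # S1817, piece QS-II: rank one frames (proof in stubs/Cfsg/Agent/QS/PLAN.md) -/

set_option autoImplicit false
set_option linter.unusedVariables false
set_option linter.unusedSectionVars false

namespace Cfsg.Agent.QS

open Cfsg Subgroup Cfsg.Agent.GT Cfsg.Agent.Inv Cfsg.Agent.Cmp Cfsg.Agent.QE Cfsg.Agent.QF
open scoped commutatorElement

universe u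

variable {G : Type u} [Group G] [Finite G] {T A B R R' U Z D : Subgroup G} {z y r a x : G} {p : ℕ}

theorem II_four (h : ¬ PRankLE 2 1 A) : Four A := by
  have : Fact (Nat.Prime 2) := ⟨Nat.prime_two⟩
  obtain ⟨E, hc, h2, h4⟩ := PG.not_pRankLE_iff_pRankAtLeast.1 h
  have : Fintype E := Fintype.ofFinite E
  obtain ⟨x, y, z, hxy, hxz, hyz⟩ := Fintype.two_lt_card_iff.1
    (show 2 < Fintype.card E by rw [← Nat.card_eq_fintype_card]; omega)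
  have key : ∀ a b : E, a ≠ b → a ≠ 1 → b ≠ 1 → Four A := fun a b hab ha hb =>
    have o : ∀ a : E, a ≠ 1 → orderOf ((a : A) : G) = 2 := fun a ha => by
      rw [orderOf_coe]
      exact orderOf_two_of (by rw [← sq, h2 _ a.2]) (by simpa using ha)
    ⟨_, a.1.2, _, b.1.2, o a ha, o b hb, fun e => hab (Subtype.ext (Subtype.ext e)),
      congrArg (fun t : E => ((t : A) : G)) (hc.is_comm.comm a b)⟩
  by_cases e1 : x = 1
  · exact key y z hyz (e1 ▸ hxy.symm) (e1 ▸ hxz.symm)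
  by_cases e2 : y = 1
  · exact key x z hxz e1 (e2 ▸ hyz.symm)
  · exact key x y hxy e1 e2

theorem II_ord (e : A ≃* B) (a : A) : orderOf (e a : G) = orderOf (a : G) := by
  rw [orderOf_coe, orderOf_coe, MulEquiv.orderOf_eq]

theorem II_four_iso (e : A ≃* B) (h : Four A) : Four B := by
  obtain ⟨a, ha, b, hb, a2, b2, ne, hc⟩ := h
  exact ⟨_, (e ⟨a, ha⟩).2, _, (e ⟨b, hb⟩).2, (II_ord e _).trans a2, (II_ord e _).trans b2,
    fun k => ne (congrArg Subtype.val (e.injective (Subtype.ext k))),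
    ((show Commute (⟨a, ha⟩ : A) ⟨b, hb⟩ from Subtype.ext hc).map e).map B.subtype⟩

theorem II_ne_bot (hr : r ∈ R) (r2 : orderOf r = 2) : R ≠ ⊥ := fun e => ne_one_of_two r2 (mem_bot.1 (e ▸ hr))

theorem q0 (h : Pr A B) (hr : r ∈ CC B) (hz : z ∈ CC A) (r2 : orderOf r = 2) (z2 : orderOf z = 2)
    (hc : Commute r z) (h1 : ∀ x ∈ CC B ⊓ NN A, x * x = 1 → Commute x r → x = 1 ∨ x = r)
    (h2 : ∀ R, Syl R (CC A) → ¬ R ≤ C1 r) : ∃ s ∈ CC A, Two s ∧ Commute s z ∧ s * r * s⁻¹ = r * z := by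
  have : Fact (Nat.Prime 2) := ⟨Nat.prime_two⟩
  obtain ⟨TA, zA, sA⟩ := h.sd
  obtain ⟨TB, zB, sB⟩ := h.sdB
  have rA : r ∈ NN A := sA.cen hz z2 (mem_C1.2 hc)
  have zB : z ∈ NN B := sB.cen hr r2 (mem_C1.2 hc.symm)
  have pr := (Two.of_two r2).isPGroup
  have dN : zpowers r ⊔ zpowers z ≤ NN A ⊓ NN B :=
    sup_le (zpowers_le.2 ⟨rA, CC_le_NN _ hr⟩) (zpowers_le.2 ⟨CC_le_NN _ hz, zB⟩)
  obtain ⟨R', sR', -, dR, pD⟩ := h.exists_inv (PG.isPGroup_sup_of_le_normalizer pr (Two.of_two z2).isPGroup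
    (zpowers_le.2 (CC_le_NN _ (by rw [CC, centralizer_zpowers]; exact mem_C1.2 hc)))) dN
  have rR : r ∈ R' := dR ⟨mem_sup_left (mem_zpowers r), hr⟩
  obtain ⟨R, f, -, hR⟩ := h.exists_fr sR' (II_ne_bot rR r2) pD le_sup_right
    (sup_le (dN.trans inf_le_left) (sR'.le.trans inf_le_right))
  have zR : z ∈ R := hR ⟨mem_sup_left (mem_sup_right (mem_zpowers z)), hz⟩
  have u1 : ∀ x ∈ R', orderOf x = 2 → x = r := by
    obtain ⟨c, hc, c2, cc⟩ := exists_inv_fixed sR'.two le_normalizer rR r2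
    obtain rfl := (h1 c (sR'.le hc) (mul_self_of_two c2) (cc r rR).symm).resolve_left (ne_one_of_two c2)
    exact fun x hx x2 => (h1 x (sR'.le hx) (mul_self_of_two x2) (cc x hx)).resolve_left (ne_one_of_two x2)
  have u2 : ∀ x ∈ R ⊓ C1 r, orderOf x = 2 → x = z := fun x hx x2 => by
    have zz : z ∈ R ⊓ C1 r := ⟨zR, mem_C1.2 hc.symm⟩
    rw [f.cenx rR r2] at hx zz
    obtain ⟨e⟩ := f.iso
    have a1 := u1 _ (e ⟨x, hx⟩).2 ((II_ord e ⟨x, hx⟩).trans x2)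
    have a2 := u1 _ (e ⟨z, zz⟩).2 ((II_ord e ⟨z, zz⟩).trans z2)
    exact congrArg Subtype.val (e.injective (Subtype.ext (a1.trans a2.symm)))
  have rN : zpowers r ≤ NN R := zpowers_le.2 (f.nR rR)
  have pS : IsPGroup 2 ↥(R ⊔ zpowers r) := by
    rw [sup_comm]; exact PG.isPGroup_sup_of_le_normalizer pr f.sR.two rN
  obtain ⟨t, tS, tn, tN⟩ := exists_mem_normalizer_of_lt (D := (R ⊔ zpowers r) ⊓ C1 r) pS inf_le_left
    fun k => h2 R f.sR (le_sup_left.trans (k.trans inf_le_right))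
  obtain ⟨s, hs, w, hw, rfl⟩ := exists_mul_of_mem_sup rN tS
  have wD : w ∈ (R ⊔ zpowers r) ⊓ C1 r := ⟨mem_sup_right hw, zpowers_le.2 (mem_C1.2 (Commute.refl r)) hw⟩
  have sN : s ∈ NN ((R ⊔ zpowers r) ⊓ C1 r) := (mul_mem_cancel_right (le_normalizer wD)).1 tN
  have k1 := (conj_mem_of_mem_normalizer sN (x := r) ⟨mem_sup_right (mem_zpowers r), mem_C1.2 (Commute.refl r)⟩).2
  have k2 := (conj_mem_of_mem_normalizer sN (x := z) ⟨mem_sup_left zR, mem_C1.2 hc.symm⟩).2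
  have k3 : s * r * s⁻¹ * r = z := by
    refine u2 _ ⟨?_, mul_mem k1 (mem_C1.2 (Commute.refl r))⟩ (orderOf_mul_two_of_commute
      ((orderOf_conj' s r).trans r2) r2 (fun e => tn (mul_mem ⟨mem_sup_left hs, mem_C1.2 (comm_of_conj_eq e)⟩ wD))
      (mem_C1.1 k1))
    have := mul_mem hs (conj_mem_of_mem_normalizer (f.nR rR) (inv_mem hs))
    rwa [inv_of_two r2, ← mul_assoc, ← mul_assoc] at this
  exact ⟨s, f.sR.le hs, Two.of_mem f.sR.two hs, comm_of_conj_eq (u2 _ ⟨R.mul_mem (R.mul_mem hs zR) (R.inv_mem hs), k2⟩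
    ((orderOf_conj' s z).trans z2)), by rw [hc.eq, ← k3, mul_mul_cancel_of_mul_self' (mul_self_of_two r2)]⟩

theorem Pr.exists_w (h : Pr A B) (hr : r ∈ CC B) (hA : r ∈ NN A) (r2 : orderOf r = 2) :
    ∃ w ∈ CC A ⊓ NN B, orderOf w = 2 ∧ Commute r w := by
  obtain ⟨R', sR', -, dR, -⟩ := h.exists_inv (Two.of_two r2).isPGroup (zpowers_le.2 ⟨hA, CC_le_NN _ hr⟩)
  have rR : r ∈ R' := dR ⟨mem_zpowers r, hr⟩
  obtain ⟨R, f, -⟩ := h.exists_fr sR' (II_ne_bot rR r2) sR'.two le_rfl (sR'.le.trans inf_le_right)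
  obtain ⟨e⟩ := f.iso
  exact ⟨_, f.sylS.le (e.symm ⟨r, rR⟩).2, (II_ord e.symm _).trans r2, comm_of_CC (e.symm ⟨r, rR⟩).2.2 rR⟩

theorem II_q (h : Pr A B) (hr : r ∈ CC B) (hz : z ∈ CC A) (r2 : orderOf r = 2) (z2 : orderOf z = 2)
    (hc : Commute r z) (h4 : Four (CC A)) (n1 : ¬ Four (CC A ⊓ NN B)) (n2 : ¬ Four (CC B ⊓ NN A)) :
    ∃ s ∈ CC A, Two s ∧ Commute s z ∧ s * r * s⁻¹ = r * z := by
  obtain ⟨TA, zA, sA⟩ := h.sd
  obtain ⟨TB, zB, sB⟩ := h.sdB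
  refine q0 h hr hz r2 z2 hc (fun x hx x2 xc => ?_) fun R sR k =>
    n1 ((sR.four h4).mono (le_inf sR.le (k.trans (sB.cen hr r2))))
  by_contra! k
  exact n2 ⟨x, hx, r, ⟨hr, sA.cen hz z2 (mem_C1.2 hc)⟩, orderOf_two_of x2 k.1, r2, k.2, xc⟩

theorem ii (h : Ip A B y r) (hz : A ⊓ CC A = ⊥) (o : O1 B) (h2 : ¬ PRankLE 2 1 (CC A)) :
    ∃ w ∈ CC A ⊓ NN B, orderOf w = 2 ∧ In B w := by
  by_cases n1 : Four (CC A ⊓ NN B)
  · obtain ⟨a, ha, b, hb, a2, b2, ne, hc⟩ := n1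
    rcases o a ha.2 b hb.2 (mul_self_of_two a2 ▸ In.of_mem (one_mem B)) (mul_self_of_two b2 ▸ In.of_mem (one_mem B))
      with k | k | k
    exacts [⟨a, ha, a2, k⟩, ⟨b, hb, b2, k⟩, ⟨_, mul_mem ha hb, orderOf_mul_two_of_commute a2 b2 ne hc, k⟩]
  have n2 : ¬ Four (CC B ⊓ NN A) := fun k => by
    obtain ⟨R', sR'⟩ := exists_syl (CC B ⊓ NN A)
    obtain ⟨x, hx, x2⟩ := (sR'.four k).exists_inv
    obtain ⟨R, f, -⟩ := h.toPr.exists_fr sR' (II_ne_bot hx x2) sR'.two le_rfl (sR'.le.trans inf_le_right)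
    obtain ⟨e⟩ := f.iso
    exact n1 ((II_four_iso e.symm (sR'.four k)).mono f.sylS.le)
  have r2 := h.ord hz
  have fA := II_four h2
  have fB : Four (CC B) := by
    obtain ⟨g, rfl⟩ := h.cj
    rw [CC, centralizer_map_conj]
    exact fA.conj g
  obtain ⟨z, zm, z2, hc⟩ := h.toPr.exists_w h.rB h.rN r2
  obtain ⟨s, -, -, s1, s2⟩ := II_q h.toPr h.rB zm.1 r2 z2 hc fA n1 n2
  obtain ⟨s', -, -, s3, s4⟩ := II_q h.toPr.symm zm.1 h.rB z2 r2 hc.symm fB n2 n1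
  have e1 : s⁻¹ * s' * s * z * (s⁻¹ * s' * s)⁻¹ = r := by
    calc _ = s⁻¹ * (s' * (s * z * s⁻¹) * s'⁻¹) * s := by group
      _ = r := by rw [conj_eq_of_comm s1, s4, ← hc.eq, ← s2]; group
  have e2 : s⁻¹ * s' * s * r * (s⁻¹ * s' * s)⁻¹ = z := by
    calc _ = s⁻¹ * (s' * (s * r * s⁻¹) * s'⁻¹) * s := by group
      _ = s⁻¹ * (s * z * s⁻¹) * s := by
        rw [s2, ← conj_mul, conj_eq_of_comm s3, s4, ← hc.eq, mul_mul_cancel_of_mul_self (mul_self_of_two r2),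
          conj_eq_of_comm s1]
      _ = z := by group
  have e3 := Pr.eq_of h.sd ⟨_, rfl⟩ h.cj (e1 ▸ conj_mem_CC (s⁻¹ * s' * s) zm.1) h.rB r2
  exact ⟨z, zm, z2, e3 ▸ e2 ▸ h.inn.conj _⟩

end Cfsg.Agent.QS
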