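import Mathlib
import Cfsg.Agent.QS.KD
import Cfsg.Agent.QS.Bas

/-! # S1817, piece QS-TrS: transport of the types (proof in stubs/Cfsg/Agent/QS/PLAN.md) -/

set_option autoImplicit false
set_option linter.unusedVariables false

namespace Cfsg.Agent.QS

open Cfsg Subgroup Cfsg.Agent.GT Cfsg.Agent.Inv Cfsg.Agent.Cmp Cfsg.Agent.QE Cfsg.Agent.QF
open scoped commutatorElement

universe u

variable {G : Type u} [Group G] [Finite G] {T A B R R' U Z D : Subgroup G} {z y r a x : G} {p : ℕ}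

variable {X : Type*} [Group X] [Finite X]

theorem TrS_idx {H : Type*} [Group H] {J M N : Subgroup H} (hJ : J ≤ M)
    (h : ∀ m ∈ M, ∃ a ∈ J, a⁻¹ * m ∈ N) : N.relIndex M = N.relIndex J := by
  have k : ∀ K : Subgroup H, N.relIndex K = (MulAction.orbit K ((1 : H) : H ⧸ N)).ncard := fun K => by
    rw [← MulAction.index_stabilizer, relIndex]
    congr 1
    ext ⟨g, hg⟩
    rw [mem_subgroupOf, MulAction.mem_stabilizer_iff]
    show g ∈ N ↔ ((g * 1 : H) : H ⧸ N) = ((1 : H) : H ⧸ N)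
    rw [QuotientGroup.eq]
    simp
  rw [k, k]
  congr 1
  ext q
  constructor
  · rintro ⟨⟨m, hm⟩, rfl⟩
    obtain ⟨a, ha, k⟩ := h m hm
    refine ⟨⟨a, ha⟩, ?_⟩
    show ((a * 1 : H) : H ⧸ N) = ((m * 1 : H) : H ⧸ N)
    rw [QuotientGroup.eq]
    simpa using k
  · rintro ⟨⟨a, ha⟩, rfl⟩
    exact ⟨⟨a, hJ ha⟩, rfl⟩

theorem TrS_nn {H : Type*} [Group H] [Finite H] {W : Subgroup H} {g : H} :
    g ∈ NN W ↔ ∀ w ∈ W, g * w * g⁻¹ ∈ W :=
  ⟨fun h w hw => (mem_normalizer_iff.1 h w).1 hw, fun h => mem_normalizer_fintype h⟩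

theorem TrS_ac (e : A ≃* X) {W : Subgroup X} {n : NN A} :
    (n : G) ∈ NN (W.map (io e)) ↔ ∀ w ∈ W, ac e n w ∈ W := by
  rw [TrS_nn]
  constructor
  · intro h w hw
    have := h _ (mem_map_of_mem (io e) hw)
    rwa [← io_ac, mem_map_iff_mem (io_inj e)] at this
  · rintro h _ ⟨w, hw, rfl⟩
    rw [← io_ac]
    exact mem_map_of_mem _ (h w hw)

theorem TrS_io (e : A ≃* X) {W : Subgroup X} {g : X} : io e g ∈ NN (W.map (io e)) ↔ g ∈ NN W := by
  rw [TrS_nn (W := W)]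
  have := TrS_ac e (W := W) (n := ⟨io e g, le_normalizer (io_mem e g)⟩)
  rw [ac_of_mem] at this
  exact this

theorem YG_io (e : A ≃* X) (v : X) : YG p A (io e v) = (Yp p (MulAut.conj v)).map (io e) := by
  rw [← ac_of_mem e v, map_Yp]

theorem TrS_rel (e : A ≃* X) {W : Subgroup X} {C : Subgroup (MulAut X)} [C.Normal] (hI : Inn X ≤ C)
    (hC : ∀ β ∈ C, ∃ g : X, W.map β.toMonoidHom = W ^ᶜ g) :
    (NN (W.map (io e))).relIndex (NN A) ∣ C.index * (NN W).index := by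
  let j : X →* NN A := (io e).codRestrict _ fun x => le_normalizer (io_mem e x)
  have hj : ∀ x, ac e (j x) = MulAut.conj x := ac_of_mem e
  set N := (NN (W.map (io e))).subgroupOf (NN A) with hN
  set M := C.comap (ac e) with hM
  have h1 : M.index ∣ C.index := by
    rw [hM, index_comap]
    exact relIndex_dvd_index_of_normal _ _
  have h2 : (NN W).index = N.relIndex j.range := by
    rw [← index_comap]
    congr 1
    ext x
    exact (TrS_io e).symm
  have h3 : N.relIndex M = N.relIndex j.range := by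
    refine TrS_idx ?_ fun m hm => ?_
    · rintro _ ⟨x, rfl⟩
      exact hI ⟨x, (hj x).symm⟩
    · obtain ⟨g, hg⟩ := hC _ hm
      refine ⟨j g, ⟨g, rfl⟩, mem_subgroupOf.2 ((TrS_ac e (W := W)).2 fun w hw => ?_)⟩
      have : ac e m w ∈ W ^ᶜ g := hg ▸ mem_map_of_mem _ hw
      obtain ⟨w', hw', k⟩ := this
      rw [map_mul, map_inv, hj, MulAut.mul_apply, ← k]
      simpa [mul_assoc] using hw'
  have h4 : N.index ∣ N.relIndex M * M.index := by
    rw [← inf_relIndex_right, relIndex_mul_index inf_le_right]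
    exact index_dvd_of_le inf_le_left
  rw [h2, ← h3, mul_comm]
  exact h4.trans (Nat.mul_dvd_mul_left _ h1)

theorem sg_of (e : A ≃* X) {v : X} {W : Subgroup X} (h : STy p v W) :
    SG p A (io e v) (W.map (io e)) := by
  refine ⟨?_, ?_, ?_, ?_, ?_, ?_, ?_⟩
  · rintro _ ⟨w, hw, rfl⟩
    rw [← map_mul, h.sq w hw, map_one]
  · rw [YG_io]
    exact map_mono h.le
  · rw [YG_io]
    rintro _ ⟨w, hw, rfl⟩ _ ⟨y, hy, rfl⟩
    rw [← map_mul, ← map_mul, h.cz hw y hy]
  · rintro x hx ⟨k, hk⟩ hc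
    obtain ⟨w, hw, k⟩ := h.cen (ac e ⟨x, hx⟩)
      ⟨k, by rw [← map_pow, show (⟨x, hx⟩ : NN A) ^ 2 ^ k = 1 from Subtype.ext hk, map_one]⟩
      fun y hy => (ac_fix e).2 (hc _ (by rw [YG_io]; exact mem_map_of_mem _ hy))
    exact ⟨io e w, mem_map_of_mem _ hw, (ac_eq_conj e).1 k⟩
  · rintro _ ⟨a, ha, rfl⟩ _ ⟨b, hb, rfl⟩ a1 b1
    obtain ⟨g, hg, k⟩ := h.tr a ha b hb (fun k => a1 (by rw [k, map_one])) fun k => b1 (by rw [k, map_one])
    exact ⟨io e g, io_mem e g, (TrS_io e).2 hg, by rw [← k, map_mul, map_mul, map_inv]⟩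
  · rw [card_map_of_injective (io_inj e)]
    exact h.four
  · obtain ⟨C, hn, hI, hC, k⟩ := h.idx
    rw [card_map_of_injective (io_inj e)]
    exact fun d => k (d.trans (TrS_rel e hI hC))

theorem a0g_of (e : A ≃* X) {v : X} {W : Subgroup X} (h : A0 v W) : A0G A (io e v) (W.map (io e)) := by
  refine ⟨?_, ⟨?_, h.syl.two.map _, ?_⟩, mem_map_of_mem _ h.mem, ?_, ?_, ?_⟩
  · rw [orderOf_injective _ (io_inj e), h.a2]
  · rintro _ ⟨w, _, rfl⟩
    exact io_mem e w
  · have : (W.map (io e)).relIndex A = W.relIndex ⊤ := by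
      rw [← relIndex_map_map_of_injective W ⊤ (io_inj e), ← MonoidHom.range_eq_map, io_range]
    rw [this]
    exact h.syl.idx
  · rintro _ ⟨w, hw, rfl⟩
    exact mem_C1.2 ((mem_C1.1 (h.cen hw)).map _)
  · rintro _ ⟨w, hw, rfl⟩ hc sq
    refine (h.uni w hw (fun u hu => io_inj e ?_) (io_inj e ?_)).imp (fun k => ?_) fun k => ?_
    · rw [map_mul, map_mul]
      exact hc _ (mem_map_of_mem _ hu)
    · rw [map_mul, sq, map_one]
    · rw [k, map_one]
    · rw [k]
  · intro D hD h2 hb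
    let f : D →* MulAut X := (ac e).comp (inclusion (hD.trans inf_le_left))
    have hf : Function.Injective f := (injective_iff_map_eq_one _).2 fun d k => by
      have : (d : G) ∈ D ⊓ CC A := ⟨d.2, (ac_eq_one e).1 k⟩
      rw [hb] at this
      exact Subtype.ext this
    rw [card_map_of_injective (io_inj e), Nat.card_congr (MonoidHom.ofInjective hf).toEquiv]
    refine h.lt _ (h2.of_equiv (MonoidHom.ofInjective hf)) ?_
    rintro _ ⟨d, rfl⟩ u hu
    exact (ac_fix e).2 ((hD d.2).2 _ (mem_map_of_mem _ hu))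

theorem ag_of (e : A ≃* X) {v : X} (h : ATy p v) : AG p A (io e v) := by
  obtain ⟨W, hW⟩ := h.ex
  refine ⟨⟨_, a0g_of e hW⟩, fun x hx sq hc k => (ac_eq_conj e (n := ⟨x, hx⟩)).1 (h.inn _ ?_ ?_ ?_)⟩
  · rw [← map_mul, show (⟨x, hx⟩ : NN A) * ⟨x, hx⟩ = 1 from Subtype.ext sq, map_one]
  · exact fun k => hc ((ac_eq_one e).1 k)
  · apply map_injective (io_inj e)
    rw [map_Yp, ← YG_io]
    exact k

theorem good_of (e : A ≃* X) (k : KF X p) {v : X} (h : Good p v) : GoodG p A (io e v) := by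
  rcases h with ⟨W, h⟩ | h
  · refine ⟨io_mem e v, by rw [orderOf_injective _ (io_inj e), h.y2], .inl ⟨_, sg_of e h, fun g y' hy' o2 hc => ?_⟩⟩
    obtain ⟨v', rfl⟩ := exists_io (cjE e g) hy'
    rw [orderOf_injective _ (io_inj _)] at o2
    rw [YG_io, YG_io, card_map_of_injective (io_inj _), card_map_of_injective (io_inj _)] at hc
    exact (k.ss v v' W h o2 hc).imp (fun ⟨W', h'⟩ => ⟨_, sg_of _ h'⟩) (ag_of _)
  · obtain ⟨W, hW⟩ := h.ex
    exact ⟨io_mem e v, (a0g_of e hW).a2, .inr (ag_of e h)⟩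

end Cfsg.Agent.QS
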