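import Mathlib
import Cfsg.Agent.QS.KD
import Cfsg.Agent.QS.Bas
import Cfsg.Agent.QS.TrS

/-! # S1817, piece QS-TrC: transport of CT (proof in stubs/Cfsg/Agent/QS/PLAN.md) -/

set_option autoImplicit false
set_option linter.unusedVariables false
set_option linter.unusedSectionVars false

namespace Cfsg.Agent.QS

open Cfsg Subgroup Cfsg.Agent.GT Cfsg.Agent.Inv Cfsg.Agent.Cmp Cfsg.Agent.QE Cfsg.Agent.QF
open scoped commutatorElement

universe u

variable {G : Type u} [Group G] [Finite G] {T A B R R' U Z D : Subgroup G} {z y r a x : G} {p : ℕ}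

variable {X : Type*} [Group X] [Finite X]

namespace TrC

theorem cyc_two {H : Type*} [Group H] [Finite H] (h : IsCyclic H) {a b : H} (ha : a * a = 1)
    (hb : b * b = 1) : a = 1 ∨ b = 1 ∨ a * b = 1 := by
  classical
  have := Fintype.ofFinite H
  by_contra hc
  push Not at hc
  obtain ⟨h1, h2, h3⟩ := hc
  have hab : a ≠ b := fun e => h3 (by rw [← e, ha])
  have h4 := IsCyclic.card_pow_eq_one_le (α := H) (n := 2) (by norm_num)
  have h5 : ({1, a, b} : Finset H) ⊆ Finset.univ.filter (fun x : H => x ^ 2 = 1) := by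
    intro x hx
    simp only [Finset.mem_insert, Finset.mem_singleton] at hx
    rcases hx with rfl | rfl | rfl <;> simp [sq, ha, hb]
  have h6 := Finset.card_le_card h5
  rw [Finset.card_eq_three.2 ⟨1, a, b, h1.symm, h2.symm, hab, rfl⟩] at h6
  omega

theorem out_one (e : A ≃* X) {n : NN A} :
    (QuotientGroup.mk' (Inn X)) (ac e n) = 1 ↔ In A n := by
  rw [QuotientGroup.mk'_apply, QuotientGroup.eq_one_iff, ac_inn]

theorem map_top (e : A ≃* X) : (⊤ : Subgroup X).map (io e) = A := by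
  rw [← MonoidHom.range_eq_map, io_range]

theorem exW (e : A ≃* X) (h : U ≤ A) : ∃ W : Subgroup X, U = W.map (io e) :=
  ⟨U.comap (io e), (map_comap_eq_self (by rwa [io_range])).symm⟩

theorem mem_io (e : A ≃* X) {W : Subgroup X} {v : X} : io e v ∈ W.map (io e) ↔ v ∈ W :=
  mem_map_iff_mem (io_inj e)

theorem idx_io (e : A ≃* X) (W : Subgroup X) : (W.map (io e)).relIndex A = W.relIndex ⊤ := by
  rw [← relIndex_map_map_of_injective W ⊤ (io_inj e), map_top]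

theorem syl_io (e : A ≃* X) {W : Subgroup X} : Syl (W.map (io e)) A ↔ Syl W ⊤ := by
  constructor
  · intro h
    exact ⟨le_top, h.two.of_equiv (W.equivMapOfInjective _ (io_inj e)).symm, idx_io e W ▸ h.idx⟩
  · intro h
    exact ⟨by rintro _ ⟨v, -, rfl⟩; exact io_mem e v, h.two.map _, (idx_io e W).symm ▸ h.idx⟩

theorem cc_io (e : A ≃* X) {W : Subgroup X} {v : X} : io e v ∈ CC (W.map (io e)) ↔ v ∈ CC W := by
  constructor
  · intro h w hw
    apply io_inj e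
    rw [map_mul, map_mul]
    exact h _ (mem_map_of_mem _ hw)
  · rintro h _ ⟨w, hw, rfl⟩
    rw [← map_mul, ← map_mul, h w hw]

theorem zz_io (e : A ≃* X) {W : Subgroup X} {v : X} :
    io e v ∈ W.map (io e) ⊓ CC (W.map (io e)) ↔ v ∈ W ⊓ CC W := by
  rw [mem_inf, mem_inf, mem_io, cc_io]

theorem zz_map (e : A ≃* X) (W : Subgroup X) :
    (W ⊓ CC W).map (io e) = W.map (io e) ⊓ CC (W.map (io e)) := by
  apply le_antisymm
  · rintro _ ⟨v, hv, rfl⟩
    exact (zz_io e).2 hv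
  · rintro _ ⟨⟨v, hv, rfl⟩, h⟩
    exact mem_map_of_mem _ ⟨hv, (cc_io e).1 h⟩

theorem c1_io (e : A ≃* X) (v : X) : (C1 (io e v)).comap (io e) = C1 v := by
  ext w
  rw [mem_comap, mem_C1, mem_C1, Commute, Commute, SemiconjBy, SemiconjBy, ← map_mul, ← map_mul,
    (io_inj e).eq_iff]

theorem c1_map (e : A ≃* X) (v : X) : (C1 v).map (io e) = A ⊓ C1 (io e v) := by
  rw [← c1_io e v, map_comap_eq, io_range]

theorem c1_ac (e : A ≃* X) (n : NN A) : (C1 (n : G)).comap (io e) = fixedSubgroup (ac e n) := by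
  ext w
  rw [mem_comap, mem_C1, ← ac_fix]
  rfl

theorem ac_mem (e : A ≃* X) {W : Subgroup X} {n : NN A} (h : (n : G) ∈ NN (W.map (io e))) :
    ∀ u ∈ W, ac e n u ∈ W := fun u hu => by
  rw [← mem_io e, io_ac]
  exact (mem_normalizer_iff.1 h _).1 (mem_map_of_mem _ hu)

theorem ord_io (e : A ≃* X) (v : X) : orderOf (io e v) = orderOf v :=
  orderOf_injective _ (io_inj e) v

theorem exP {W : Subgroup X} (h : Syl W ⊤) : ∃ P : Sylow 2 X, (P : Subgroup X) = W :=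
  have : Fact (Nat.Prime 2) := ⟨Nat.prime_two⟩
  ⟨h.two.toSylow (relIndex_top_right W ▸ h.idx), rfl⟩

end TrC

open TrC

theorem o1_of (e : A ≃* X) (h : IsCyclic (Out X)) : O1 A := by
  intro x hx y hy h1 h2
  have k1 := (out_one e (n := ⟨x, hx⟩ * ⟨x, hx⟩)).2 h1
  have k2 := (out_one e (n := ⟨y, hy⟩ * ⟨y, hy⟩)).2 h2
  rw [map_mul, map_mul] at k1 k2
  rcases cyc_two h k1 k2 with k | k | k
  · exact Or.inl ((out_one e).1 k)
  · exact Or.inr (Or.inl ((out_one e).1 k))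
  · rw [← map_mul, ← map_mul] at k
    exact Or.inr (Or.inr ((out_one e).1 k))

theorem cg_of (e : A ≃* X) (k : KF X p) (c : CT X p) : CG p A := by
  refine ⟨?_, ?_, ?_, o1_of e c.cyc, ?_, ?_, ?_, ?_, ?_, ?_, ?_⟩
  · intro U hU x hx hn h2 hi
    obtain ⟨W, rfl⟩ := exW e hU.le
    obtain ⟨P, rfl⟩ := exP ((syl_io e).1 hU)
    refine (ac_inn e (n := ⟨x, hx⟩)).1 (c.ix P _ ?_ (ac_mem e (n := ⟨x, hx⟩) hn) ?_)
    · rw [← map_mul, show (⟨x, hx⟩ * ⟨x, hx⟩ : NN A) = 1 from Subtype.ext h2, map_one]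
    · rwa [← c1_ac, relIndex_comap]
  · intro U hU x hx z hz h1 h2
    obtain ⟨W, rfl⟩ := exW e hU.le
    obtain ⟨P, rfl⟩ := exP ((syl_io e).1 hU)
    obtain ⟨v, rfl⟩ := exists_io e (hU.le hz.1)
    have hv := (zz_io e).1 hz
    obtain ⟨u, hu, h3⟩ := c.k1 P (ac e ⟨x, hx⟩) v hv.1 hv.2
      (by rw [← map_mul]; exact (ac_eq_conj e).2 h1) (fun u hu => by
        rw [← zz_io e, map_mul, io_ac, map_inv]
        exact h2 _ (mem_map_of_mem _ hu))
    exact ⟨io e u, mem_map_of_mem _ hu, (ac_eq_conj e (n := ⟨x, hx⟩)).1 h3⟩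
  · intro x hx y hy
    have := c.cyc
    refine (out_one e (n := ⁅(⟨x, hx⟩ : NN A), ⟨y, hy⟩⁆)).1 ?_
    rw [map_commutatorElement, map_commutatorElement, commutatorElement_eq_one_iff_mul_comm]
    exact IsCyclic.isMulCommutative.is_comm.comm _ _
  · intro y hy h2
    obtain ⟨v, rfl⟩ := exists_io e hy
    rcases c.c1 v (ord_io e v ▸ h2) with h | h
    · exact Or.inl (good_of e k h)
    · exact Or.inr (c1_map e v ▸ (syl_io e).2 h)
  · intro U hU c' hc c2 cg u hu u2 ug uc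
    obtain ⟨W, rfl⟩ := exW e hU.le
    obtain ⟨v, rfl⟩ := exists_io e (hU.le hc.1)
    obtain ⟨w, rfl⟩ := exists_io e (hU.le hu)
    obtain ⟨h, hh, hg⟩ := c.c2 W ((syl_io e).1 hU) v ((zz_io e).1 hc) (ord_io e v ▸ c2)
      (fun g => cg (good_of e k g)) w ((mem_io e).1 hu) (ord_io e w ▸ u2)
      (fun g => ug (good_of e k g)) (fun g => uc ((cc_io e).2 g))
    refine ⟨io e h, ?_, ?_⟩
    · rw [← c1_map, ← Subgroup.map_sup]
      exact mem_map_of_mem _ hh
    · simpa only [map_mul, map_inv] using good_of e k hg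
  · intro U hU u hu h2
    obtain ⟨W, rfl⟩ := exW e hU.le
    obtain ⟨w, rfl⟩ := exists_io e (hU.le hu)
    obtain ⟨v, hv, hg⟩ := c.c3 W ((syl_io e).1 hU) w ((mem_io e).1 hu)
      (fun g => h2 (by rw [← map_mul, g, map_one]))
    refine ⟨io e v, ?_, good_of e k hg⟩
    rw [← MonoidHom.map_zpowers, ← map_commutator]
    exact mem_map_of_mem _ hv
  · intro U hU
    obtain ⟨W, rfl⟩ := exW e hU.le
    obtain ⟨h1, h2⟩ := c.c4 W ((syl_io e).1 hU)
    refine ⟨by rw [← map_commutator, h1, zz_map], ?_⟩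
    rintro _ ⟨w, hw, rfl⟩
    rw [← map_mul]
    exact (cc_io e).2 (h2 w hw)
  · intro U hU u hu hi
    obtain ⟨W, rfl⟩ := exW e hU.le
    obtain ⟨w, rfl⟩ := exists_io e (hU.le hu)
    refine (cc_io e).2 (c.c6 W ((syl_io e).1 hU) w ((mem_io e).1 hu) ?_)
    rwa [← c1_io e, relIndex_comap]
  · intro U hU x hx hn h2 hc
    obtain ⟨W, rfl⟩ := exW e hU.le
    refine (ac_inn e (n := ⟨x, hx⟩)).1 (c.c7 W ((syl_io e).1 hU) _ ?_ (ac_mem e (n := ⟨x, hx⟩) hn)
      fun v hv => (ac_fix e).2 (hc _ ((zz_io e).2 hv)))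
    obtain ⟨m, hm⟩ := h2
    exact ⟨m, by rw [← map_pow, show (⟨x, hx⟩ : NN A) ^ 2 ^ m = 1 from Subtype.ext hm, map_one]⟩
  · intro U hU
    obtain ⟨W, rfl⟩ := exW e hU.le
    obtain ⟨Ω, h1, h2, h3, h4, h5⟩ := c.c8 W ((syl_io e).1 hU)
    have hc := Set.ncard_image_of_injective Ω (io_inj e)
    refine ⟨io e '' Ω, hc ▸ h1, hc ▸ h2, ?_, ?_, ?_⟩
    · rintro _ ⟨v, hv, rfl⟩
      exact (zz_io e).2 (h3 v hv)
    · intro v hv v1
      obtain ⟨w, rfl⟩ := exists_io e (hU.le hv.1)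
      rcases h4 w ((zz_io e).1 hv) (fun g => v1 (by rw [g, map_one])) with h | h
      · exact Or.inl (good_of e k h)
      · exact Or.inr ⟨w, h, rfl⟩
    · rintro _ ⟨a, ha, rfl⟩ _ ⟨b, hb, rfl⟩
      obtain ⟨h, hh, h6⟩ := h5 a ha b hb
      exact ⟨io e h, ⟨io_mem e h, le_normalizer_map _ (mem_map_of_mem _ hh)⟩,
        by rw [← h6, map_mul, map_mul, map_inv]⟩

end Cfsg.Agent.QS
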