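import Mathlib
import Cfsg.Agent.QS.KD
import Cfsg.Agent.QS.Bas
import Cfsg.Agent.QS.TrS
import Cfsg.Agent.QS.SS

/-! # S1817, piece QS-TrO: outer and bad involutions (proof in stubs/Cfsg/Agent/QS/PLAN.md) -/

set_option autoImplicit false
set_option linter.unusedVariables false
set_option linter.unusedSectionVars false

namespace Cfsg.Agent.QS

open Cfsg Subgroup Cfsg.Agent.GT Cfsg.Agent.Inv Cfsg.Agent.Cmp Cfsg.Agent.QE Cfsg.Agent.QF
open scoped commutatorElement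

universe u

variable {G : Type u} [Group G] [Finite G] {T A B R R' U Z D : Subgroup G} {z y r a x : G} {p : ℕ}

variable {X : Type*} [Group X] [Finite X]

theorem TrO_core (h : Pr A B) (hz : B ⊓ CC B = ⊥) (e : A ≃* X) (r2 : orderOf r = 2) (hB : r ∈ CC B)
    (hA : r ∈ NN A) {v : X} (hv : Mv (ac e ⟨r, hA⟩) v) {l : G} (hl : l ∈ B) (hi : io e v * l⁻¹ ∈ CC B)
    (hn : io e v ∉ CC B) : ∃ C r', Ip B C l r' := by
  obtain ⟨-, g, hg⟩ := hv
  have e1 : io e g * r * (io e g)⁻¹ = io e v * r := by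
    rw [hg, map_mul, map_inv, io_ac]
    have : r⁻¹ = r := inv_eq_of_mul_eq_one_right (by rw [← pow_two, ← r2, pow_orderOf_eq_one])
    calc _ = io e g * r * (io e g)⁻¹ * r⁻¹ * r := by group
      _ = _ := by group
  have h1 := conj_mem_CC (io e g) hB
  have h2 : io e g ∉ NN B := fun k => hn (by
    rw [Tr.map_conj_eq_of_mem k, e1] at h1
    exact (mul_mem_cancel_right hB).1 h1)
  refine ⟨_, _, (Pr.of_conj h.sdB h2).ip hz h1 ?_ hl ?_⟩
  · rw [← r2]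
    exact orderOf_injective (MulAut.conj (io e g)).toMonoidHom (MulAut.conj _).injective r
  · rw [e1, mul_assoc, ← (comm_of_CC hB (inv_mem hl)).eq, ← mul_assoc]
    exact mul_mem hi hB

theorem TrO_sq (e : A ≃* X) (r2 : orderOf r = 2) (hA : r ∈ NN A) : ac e ⟨r, hA⟩ * ac e ⟨r, hA⟩ = 1 := by
  rw [← map_mul, ← map_one (ac e)]
  congr 1
  exact Subtype.ext (show r * r = 1 by rw [← pow_two, ← r2, pow_orderOf_eq_one])

theorem exists_ip (h : Pr A B) (hz : A ⊓ CC A = ⊥) (e : A ≃* X) (k : OO X) (r2 : orderOf r = 2)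
    (hB : r ∈ CC B) (hA : r ∈ NN A) : ∃ C D y' r', (∃ g, C = A ^ᶜ g) ∧ Ip C D y' r' := by
  by_cases hin : ∃ r0, orderOf r0 = 2 ∧ r0 ∈ CC B ∧ In A r0
  · obtain ⟨r0, h1, h2, a, ha, h3⟩ := hin
    exact ⟨A, B, a, r0, ⟨1, (Tr.map_conj_one A).symm⟩, h.ip hz h2 h1 ha h3⟩
  obtain ⟨T, z, st⟩ := h.sdB
  obtain ⟨g, hg⟩ := h.cj
  have hzB : B ⊓ CC B = ⊥ := by rw [hg, CC, centralizer_map_conj, ← Tr.map_conj_inf, hz, Subgroup.map_bot]
  let e' : B ≃* X := (MulEquiv.subgroupCongr hg).trans (cjE e g)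
  let f : fixedSubgroup (ac e ⟨r, hA⟩) →* Out X := (QuotientGroup.mk' _).comp ((ac e').comp
    (((io e).comp (fixedSubgroup (ac e ⟨r, hA⟩)).subtype).codRestrict (NN B) fun x =>
      st.cen hB r2 (mem_C1.2 ((ac_fix e).1 x.2))))
  obtain ⟨v, hv, hf⟩ := k _ (TrO_sq e r2 hA) (fun hi => hin ⟨r, r2, hB, (ac_inn e).1 hi⟩) f
  obtain ⟨l, hl, hi⟩ := (ac_inn e').1 ((QuotientGroup.eq_one_iff _).1 hf)
  obtain ⟨C, r', ip⟩ := TrO_core h hzB e r2 hB hA hv hl hi fun hc =>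
    hin ⟨_, (orderOf_injective _ (io_inj e) _).trans hv.1, hc, In.of_mem (io_mem e _)⟩
  exact ⟨B, C, l, r', ⟨g, hg⟩, ip⟩

theorem mv_ip (h : Pr A B) (f : FG p A) (e : A ≃* X) (r2 : orderOf r = 2) (hB : r ∈ CC B)
    (hA : r ∈ NN A) {v : X} (hv : Mv (ac e ⟨r, hA⟩) v) (hvB : io e v ∈ B) :
    ∃ C r', Ip B C (io e v) r' := by
  refine TrO_core h (f.of_pr h).zen e r2 hB hA hv hvB (by simp) fun hc => ?_
  have h1 : io e v = 1 := mem_bot.1 ((f.of_pr h).zen ▸ mem_inf.2 ⟨hvB, hc⟩)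
  have h2 := (orderOf_injective _ (io_inj e) v).trans hv.1
  rw [h1, orderOf_one] at h2
  omega

theorem bb_false (g : Gq G) (k : KF X p) {P : MulAut X → Prop} (bb : BB X p P) (f : FG p A)
    (h : Ip A B y r) (e : A ≃* X) (e' : B ≃* X) {w : G} (hwA : w ∈ CC A) (w2 : orderOf w = 2)
    (hw : w ∈ NN B) (hP : P (ac e' ⟨w, hw⟩)) : False := by
  obtain ⟨b, rfl⟩ := exists_io e h.yA
  have fB := f.of_pr h.toPr
  have r2 := h.ord f.zen
  have hb : ac e ⟨r, h.rN⟩ = MulAut.conj b := (ac_eq_conj e).2 h.ry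
  have E : (Yp p (MulAut.conj b)).map (io e) = (Yp p (ac e' ⟨w, hw⟩)).map (io e') := by
    rw [← hb, map_Yp, map_Yp, h.toPr.yg f h.rB r2, h.toPr.symm.yg fB hwA w2, YY_comm]
  let θ : Yp p (MulAut.conj b) ≃* Yp p (ac e' ⟨w, hw⟩) := ((equivMapOfInjective _ _ (io_inj e)).trans
    (MulEquiv.subgroupCongr E)).trans (equivMapOfInjective _ _ (io_inj e')).symm
  have hθ : ∀ v, io e' (θ v) = io e v := fun v => by
    rw [← coe_equivMapOfInjective_apply _ _ (io_inj e'), MulEquiv.trans_apply, MulEquiv.apply_symm_apply]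
    rfl
  have w1 : ac e' ⟨w, hw⟩ ≠ 1 := fun h1 => by
    have := h.toPr.two hwA ((ac_eq_one e').1 h1) ⟨1, by rw [pow_one, ← w2, pow_orderOf_eq_one]⟩
    rw [this, orderOf_one] at w2
    omega
  rcases bb b _ ((orderOf_injective _ (io_inj e) b).symm.trans h.y2) (TrO_sq e' w2 hw) w1 hP θ with
    h1 | ⟨b', h1, h2⟩ | ⟨v, ⟨h1, h2⟩ | ⟨h1, h2⟩⟩
  · exact ss_false h f (good_of e k h1)
  · exact ss_false (h.toPr.symm.ip fB.zen hwA w2 (io_mem e' b') ((ac_eq_conj e').1 h1)) fB (good_of e' k h2)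
  · obtain ⟨C, r', ip⟩ := mv_ip (v := v) h.toPr f e r2 h.rB h.rN (by rw [hb]; exact h1) (hθ v ▸ io_mem e' _)
    exact ss_false ip fB (hθ v ▸ good_of e' k h2)
  · obtain ⟨C, r', ip⟩ := mv_ip h.toPr.symm fB e' w2 hwA hw h1 ((hθ v).symm ▸ io_mem e _)
    exact ss_false ip f ((hθ v).symm ▸ good_of e k h2)

end Cfsg.Agent.QS
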