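import Mathlib
import Cfsg.Agent.QS.P0
import Cfsg.Agent.QS.AA
import Cfsg.Agent.QS.CX1

/-! # S1817, `L₂(p)`: nothing in `C(B) ⊓ N(A)` is inner on `A` -/

set_option autoImplicit false
set_option linter.unusedVariables false

namespace Cfsg.Agent.QS

open Cfsg Subgroup Cfsg.Agent.GT Cfsg.Agent.Inv Cfsg.Agent.Cmp Cfsg.Agent.QE Cfsg.Agent.QF
open scoped commutatorElement

universe u

variable {G : Type u} [Group G] [Finite G] {T A B R R' U S K : Subgroup G} {x a c r m z : G}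

omit [Finite G] in
theorem p1_sq {w : G} (hw : orderOf w = 2) : w * w = 1 ∧ w ≠ 1 :=
  ⟨by rw [← pow_two, ← hw, pow_orderOf_eq_one], fun e => by rw [e, orderOf_one] at hw; omega⟩

omit [Finite G] in
theorem p1_two (h : x * x = 1) (h1 : x ≠ 1) : orderOf x = 2 := orderOf_eq_prime (by rw [sq, h]) h1

theorem p1_key (hS : IsPGroup 2 S) (US : U ≤ S) (nU : S ≤ NN U) (nK : S ≤ NN K)
    (uni : ∀ v ∈ U, v ∈ CC U → v * v = 1 → v = 1 ∨ v = a)
    (uc : ∀ x ∈ S, x ∈ K → (∀ s ∈ S, Commute s x) → x * x = 1 → x = 1 ∨ x = c)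
    (lt : ∀ D ≤ S ⊓ CC U, D ⊓ K = ⊥ → Nat.card D < Nat.card U) (hm : m ∈ NN S) :
    m * a * m⁻¹ = a ∨ m * a * m⁻¹ = c := by
  by_contra! hne
  have DS : U ^ᶜ m ≤ S := map_conj_le_of_mem_normalizer US hm
  have nD : S ≤ NN (U ^ᶜ m) := by
    rw [NN, normalizer_map_conj, ← map_conj_eq_of_mem_norm hm]
    exact map_mono nU
  have cen : ∀ Y : Subgroup G, S ≤ NN Y → U ^ᶜ m ⊓ Y ≠ ⊥ →
      m * a * m⁻¹ ∈ Y ∧ orderOf (m * a * m⁻¹) = 2 ∧ ∀ s ∈ S, Commute s (m * a * m⁻¹) := fun Y hY hb => by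
    obtain ⟨y, hy, y2⟩ := exists_inv_of_ne_bot ((hS.to_le DS).to_inf_left (K := Y)) hb
    obtain ⟨z, hz, z2, hc⟩ := exists_inv_fixed hS ((le_inf nD hY).trans inf_normalizer_le_normalizer_inf) hy y2
    have h1 : m⁻¹ * z * m ∈ CC U := mem_CC.2 fun u hu => by
      have := comm_conj m⁻¹ (hc _ (conj_mem_of_mem_normalizer hm (US hu)))
      rwa [inv_inv, show m⁻¹ * (m * u * m⁻¹) * m = u by group] at this
    have h2 : m⁻¹ * z * m * (m⁻¹ * z * m) = 1 := by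
      rw [show m⁻¹ * z * m * (m⁻¹ * z * m) = m⁻¹ * (z * z) * m by group, ← pow_two, ← z2, pow_orderOf_eq_one]; group
    rcases uni _ (mem_map_conj.1 hz.1) h1 h2 with e | e
    · have : z = 1 := by rw [show z = m * (m⁻¹ * z * m) * m⁻¹ by group, e]; group
      rw [this, orderOf_one] at z2
      omega
    · rw [← e, show m * (m⁻¹ * z * m) * m⁻¹ = z by group]
      exact ⟨hz.2, z2, hc⟩
  have b1 : U ^ᶜ m ⊓ U = ⊥ := by
    by_contra hb
    obtain ⟨h1, h2, h3⟩ := cen U nU hb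
    exact (uni _ h1 (mem_CC.2 fun u hu => h3 u (US hu)) (p1_sq h2).1).elim (p1_sq h2).2 hne.1
  have b2 : U ^ᶜ m ⊓ K = ⊥ := by
    by_contra hb
    obtain ⟨h1, h2, h3⟩ := cen (S ⊓ K) ((le_inf le_normalizer nK).trans inf_normalizer_le_normalizer_inf)
      fun e => hb (eq_bot_iff.2 ((le_inf inf_le_left (inf_le_inf_right _ DS)).trans e.le))
    exact (uc _ h1.1 h1.2 h3 (p1_sq h2).1).elim (p1_sq h2).2 hne.2
  have := lt _ (le_inf DS fun d hd => mem_CC.2 fun u hu => ?_) b2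
  · rw [card_map_conj] at this
    omega
  have h1 : u * d * u⁻¹ * d⁻¹ ∈ U ^ᶜ m ⊓ U :=
    mem_inf.2 ⟨mul_mem (conj_mem_of_mem_normalizer (nD (US hu)) hd) (inv_mem hd), by
      rw [show u * d * u⁻¹ * d⁻¹ = u * (d * u⁻¹ * d⁻¹) by group]
      exact mul_mem hu (conj_mem_of_mem_normalizer (nU (DS hd)) (inv_mem hu))⟩
  rw [b1, mem_bot] at h1
  exact commutatorElement_eq_one_iff_commute.1 h1

/-- The central involution of `C(A)` is fused neither to `a` nor to `a c`. -/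
theorem p1_nf (hz : A ⊓ CC A = ⊥) (s1 : Syl S (NN A)) (s2 : Syl S ⊤) (ha : A0G A a U) (US : U ≤ S)
    (cK : c ∈ CC A) (c2 : orderOf c = 2) (Sc : S ≤ C1 c)
    (uc : ∀ x ∈ S, x ∈ CC A → (∀ s ∈ S, Commute s x) → x * x = 1 → x = 1 ∨ x = c)
    (hr : r = a ∨ r = a * c) : ¬ IsConj c r := by
  intro hc
  obtain ⟨g, hg⟩ := isConj_iff.1 hc
  have aA : a ∈ A := ha.syl.le ha.mem
  have eU : S ⊓ A ≤ U := ha.syl.le_of_le s1.two.to_inf_left (le_inf US ha.syl.le) inf_le_right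
  have nU : S ≤ NN U := fun s hs => mem_normalizer_iff_of_finite.2 fun u hu =>
    eU (mem_inf.2 ⟨mul_mem (mul_mem hs (US hu)) (inv_mem hs), conj_mem_of_mem_normalizer (s1.le hs) (ha.syl.le hu)⟩)
  have nK : S ≤ NN (CC A) := s1.le.trans (normalizer_le_normalizer_set_centralizer _)
  have sq' : ∀ s w : G, orderOf w = 2 → s * w * s⁻¹ * (s * w * s⁻¹) = 1 ∧ s * w * s⁻¹ ≠ 1 := fun s w hw =>
    p1_sq (by rw [orderOf_conj, hw])
  have Sa : S ≤ C1 a := fun s hs => mem_C1.2 (comm_of_conj_eq ((ha.uni _ (conj_mem_of_mem_normalizer (nU hs) ha.mem)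
    (conj_mem_of_mem_normalizer (normalizer_le_normalizer_set_centralizer _ (nU hs))
      (le_centralizer_singleton_iff.1 ha.cen)) (sq' s a ha.a2).1).resolve_left (sq' s a ha.a2).2))
  have Sr : S ≤ C1 r := fun s hs => mem_C1.2 (hr.elim (fun f => f ▸ mem_C1.1 (Sa hs))
    fun f => f ▸ (mem_C1.1 (Sa hs)).mul_right (mem_C1.1 (Sc hs)))
  obtain ⟨n, hn, en⟩ := AA.burn s2 Sc Sr hg
  refine AA.fin s2 (p1_sq ha.a2).1 (p1_sq ha.a2).2 (p1_sq c2).2 (fun f => (p1_sq ha.a2).2 ?_) Sc hn (en ▸ hr)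
    fun m hm => p1_key s1.two US nU nK ha.uni uc
      (fun D hD => ha.lt D (hD.trans (inf_le_inf_right _ s1.le)) (s1.two.to_le (hD.trans inf_le_left))) hm
  exact mem_bot.1 (hz ▸ (⟨aA, f ▸ cK⟩ : a ∈ A ⊓ CC A))

theorem p1_aa (h : Fr A B R R') (hz : A ⊓ CC A = ⊥) (hc : R ≤ CC R') (hr : r ∈ R') (hr' : r ∈ CC R')
    (r2 : orderOf r = 2) (hu : ∀ x ∈ R', x ∈ CC R' → x * x = 1 → x = 1 ∨ x = r) (ha : A0G A a U)
    (hra : r * a⁻¹ ∈ CC A) : False := by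
  have aA : a ∈ A := ha.syl.le ha.mem
  obtain ⟨e⟩ := h.iso' hc
  obtain ⟨c, cR, cR', c2, uc⟩ : ∃ c ∈ R, c ∈ CC R ∧ orderOf c = 2 ∧
      ∀ x ∈ R, x ∈ CC R → x * x = 1 → x = 1 ∨ x = c := by
    refine ⟨e.symm ⟨r, hr⟩, Subtype.property _, mem_CC.2 fun y hy => ?_, ?_, fun x hx hx' x2 => ?_⟩
    · have h1 : Commute (e ⟨y, hy⟩) ⟨r, hr⟩ := Subtype.ext (comm_of_CC hr' (e ⟨y, hy⟩).2).eq
      have h2 := h1.map e.symm
      rw [e.symm_apply_apply] at h2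
      exact congrArg Subtype.val h2.eq
    · rw [orderOf_coe, MulEquiv.orderOf_eq, ← orderOf_coe]; exact r2
    have : e ⟨x, hx⟩ * e ⟨x, hx⟩ = 1 := by rw [← map_mul, show (⟨x, hx⟩ * ⟨x, hx⟩ : R) = 1 from Subtype.ext x2, map_one]
    refine (hu _ (e ⟨x, hx⟩).2 (mem_CC.2 fun y hy => ?_) (congrArg Subtype.val this)).imp (fun f => ?_) fun f => ?_
    · have h1 : Commute (e.symm ⟨y, hy⟩) ⟨x, hx⟩ := Subtype.ext (comm_of_CC hx' (e.symm ⟨y, hy⟩).2).eq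
      have h2 := h1.map e
      rw [e.apply_symm_apply] at h2
      exact congrArg Subtype.val h2.eq
    · exact congrArg Subtype.val (e.map_eq_one_iff.1 (Subtype.ext f))
    · exact congrArg Subtype.val ((e.eq_symm_apply (x := ⟨r, hr⟩) (y := ⟨x, hx⟩)).2 (Subtype.ext f))
  have cK : c ∈ CC A := h.sR.le cR
  have ca : Commute a c := comm_of_CC cK aA
  have hrr : r = a ∨ r = a * c := by
    have k1 := comm_of_CC hra aA
    have k2 : r * a⁻¹ * (r * a⁻¹) = 1 := by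
      have := (k1.symm.mul_pow 2).symm
      rwa [inv_mul_cancel_right, pow_two a, (p1_sq ha.a2).1, mul_one, pow_two, pow_two, (p1_sq r2).1] at this
    exact (uc _ (h.kR hz hr (p1_sq r2).1 aA hra).1 (mem_CC.2 fun y hy =>
      (comm_of_CC (hc hy) hr).symm.mul_right (comm_of_CC (h.sR.le hy) aA).symm.inv_right) k2).imp
        mul_inv_eq_one.1 fun f => by rw [ca.eq, ← f, inv_mul_cancel_right]
  obtain ⟨T, z, hst⟩ := h.sd
  have RU : R ≤ NN U := h.sR.le.trans ((centralizer_anti ha.syl.le).trans (CC_le_NN U))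
  obtain ⟨S, hle, s1, s2, -, -⟩ := hst.exists_syl (D := U ⊔ R)
    (sup_le (ha.syl.le.trans le_normalizer) (h.sR.le.trans (CC_le_NN A)))
    (ha.syl.two.to_sup_of_normal_left' h.sR.two RU)
  have US : U ≤ S := le_sup_left.trans hle
  have RS : R ≤ S := le_sup_right.trans hle
  have eR : S ⊓ CC A ≤ R := h.sR.le_of_le s1.two.to_inf_left (le_inf RS h.sR.le) inf_le_right
  have nK : S ≤ NN (CC A) := s1.le.trans (normalizer_le_normalizer_set_centralizer _)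
  have nR : S ≤ NN R := fun s hs => mem_normalizer_iff_of_finite.2 fun u hu =>
    eR (mem_inf.2 ⟨mul_mem (mul_mem hs (RS hu)) (inv_mem hs), conj_mem_of_mem_normalizer (nK hs) (h.sR.le hu)⟩)
  have sq' : ∀ s w : G, orderOf w = 2 → s * w * s⁻¹ * (s * w * s⁻¹) = 1 ∧ s * w * s⁻¹ ≠ 1 := fun s w hw =>
    p1_sq (by rw [orderOf_conj, hw])
  have Sc : S ≤ C1 c := fun s hs => mem_C1.2 (comm_of_conj_eq ((uc _ (conj_mem_of_mem_normalizer (nR hs) cR)
    (conj_mem_of_mem_normalizer (normalizer_le_normalizer_set_centralizer _ (nR hs)) cR')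
      (sq' s c c2).1).resolve_left (sq' s c c2).2))
  obtain ⟨g, hg⟩ := h.cj
  obtain ⟨k, -, hk⟩ := (h.sylB hc).exists_conj (h.sR.two.map (MulAut.conj g).toMonoidHom)
    (by rw [hg, CC, centralizer_map_conj]; exact map_mono h.sR.le)
  have h1 : R ^ᶜ (k * g) ≤ R' := by
    rintro _ ⟨y, hy, rfl⟩
    have := hk _ (conj_mem_map_conj.2 hy)
    rwa [show k * (g * y * g⁻¹) * k⁻¹ = k * g * y * (k * g)⁻¹ by group] at this
  have h2 : R ^ᶜ (k * g) = R' := eq_of_le_of_card_ge h1 (by rw [card_map_conj, Nat.card_congr e.toEquiv])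
  refine p1_nf hz s1 s2 ha US cK c2 Sc (fun x h1 h2 h3 => uc x (eR ⟨h1, h2⟩) (mem_CC.2 fun y hy => h3 y (RS hy)))
    hrr (isConj_iff.2 ⟨k * g, (hu _ (h1 (conj_mem_map_conj.2 cR)) (h2 ▸ conj_mem_CC _ cR')
      (sq' _ c c2).1).resolve_left (sq' _ c c2).2⟩)

omit [Finite G] in
/-- The two parts of an inner element are fixed by whatever fixes it. -/
theorem p1_part (hz : A ⊓ CC A = ⊥) {n : G} (hn : n ∈ NN A) (ha : a ∈ A) (h : x * a⁻¹ ∈ CC A)
    (hc : Commute n x) : Commute n a := by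
  have h1 : n * a * n⁻¹ * a⁻¹ ∈ A ⊓ CC A := by
    refine mem_inf.2 ⟨mul_mem (conj_mem_of_mem_normalizer hn ha) (inv_mem ha), ?_⟩
    have h2 := conj_mem_of_mem_normalizer (normalizer_le_normalizer_set_centralizer _ hn) h
    have h3 := mul_mem (inv_mem h2) h
    rwa [show (n * (x * a⁻¹) * n⁻¹)⁻¹ * (x * a⁻¹) = n * a * n⁻¹ * (n * x * n⁻¹)⁻¹ * x * a⁻¹ by group,
      conj_eq_of_comm hc, inv_mul_cancel_right] at h3
  rw [hz, mem_bot, mul_inv_eq_one] at h1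
  exact comm_of_conj_eq h1

theorem p1_lemA (h : Fr A B R R') (k : PG A) (hr : r ∈ R') (hr' : r ∈ CC R') (r2 : orderOf r = 2)
    (hi : In A r) : False := by
  obtain ⟨a, aA, hra⟩ := hi
  have nt : ∀ x ∈ R', x ∈ CC A → x = 1 := fun x hx hk =>
    h.toPr.two hk (h.sR'.le hx).1 (Two.of_mem h.sR'.two hx)
  have a2 : orderOf a = 2 := p1_two (h.kR k.zen hr (p1_sq r2).1 aA hra).2 fun e => (p1_sq r2).2
    (nt r hr (by simpa [e] using hra))
  have ha := k.a0 a aA a2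
  obtain ⟨T, z, hB⟩ := h.toPr.sdB
  have Ra : ∀ x ∈ R', Commute x a := fun x hx =>
    p1_part k.zen (h.sR'.le hx).2 aA hra (comm_of_CC hr' hx)
  have Ur : A ⊓ C1 a ≤ NN B := fun u hu => hB.cen (h.sR'.le hr).1 r2 (mem_C1.2 (by
    have := (comm_of_CC hra hu.1).mul_right (mem_C1.1 hu.2)
    rwa [inv_mul_cancel_right] at this))
  have RU : R' ≤ NN (A ⊓ C1 a) := fun x hx => inf_normalizer_le_normalizer_inf
    ⟨(h.sR'.le hx).2, le_normalizer (mem_C1.2 (Ra x hx))⟩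
  have P2 : IsPGroup 2 ↥((A ⊓ C1 a) ⊔ R') := ha.syl.two.to_sup_of_normal_left' h.sR'.two RU
  have e1 : ((A ⊓ C1 a) ⊔ R') ⊓ CC B ≤ R' := h.sR'.le_of_le P2.to_inf_left
    (le_inf le_sup_right (h.sR'.le.trans inf_le_left)) (le_inf inf_le_right (inf_le_left.trans
      (sup_le (inf_le_left.trans le_normalizer) (h.sR'.le.trans inf_le_right))))
  have UR : A ⊓ C1 a ≤ NN R' := fun u hu => mem_normalizer_iff_of_finite.2 fun x hx =>
    e1 (mem_inf.2 ⟨mul_mem (mul_mem (mem_sup_left hu) (mem_sup_right hx)) (inv_mem (mem_sup_left hu)),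
      conj_mem_of_mem_normalizer (normalizer_le_normalizer_set_centralizer _ (Ur hu)) (h.sR'.le hx).1⟩)
  have hu : ∀ x ∈ R', x ∈ CC R' → x * x = 1 → x = 1 ∨ x = r := fun x hx hx' x2 => by
    refine (k.f3 a aA a2 x (h.sR'.le hx).2 x2 (Ra x hx) fun u hu => ?_).imp (nt x hx) fun f =>
      mul_inv_eq_one.1 (nt _ (mul_mem hx (inv_mem hr)) ?_)
    · have h1 := comm_of_CC hx' (conj_mem_of_mem_normalizer (UR hu) (inv_mem hx))
      rw [commutatorElement_def, show x * u * x⁻¹ * u⁻¹ * (x * u * x⁻¹ * u⁻¹) =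
        x * (u * x⁻¹ * u⁻¹ * x) * (u * x⁻¹ * u⁻¹) by group, h1.eq,
        show x * (x * (u * x⁻¹ * u⁻¹)) * (u * x⁻¹ * u⁻¹) = x * x * (u * (x * x)⁻¹ * u⁻¹) by group, x2]
      group
    · rw [show x * r⁻¹ = x * a⁻¹ * (r * a⁻¹)⁻¹ by group]
      exact mul_mem f (inv_mem hra)
  refine p1_aa h k.zen ?_ hr hr' r2 hu ha hra
  by_cases hb : R' ⊓ (A ⊓ C1 a) = ⊥
  · refine h.p2 k.zen fun x hx x2 => (k.f3 a aA a2 x (h.sR'.le hx).2 x2 (Ra x hx) fun u hu => ?_).elim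
      In.of_CC fun f => ⟨a, aA, f⟩
    have : ⁅x, u⁆ ∈ R' ⊓ (A ⊓ C1 a) := mem_inf.2 ⟨by
      rw [commutatorElement_def, show x * u * x⁻¹ * u⁻¹ = x * (u * x⁻¹ * u⁻¹) by group]
      exact mul_mem hx (conj_mem_of_mem_normalizer (UR hu) (inv_mem hx)),
      mul_mem (conj_mem_of_mem_normalizer (RU hx) hu) (inv_mem hu)⟩
    rw [hb, mem_bot] at this
    rw [this, one_mul]
  · obtain ⟨y, hy, y2⟩ := exists_inv_of_ne_bot (h.sR'.two.to_inf_left (K := A ⊓ C1 a)) hb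
    obtain ⟨v, hv, v2, hc⟩ := exists_inv_fixed ha.syl.two
      ((le_inf UR le_normalizer).trans inf_normalizer_le_normalizer_inf) hy y2
    have e2 : v = a := (ha.uni v hv.2 (mem_CC.2 hc) (p1_sq v2).1).resolve_left (p1_sq v2).2
    have e3 : r = a := mul_inv_eq_one.1 (nt _ (mul_mem hr (inv_mem (e2 ▸ hv.1))) hra)
    intro s hs
    have : s ∈ R ⊓ C1 r := ⟨hs, mem_C1.2 (e3 ▸ (comm_of_CC (h.sR.le hs) aA).symm)⟩
    rw [h.cenx hr r2] at this
    exact this.2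

theorem p_out (h : Pr A B) (k : PG A) (hB : x ∈ CC B) (hA : x ∈ NN A) (h2 : Two x) (hi : In A x) :
    x = 1 := by
  by_contra x1
  obtain ⟨R', sR', -, h1, -⟩ := h.exists_inv h2.isPGroup (zpowers_le.2 ⟨hA, CC_le_NN B hB⟩)
  have hx : x ∈ R' := h1 ⟨mem_zpowers x, hB⟩
  obtain ⟨R, fr, -⟩ := h.exists_fr sR' (fun e => x1 (mem_bot.1 (e ▸ hx))) sR'.two le_rfl
    (sR'.le.trans inf_le_right)
  obtain ⟨y, hy, y2⟩ := exists_inv_of_ne_bot (sR'.two.to_inf_left (K := cx1I A))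
    fun e => x1 (mem_bot.1 (e ▸ (⟨hx, hi⟩ : x ∈ R' ⊓ cx1I A)))
  obtain ⟨v, hv, v2, hc⟩ := exists_inv_fixed sR'.two (Y := R' ⊓ cx1I A)
    (fun n hn => mem_normalizer_iff_of_finite.2 fun w hw => mem_inf.2 ⟨mul_mem (mul_mem hn hw.1) (inv_mem hn), by
      have := In.conj (show In A w from hw.2) n
      rwa [map_conj_eq_of_mem_norm (sR'.le hn).2] at this⟩) hy y2
  exact p1_lemA fr k hv.1 (mem_CC.2 hc) v2 hv.2

end Cfsg.Agent.QS
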