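import Mathlib
import Cfsg.Agent.QS.KFa
import Cfsg.Agent.QS.KFb
import Cfsg.Agent.QS.KFc

/-! # S1817, piece QS-KFd: 2F4, assembly (proof in stubs/Cfsg/Agent/QS/KPLAN.md) -/

set_option autoImplicit false
set_option linter.unusedSectionVars false
set_option linter.unusedVariables false

namespace Cfsg.Agent.QS.K

open Cfsg Subgroup Cfsg.Agent.GT Cfsg.Agent.Inv Cfsg.Agent.Cmp Cfsg.Agent.QE Cfsg.Agent.QF
open scoped commutatorElement

variable {K : Type*} [Field K] [CharP K 2] [Finite K] {s : Og.Sg K} {X : Type*} [Group X] [Finite X]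
  {F : Og.Ft s X} {p : ℕ}

theorem KFd_mul (e a e' a' : K) : F.u (Og.SG.w4 0 e * Og.SG.x5 a) * F.u (Og.SG.w4 0 e' * Og.SG.x5 a') =
    F.u (Og.SG.w4 0 (e + e') * Og.SG.x5 (a + a')) := by
  rw [← map_mul]
  congr 1
  ext <;> simp

theorem KFd_mv (h : RF4.Kf F) {e a : K} (ha : a ≠ 1) (h2 : orderOf (F.u (Og.SG.w4 0 e * Og.SG.x5 a)) = 2) :
    Mv (MulAut.conj (F.u (Og.SG.x5 1))) (F.u (Og.SG.w4 0 e * Og.SG.x5 a)) := by
  obtain ⟨l, -, k⟩ := h.conj_d e (a := a + 1) fun e => ha (CharTwo.add_eq_zero.1 e)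
  have e1 : F.u (Og.SG.w4 0 e * Og.SG.x5 a) * F.u (Og.SG.x5 1) = F.u (Og.SG.w4 0 e * Og.SG.x5 (a + 1)) := by
    rw [← map_mul]
    congr 1
    ext <;> simp
  refine ⟨h2, l⁻¹, ?_⟩
  rw [← e1] at k
  rw [MulAut.conj_apply]
  generalize F.u (Og.SG.w4 0 e * Og.SG.x5 a) = v at k ⊢
  generalize F.u (Og.SG.x5 1) = y at k ⊢
  calc v = l⁻¹ * (l * (v * y) * l⁻¹) * l * y⁻¹ := by group
    _ = _ := by rw [k]; group

theorem f4_lw (h : RF4.Kf F) (ht : F.G0 = ⊤) (ho : Odd (Nat.card (Out X))) (hp : p.Prime) {k : Kˣ} (hk : orderOf k = p) : LW X p := by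
  have hτ := f4_tau h ht ho hp hk
  refine ⟨f4_inn ho, f4_cz h ht hτ, fun y hy => ?_⟩
  obtain ⟨x, -, e | e⟩ := h.rf.classes h.inj (g := y) (ht ▸ mem_top y) (by rw [← sq, ← hy, pow_orderOf_eq_one])
    fun e => by simp [e] at hy
  · have := hτ.conj x⁻¹
    rw [← e, show x⁻¹ * (x * y * x⁻¹) * x⁻¹⁻¹ = y by group] at this
    exact .inl this
  · obtain rfl : y = x⁻¹ * F.u (Og.SG.x5 1) * x⁻¹⁻¹ := by rw [← e]; group
    refine .inr (wty_conj (fun f => ⟨F.lt.im (Og.SG.T3s s), ?_, f4_x5 h ht ho hp hk f,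
      fun a ha b hb a2 b2 ab => ?_⟩) _)
    · have := h.syl3
      rw [ht, top_inf_eq] at this
      exact ⟨this.le, this.pg, this.nd⟩
    · obtain ⟨e1, c1, rfl⟩ := h.cent_T3 ha.1 ha.2
      obtain ⟨e2, c2, rfl⟩ := h.cent_T3 hb.1 hb.2
      by_cases h1 : c1 = 1
      · by_cases h2 : c2 = 1
        · rw [KFd_mul] at ab ⊢
          refine .inr (.inr (KFd_mv h ?_ ab))
          rw [h1, h2, CharTwo.add_self_eq_zero]
          exact zero_ne_one
        · exact .inr (.inl (KFd_mv h h2 b2))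
      · exact .inl (KFd_mv h h1 a2)

end Cfsg.Agent.QS.K
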