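import Mathlib
import Cfsg.Agent.QS.KL
import Cfsg.Agent.QS.TrC
import Cfsg.Agent.QS.HD
import Cfsg.Agent.QF.K0
import Cfsg.Agent.QF.KL1

/-! # S1817, piece QS-KG: general tools (proof in stubs/Cfsg/Agent/QS/KPLAN.md) -/

set_option autoImplicit false
set_option linter.unusedSectionVars false
set_option linter.unusedVariables false

namespace Cfsg.Agent.QS.K

open Cfsg Subgroup Cfsg.Agent.GT Cfsg.Agent.Inv Cfsg.Agent.Cmp Cfsg.Agent.QE Cfsg.Agent.QF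
open scoped commutatorElement

variable {X : Type*} [Group X] [Finite X] {p : ℕ}

theorem le_of_perf {D U N : Subgroup X} (hD : D ≤ ⁅D, D⁆) (hN : D ≤ NN N) (hU : IsPGroup 2 U) (hUD : U ≤ D)
    (h : D ≤ U ⊔ N) : D ≤ N := by
  have := Fact.mk Nat.prime_two
  have hNM : N ≤ NN N := le_normalizer
  let π := QuotientGroup.mk' (N.subgroupOf (NN N))
  let V := (U.subgroupOf (NN N)).map π
  let E := (D.subgroupOf (NN N)).map π
  have h1 : E ≤ V := by
    refine (map_mono (comap_mono h)).trans ?_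
    change ((U ⊔ N).subgroupOf (NN N)).map π ≤ V
    rw [subgroupOf_sup (hUD.trans hN) hNM, Subgroup.map_sup, QuotientGroup.map_mk'_self, sup_bot_eq]
  have h2 : E ≤ ⁅E, E⁆ := by
    rw [← map_commutator]
    refine map_mono fun x hx => ?_
    rw [← mem_map_iff_mem (NN N).subtype_injective, map_commutator, map_subgroupOf_eq_of_le hN]
    exact hD hx
  have h3 : IsPGroup 2 V := hU.comap_subtype.map π
  have h4 : E.subgroupOf V = ⊥ := by
    have := h3.isNilpotent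
    by_contra k
    refine (Group.IsSolvable.commutator_lt_of_ne_bot k).not_ge fun x hx => ?_
    rw [← mem_map_iff_mem V.subtype_injective, map_commutator, map_subgroupOf_eq_of_le h1]
    exact h2 hx
  intro d hd
  have h5 : π ⟨d, hN hd⟩ ∈ E := mem_map_of_mem _ hd
  have h6 : (⟨_, h1 h5⟩ : V) ∈ E.subgroupOf V := h5
  rw [h4] at h6
  exact (QuotientGroup.eq_one_iff (N := N.subgroupOf (NN N)) ⟨d, hN hd⟩).1 (congrArg Subtype.val (mem_bot.1 h6))

theorem ker_inv {y a n : X} (f : C1 y →* Out X) (ha : a ∈ C1 y) (hn : n ∈ C1 y) (ho : Odd (orderOf a))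
    (e : n * a * n⁻¹ = a⁻¹) (h : IsCyclic (Out X) ∨ (n * n = 1 ∧ Odd (Nat.card (Out X)))) : f ⟨a, ha⟩ = 1 := by
  have e1 : f ⟨n, hn⟩ * f ⟨a, ha⟩ * (f ⟨n, hn⟩)⁻¹ = (f ⟨a, ha⟩)⁻¹ := by
    rw [← map_inv, ← map_inv, ← map_mul, ← map_mul]
    exact congrArg f (Subtype.ext e)
  have e2 : f ⟨n, hn⟩ * f ⟨a, ha⟩ = f ⟨a, ha⟩ * f ⟨n, hn⟩ := by
    rcases h with h | ⟨h1, h2⟩
    · exact IsCyclic.isMulCommutative.is_comm.comm _ _
    · have k : f ⟨n, hn⟩ ^ 2 = 1 := by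
        rw [← map_pow, show (⟨n, hn⟩ : C1 y) ^ 2 = 1 from Subtype.ext (by simpa [sq] using h1), map_one]
      have : f ⟨n, hn⟩ = 1 := orderOf_eq_one_iff.1 (Nat.eq_one_of_dvd_coprimes
        (Nat.coprime_two_left.2 h2) (orderOf_dvd_of_pow_eq_one k) (orderOf_dvd_natCard _))
      rw [this, one_mul, mul_one]
  rw [e2, mul_inv_cancel_right, eq_inv_iff_mul_eq_one, ← sq] at e1
  refine orderOf_eq_one_iff.1 (Nat.eq_one_of_dvd_coprimes (Nat.coprime_two_left.2 ho)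
    (orderOf_dvd_of_pow_eq_one e1) ?_)
  exact (orderOf_map_dvd f _).trans (orderOf_coe (⟨a, ha⟩ : C1 y)).symm.dvd

theorem ker_perf {H : Type*} [Group H] (f : H →* Out X) (h : IsCyclic (Out X)) {D : Subgroup H} (hD : D ≤ ⁅D, D⁆) :
    D ≤ f.ker := by
  refine hD.trans (commutator_le.2 fun a _ b _ => ?_)
  rw [MonoidHom.mem_ker, map_commutatorElement, commutatorElement_eq_one_iff_mul_comm]
  exact IsCyclic.isMulCommutative.is_comm.comm _ _

theorem ker_four {H : Type*} [Group H] (f : H →* Out X) (h : IsCyclic (Out X)) {a b : H} (ha : a * a = 1)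
    (hb : b * b = 1) : f a = 1 ∨ f b = 1 ∨ f (a * b) = 1 := by
  rw [map_mul]
  exact TrC.cyc_two h (by rw [← map_mul, ha, map_one]) (by rw [← map_mul, hb, map_one])

theorem k1_of_equiv {Y : Type*} [Group Y] [Finite Y] (h : K1 Y) (e : X ≃* Y) : K1 X := by
  intro U β z hz hc h1 h2
  obtain ⟨U', hU⟩ := k0_ex e U
  obtain ⟨u, hu, h3⟩ := h U' (MulAut.congr e β) (e z) ((hU z).2 hz) ((k0_cc e hU).2 hc)
    (by rw [← map_mul, h1, k0_conj]) fun u hu => by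
      obtain ⟨u, rfl⟩ := e.surjective u
      rw [k0_app, ← map_inv, ← map_mul]
      exact ⟨(hU _).2 (h2 u ((hU u).1 hu)).1, (k0_cc e hU).2 (h2 u ((hU u).1 hu)).2⟩
  obtain ⟨u, rfl⟩ := e.surjective u
  exact ⟨u, (hU u).1 hu, (MulAut.congr e).injective (h3.trans (k0_conj e u))⟩

theorem oo_of_inn (h : ∀ β : MulAut X, β * β = 1 → β ∈ Inn X) : OO X := by
  exact fun β h1 h2 => absurd (h β h1) h2

/-- It suffices to check `OO` on representatives of the classes. -/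
theorem oo_of_conj (h : ∀ β : MulAut X, β * β = 1 → β ∉ Inn X → ∃ α : MulAut X, IsConj α β ∧
    ∀ f : fixedSubgroup α →* Out X, ∃ y : fixedSubgroup α, Mv α y ∧ f y = 1) : OO X := by
  intro β h1 h2 f
  obtain ⟨α, hc, k⟩ := h β h1 h2
  obtain ⟨δ, rfl⟩ := isConj_iff.1 hc
  let j : fixedSubgroup α →* fixedSubgroup (δ * α * δ⁻¹) :=
    (δ.toMonoidHom.comp (fixedSubgroup α).subtype).codRestrict _ fun x => by
      change δ (α (δ.symm (δ x))) = δ x
      rw [δ.symm_apply_apply, show α x = x from x.2]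
  obtain ⟨y, h3, h4⟩ := k (f.comp j)
  exact ⟨j y, h3.map δ, h4⟩

theorem hz_of_one {U : Subgroup X} (hU : Syl U ⊤) (h : ∀ v ∈ U ⊓ CC U, NN U ≤ C1 v → v = 1) : HZ X := by
  refine syl_all hU fun g v hv hn => ?_
  rw [CC, centralizer_map_conj, ← map_conj_inf] at hv
  obtain ⟨w, hw, rfl⟩ := hv
  rw [h w hw fun n k => mem_C1.2 ?_, map_one]
  have := hn (show g * n * g⁻¹ ∈ NN (U ^ᶜ g) by rw [NN, normalizer_map_conj]; exact mem_map_of_mem _ k)
  exact (MulAut.conj g).injective ((map_mul _ _ _).trans ((mem_C1.1 this).eq.trans (map_mul _ _ _).symm))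

theorem h2_of_one {U : Subgroup X} (hU : Syl U ⊤)
    (h : ∀ v ∈ U ⊓ CC U, ∀ w ∈ U ⊓ CC U, v ≠ 1 → w ≠ 1 → v = w) : H2 X := by
  refine syl_all hU fun g v hv w hw v1 w1 => ?_
  rw [CC, centralizer_map_conj, ← map_conj_inf] at hv hw
  obtain ⟨v, hv, rfl⟩ := hv
  obtain ⟨w, hw, rfl⟩ := hw
  rw [h v hv w hw (fun k => v1 (by rw [k, map_one])) fun k => w1 (by rw [k, map_one])]

/-- It suffices to check `LE.pw` in one Sylow subgroup. -/
theorem pw_of_one {U : Subgroup X} (hU : Syl U ⊤) {e : ℕ}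
    (h : ∀ w ∈ U, orderOf (w ^ 2 ^ e) = 2 → CTy p (w ^ 2 ^ e)) (w : X) (hw : orderOf (w ^ 2 ^ e) = 2) :
    CTy p (w ^ 2 ^ e) := by
  obtain ⟨k, -, hk⟩ := hU.exists_conj_elt (x := w)
    ⟨e + 1, by rw [pow_succ, pow_mul]; exact orderOf_dvd_iff_pow_eq_one.1 hw.dvd⟩ trivial
  have := (h _ hk (by
    rw [conj_pow]
    exact (orderOf_injective (MulAut.conj k).toMonoidHom (MulAut.conj k).injective _).trans hw)).conj k⁻¹
  rwa [conj_pow, show k⁻¹ * (k * w ^ 2 ^ e * k⁻¹) * k⁻¹⁻¹ = w ^ 2 ^ e by group] at this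

/-- The data of `LW.ety` can be conjugated. -/
theorem wty_conj {y : X} (h : ∀ f : C1 y →* Out X, ∃ W, Syl W (C1 y) ∧ W ≤ Yk p f ∧
    ∀ a ∈ W ⊓ CC W, ∀ b ∈ W ⊓ CC W, orderOf a = 2 → orderOf b = 2 → orderOf (a * b) = 2 →
      Mv (MulAut.conj y) a ∨ Mv (MulAut.conj y) b ∨ Mv (MulAut.conj y) (a * b)) (g : X)
    (f : C1 (g * y * g⁻¹) →* Out X) : ∃ W, Syl W (C1 (g * y * g⁻¹)) ∧ W ≤ Yk p f ∧
    ∀ a ∈ W ⊓ CC W, ∀ b ∈ W ⊓ CC W, orderOf a = 2 → orderOf b = 2 → orderOf (a * b) = 2 →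
      Mv (MulAut.conj (g * y * g⁻¹)) a ∨ Mv (MulAut.conj (g * y * g⁻¹)) b ∨
        Mv (MulAut.conj (g * y * g⁻¹)) (a * b) := by
  obtain ⟨W, h1, h2, h3⟩ := h (f.comp (cjC g y))
  have o : ∀ a, orderOf ((MulAut.conj g).toMonoidHom a) = orderOf a :=
    orderOf_injective (MulAut.conj g).toMonoidHom (MulAut.conj g).injective
  have m : ∀ a, Mv (MulAut.conj y) a → Mv (MulAut.conj (g * y * g⁻¹)) ((MulAut.conj g).toMonoidHom a) :=
    fun a k => (k0_conj (MulAut.conj g) y).symm ▸ k.map (MulAut.conj g)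
  refine ⟨W ^ᶜ g, ?_, (map_mono h2).trans ?_, fun a ha b hb a2 b2 c2 => ?_⟩
  · exact (map_C1 (MulAut.conj g) y) ▸ h1.conj g
  · rw [Yk, MonoidHom.map_closure]
    refine closure_mono ?_
    rintro _ ⟨x, ⟨k, k1, k2⟩, rfl⟩
    exact ⟨(cjC g y ⟨x, k⟩).2, by rw [← map_pow, k1, map_one], k2⟩
  rw [CC, centralizer_map_conj, ← map_conj_inf] at ha hb
  obtain ⟨a, ha, rfl⟩ := ha
  obtain ⟨b, hb, rfl⟩ := hb
  rw [← map_mul] at c2 ⊢
  rw [o] at a2 b2 c2
  exact (h3 a ha b hb a2 b2 c2).imp (m a) (Or.imp (m b) (m _))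

theorem exists_odd_prime {F : Type*} [Field F] [Finite F] [CharP F 2] (h : 2 < Nat.card F) :
    ∃ p : ℕ, p.Prime ∧ p ≠ 2 ∧ ∃ k : Fˣ, orderOf k = p := by
  classical
  have := Fintype.ofFinite F
  obtain ⟨n, -, hn⟩ := FiniteField.card F 2
  rw [Nat.card_eq_fintype_card] at h
  have h1 : Fintype.card Fˣ ≠ 1 := by rw [Fintype.card_units]; omega
  obtain ⟨p, hp, hd⟩ := Nat.exists_prime_and_dvd h1
  have := Fact.mk hp
  refine ⟨p, hp, ?_, exists_prime_orderOf_dvd_card p hd⟩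
  rintro rfl
  have h2 : 2 ∣ Fintype.card F := hn ▸ dvd_pow_self 2 n.ne_zero
  rw [Fintype.card_units] at hd
  omega

end Cfsg.Agent.QS.K
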