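import Mathlib
import Cfsg.Agent.QS.KLa

/-! # S1817, piece QS-KLc: L3(q), outer involutions (proof in stubs/Cfsg/Agent/QS/KPLAN.md) -/

set_option autoImplicit false
set_option linter.unusedSectionVars false
set_option linter.unusedVariables false

namespace Cfsg.Agent.QS.K

open Cfsg Subgroup Cfsg.Agent.GT Cfsg.Agent.Inv Cfsg.Agent.Cmp Cfsg.Agent.QE Cfsg.Agent.QF
open scoped commutatorElement

variable {F : Type} [Field F] [Fintype F] [CharP F 2] {p : ℕ}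

namespace KLc

open Cfsg.Agent.Cl Cfsg.Agent.Cl.Aut Cfsg.Agent.Inv.U3 Matrix

variable (F) in
/-- The outer automorphism given by a semilinear map. -/
noncomputable def ou : GammaL2 (Fin 3) F →* Out (ProjectiveSpecialLinearGroup (Fin 3) F) :=
  (QuotientGroup.mk' _).comp (psiL (Fin 3) F)

theorem ou_surj : Function.Surjective (ou F) :=
  (QuotientGroup.mk'_surjective _).comp (psiL_surjective (ι := Fin 3) (by simp))

theorem ou_one {γ : GammaL2 (Fin 3) F} (h1 : γ.right = 1) (h2 : ou F γ * ou F γ = 1) : ou F γ = 1 := by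
  have e : psiL (Fin 3) F γ = psiD (Fin 3) F γ.left := congrArg _ (SemidirectProduct.ext rfl h1)
  have h3 : ou F γ ^ 3 = 1 := by
    change (QuotientGroup.mk' _ (psiL (Fin 3) F γ)) ^ 3 = 1
    rw [← map_pow, e]
    exact (QuotientGroup.eq_one_iff _).2 (L3a.cube_mem γ.left)
  rwa [pow_succ, pow_two, h2, one_mul] at h3

theorem right_one {γ : GammaL2 (Fin 3) F} (h : ou F γ = 1) : γ.right = 1 := by
  obtain ⟨x, hx⟩ := (QuotientGroup.eq_one_iff _).1 h
  obtain ⟨s, rfl⟩ := QuotientGroup.mk_surjective x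
  have k : psiL (Fin 3) F ((SemidirectProduct.inl (SpecialLinearGroup.toGL s))⁻¹ * γ) = 1 := by
    rw [map_mul, map_inv, psiL_inl_toGL, inv_mul_eq_one]
    exact hx
  obtain ⟨c, hc⟩ := (psiL_eq_one_iff (by simp) _).1 k
  simpa using congrArg SemidirectProduct.right hc

theorem comm_one {a b : Out (ProjectiveSpecialLinearGroup (Fin 3) F)} (h : ⁅a, b⁆ * ⁅a, b⁆ = 1) :
    ⁅a, b⁆ = 1 := by
  obtain ⟨γ, rfl⟩ := ou_surj a
  obtain ⟨δ, rfl⟩ := ou_surj b
  rw [← map_commutatorElement] at h ⊢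
  refine ou_one ?_ h
  have hc : Commute γ.right δ.right := Prod.ext (IsCyclic.commGroup.mul_comm γ.right.1 δ.right.1)
    (mul_comm γ.right.2 δ.right.2)
  change SemidirectProduct.rightHom ⁅γ, δ⁆ = 1
  rw [map_commutatorElement]
  exact commutatorElement_eq_one_iff_commute.2 hc

theorem five (h : 8 ≤ Fintype.card F) (φ : F → Out (ProjectiveSpecialLinearGroup (Fin 3) F))
    (h2 : ∀ s t, φ s * φ t = φ (s + t)) : ∃ u, u ≠ 0 ∧ φ u = 1 := by
  classical
  have h0 : φ 0 = 1 := by simpa using h2 0 0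
  have hs : ∀ s, φ s * φ s = 1 := fun s => by rw [h2, CharTwo.add_self_eq_zero, h0]
  choose γ hγ using fun s => ou_surj (φ s)
  have hr : ∀ s, (γ s).right * (γ s).right = 1 := fun s => right_one (γ := γ s * γ s) (by rw [map_mul, hγ, hs])
  obtain ⟨s, t, hne, he⟩ := Fintype.exists_ne_map_eq_of_card_lt
    (fun s => (decide ((γ s).right.1 = 1), (γ s).right.2)) (by
      have : Fintype.card (Bool × C2) = 4 := by decide
      omega)
  have e2 : (γ s).right.2 = (γ t).right.2 := (Prod.ext_iff.1 he).2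
  have e1 : (γ s).right.1 = (γ t).right.1 := by
    have k : (γ s).right.1 = 1 ↔ (γ t).right.1 = 1 := by simpa using (Prod.ext_iff.1 he).1
    by_cases k1 : (γ s).right.1 = 1
    · rw [k1, k.1 k1]
    · exact ringAut_eq_of_orderOf_two (orderOf_eq_prime ((pow_two _).trans (congrArg Prod.fst (hr s))) k1)
        (orderOf_eq_prime ((pow_two _).trans (congrArg Prod.fst (hr t))) (mt k.2 k1))
  refine ⟨s + t, fun e => hne (by rw [← CharTwo.add_eq_zero]; exact e), ?_⟩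
  have e3 : φ (s + t) = ou F (γ s * γ t) := by rw [map_mul, hγ, hγ, h2]
  rw [e3]
  refine ou_one ?_ (e3 ▸ hs _)
  rw [SemidirectProduct.mul_right, show (γ s).right = (γ t).right from Prod.ext e1 e2, hr]

theorem map_of {γ : GammaL2 (Fin 3) F} {s s' : SpecialLinearGroup (Fin 3) F}
    (h : γ.left * glFG (Fin 3) F γ.right (SpecialLinearGroup.toGL s) = SpecialLinearGroup.toGL s' * γ.left) :
    psiL (Fin 3) F γ (QuotientGroup.mk s) = QuotientGroup.mk s' :=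
  (eq_psiL_iff γ _).1 rfl s s' (congrArg Units.val (eq_mul_inv_of_mul_eq h.symm))

theorem J_map (σ : RingAut F) (x : U3.HQ F) :
    psiL (Fin 3) F ⟨L3b.J F, (σ, c2gen)⟩ (l3u F x) = l3u F ⟨σ x.b, σ x.a, σ x.c + σ x.a * σ x.b⟩ := by
  refine map_of (Units.ext ?_)
  rw [Units.val_mul, Units.val_mul, L3b.m2, L3b.m0]
  ext i j
  fin_cases i <;> fin_cases j <;> simp [L3b.J, Matrix.mul_apply, Fin.sum_univ_three]

theorem one_map (σ : RingAut F) (x : U3.HQ F) :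
    psiL (Fin 3) F (SemidirectProduct.inr (σ, 1)) (l3u F x) = l3u F ⟨σ x.a, σ x.b, σ x.c⟩ := by
  refine map_of (Units.ext ?_)
  rw [SemidirectProduct.left_inr, SemidirectProduct.right_inr, one_mul, mul_one, L3b.m1, L3b.m0]

theorem z_sq (u : F) : (⟨0, 0, u⟩ : U3.HQ F) * ⟨0, 0, u⟩ = 1 := by
  ext <;> simp [CharTwo.add_self_eq_zero]

theorem z_ord {u : F} (hu : u ≠ 0) : orderOf (l3u F ⟨0, 0, u⟩) = 2 := by
  rw [orderOf_injective _ l3u_inj]
  exact orderOf_eq_prime ((pow_two _).trans (z_sq u)) fun e => hu (congrArg U3.HQ.c e)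

/-- The case of a commutator of fixed elements. -/
theorem of_comm {β : MulAut (ProjectiveSpecialLinearGroup (Fin 3) F)} {x y g g' : U3.HQ F}
    (hx : β (l3u F x) = l3u F x) (hy : β (l3u F y) = l3u F y) (hg : β (l3u F g) = l3u F g')
    (e1 : ⁅x, y⁆ = ⟨0, 0, 1⟩) (e2 : g * g'⁻¹ = ⟨0, 0, 1⟩)
    (f : fixedSubgroup β →* Out (ProjectiveSpecialLinearGroup (Fin 3) F)) :
    ∃ y : fixedSubgroup β, Mv β y ∧ f y = 1 := by
  have e : ((⁅(⟨l3u F x, hx⟩ : fixedSubgroup β), ⟨l3u F y, hy⟩⁆ : fixedSubgroup β) :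
      ProjectiveSpecialLinearGroup (Fin 3) F) = l3u F ⟨0, 0, 1⟩ := by
    rw [← e1, map_commutatorElement]
    rfl
  refine ⟨⁅(⟨l3u F x, hx⟩ : fixedSubgroup β), (⟨l3u F y, hy⟩ : fixedSubgroup β)⁆, ⟨by rw [e]; exact z_ord one_ne_zero, l3u F g, ?_⟩, ?_⟩
  · rw [e, hg, ← map_inv, ← map_mul, e2]
  · rw [map_commutatorElement]
    refine comm_one ?_
    rw [← map_commutatorElement, ← map_mul, ← map_one f]
    refine congrArg f (Subtype.ext ?_)
    rw [Subgroup.coe_mul, e, ← map_mul, z_sq, map_one]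
    rfl

end KLc

theorem l3_oo (h : 8 ≤ Fintype.card F) : OO (Matrix.ProjectiveSpecialLinearGroup (Fin 3) F) := by
  refine oo_of_conj fun β h2 hβ => ?_
  obtain ⟨⟨g, σ, ε⟩, rfl⟩ := Cl.Aut.psiL_surjective (ι := Fin 3) (by simp) β
  have s1 : σ * σ = 1 := congrArg Prod.fst (L3b.right_sq h2)
  have a2 := (pow_two _).trans h2
  have cj : ∀ {H : Subgroup (MulAut (Matrix.ProjectiveSpecialLinearGroup (Fin 3) F))} {a b},
      IsConjUnder H a b → IsConj a b := fun ⟨δ, _, e⟩ => isConj_iff.2 ⟨δ, e.symm⟩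
  have z2 : (2 : F) = 0 := CharP.cast_eq_zero F 2
  by_cases hσ : σ = 1
  · subst hσ
    rcases Cl.Aut.c2_cases ε with rfl | rfl
    · exact (hβ (L3b.inn h2 rfl)).elim
    obtain ⟨n, -, hn⟩ := FiniteField.card F 2
    have o2 : ∀ g, Cl.Aut.psiL (Fin 3) F ⟨g, 1, Cl.Aut.c2gen⟩ ^ 2 = 1 →
        orderOf (Cl.Aut.psiL (Fin 3) F ⟨g, 1, Cl.Aut.c2gen⟩) = 2 := fun g e =>
      orderOf_eq_prime e (Cl.Aut.psiL_ne_one_graph (by simp) g 1)
    refine ⟨_, cj (S2699.result hn n.2 le_rfl (m := 1) rfl _ _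
      (Cl.Aut.isGraphAutClassPSL_iff.2 ⟨le_rfl, _, rfl⟩) (o2 _ (L3b.J_sq (mul_one 1)))
      (Cl.Aut.isGraphAutClassPSL_iff.2 ⟨le_rfl, _, rfl⟩) (o2 _ a2)).2, fun f => ?_⟩
    have fx : ∀ u : F, l3u F ⟨0, 0, u⟩ ∈
        fixedSubgroup (Cl.Aut.psiL (Fin 3) F ⟨L3b.J F, 1, Cl.Aut.c2gen⟩) := fun u =>
      (KLc.J_map 1 _).trans (by simp)
    obtain ⟨u, hu, fu⟩ := KLc.five h (fun u => f ⟨_, fx u⟩) fun s t => by
      rw [← map_mul]
      refine congrArg f (Subtype.ext ?_)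
      change l3u F _ * l3u F _ = l3u F _
      rw [← map_mul]
      congr 1
      ext <;> simp
    obtain ⟨s, rfl⟩ := isSquare_of_charTwo' u
    refine ⟨_, ⟨KLc.z_ord hu, l3u F ⟨s, s, 0⟩, ?_⟩, fu⟩
    rw [KLc.J_map, ← map_inv, ← map_mul]
    change l3u F _ = _
    congr 1
    ext <;> simp [CharTwo.neg_eq, CharTwo.add_self_eq_zero]
  have oσ : orderOf σ = 2 := orderOf_eq_prime ((pow_two σ).trans s1) hσ
  have hu := Cl.Aut.uInvol_of_orderOf oσ
  obtain ⟨a, ha⟩ := hu.exists_trace_eq (a := 1) (map_one σ)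
  have za : (⟨0, 0, a⟩ : U3.HQ F) * (⟨0, 0, σ a⟩ : U3.HQ F)⁻¹ = ⟨0, 0, 1⟩ := by
    ext <;> simp [CharTwo.neg_eq]
    exact ha
  rcases Cl.Aut.c2_cases ε with rfl | rfl
  · refine ⟨_, cj (Cl.Aut.isConjUnder_field_psl σ g (by rw [oσ]; exact a2)),
      KLc.of_comm (x := ⟨1, 0, 0⟩) (y := ⟨0, 1, 0⟩) ((KLc.one_map σ _).trans (by simp))
        ((KLc.one_map σ _).trans (by simp)) ((KLc.one_map σ ⟨0, 0, a⟩).trans (by simp)) ?_ za⟩
    rw [commutatorElement_def]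
    ext <;> simp
  · obtain ⟨c, hc⟩ := hu.exists_trace_eq (a := a * σ a) (by
      rw [map_mul, mul_comm]; exact congrArg (· * σ a) (hu.invol a))
    refine ⟨_, cj (Cl.Aut.isConjUnder_trans (Cl.Aut.isConjUnder_symm
      (Cl.Aut.isConjUnder_graphField_psl (n := 3) (by omega) oσ _ (L3b.J_sq s1)))
      (Cl.Aut.isConjUnder_graphField_psl (n := 3) (by omega) oσ g a2)),
      KLc.of_comm (x := ⟨a, σ a, c⟩) (y := ⟨1, 1, a⟩) (L3b.J_fix rfl (hu.invol a) hc)
        (L3b.J_fix (map_one σ) (map_one σ) (ha.trans (mul_one 1).symm))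
        ((KLc.J_map σ ⟨0, 0, a⟩).trans (by simp)) ?_ za⟩
    have ha' : a + σ a = 1 := ha
    rw [commutatorElement_def]
    ext <;> simp
    linear_combination ha' - (σ a) * z2

end Cfsg.Agent.QS.K
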