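import Mathlib
import Cfsg.Agent.QS.KL
import Cfsg.Agent.QS.Main
import Cfsg.Agent.QS.CY

/-! # S1817, piece QS-KMf: the Sp4 machine for the new `GoodG` -/

set_option autoImplicit false
set_option linter.unusedSectionVars false
set_option linter.unusedVariables false

namespace Cfsg.Agent.QS.K

open Cfsg Subgroup Cfsg.Agent.GT Cfsg.Agent.Inv Cfsg.Agent.Cmp Cfsg.Agent.QE Cfsg.Agent.QF
open scoped commutatorElement

universe u

variable {G : Type u} [Group G] [Finite G] {T A B R R' U Z D : Subgroup G} {z y r a x : G} {p : ℕ}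

theorem cw_core (f : FG p A) (c : CG p A) (h : Ip A B y r) :
    ∃ U R, Syl U A ∧ Syl R (CC B ⊓ NN A) ∧ ∀ x ∈ R, x * x = 1 ∧ ∃ u ∈ U ⊓ CC U, x * u⁻¹ ∈ CC A := by
  have : Fact (Nat.Prime 2) := ⟨Nat.prime_two⟩
  have hz := f.zen
  have ng : ∀ v ∈ A, ∀ s ∈ CC B, orderOf s = 2 → s * v⁻¹ ∈ CC A → ¬ GoodG p A v := fun v hv s hs s2 k g =>
    ss_false (h.toPr.ip hz hs s2 hv k) f g
  have ng' : ∀ v ∈ CC B, ¬ GoodG p A v := fun v hv g => ng v g.yA v hv g.y2 (by simp) g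
  obtain ⟨U, hU⟩ : ∃ U, U = A ⊓ C1 y := ⟨_, rfl⟩
  have sU : Syl U A := hU ▸ (c.c1 y h.yA h.y2).resolve_left (ss_false h f)
  have yU : y ∈ U ⊓ CC U := ⟨hU ▸ ⟨h.yA, mem_C1.2 (Commute.refl y)⟩, mem_CC.2 fun k hk => mem_C1.1 (hU ▸ hk).2⟩
  have r2 := h.ord hz
  obtain ⟨T, z, sB⟩ := h.toPr.sdB
  have Ur : U ≤ C1 r := hU ▸ cw_cen h.yA h.ry
  have UB : U ≤ NN B := Ur.trans (sB.cen h.rB r2)
  obtain ⟨R, sR, nR, -, P2⟩ := h.toPr.exists_inv sU.two (le_inf (sU.le.trans le_normalizer) UB)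
  have RB : R ≤ CC B := sR.le.trans inf_le_left
  have RA : R ≤ NN A := sR.le.trans inf_le_right
  have cjU : ∀ x ∈ R, ∀ u ∈ U, x * u * x⁻¹ ∈ U := fun x hx u hu =>
    sU.le_of_le (T := (U ⊔ R) ⊓ A) (P2.to_le inf_le_left) (le_inf le_sup_left sU.le) inf_le_right
      (mem_inf.2 ⟨mul_mem (mul_mem (mem_sup_right hx) (mem_sup_left hu)) (inv_mem (mem_sup_right hx)),
        conj_mem_of_mem_normalizer (RA hx) (sU.le hu)⟩)
  have cmR : ∀ x ∈ R, ∀ u ∈ U, x * u * x⁻¹ * u⁻¹ ∈ R := fun x hx u hu => by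
    have := mul_mem hx (conj_mem_of_mem_normalizer (nR hu) (inv_mem hx))
    rwa [← mul_assoc, ← mul_assoc] at this
  have sq : ∀ x u : G, u ∈ A → x * u⁻¹ ∈ CC A → x * x = x * u⁻¹ * (x * u⁻¹) * (u * u) := fun x u hu k => by
    rw [← (comm_of_CC k hu).mul_mul_mul_comm, inv_mul_cancel_right]
  have s3 : ∀ x ∈ R, x * x = 1 → ∀ u ∈ A, x * u⁻¹ ∈ CC A → u ∈ U ⊓ CC U := fun x hx x2 u hu k => by
    have u2 : u * u = 1 := mem_bot.1 (hz ▸ mem_inf.2 ⟨mul_mem hu hu, by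
      rw [eq_inv_of_mul_eq_one_right ((sq x u hu k).symm.trans x2)]; exact inv_mem (mul_mem k k)⟩)
    have uU : u ∈ U := cw_mem sU hu (mem_normalizer_fintype fun w hw => by
      rw [← In.conj_eq k hu (sU.le hw)]; exact cjU x hx w hw) (Two.of_sq u2)
    refine ⟨uU, by_contra fun hn => ?_⟩
    have u1 : u ≠ 1 := fun e => hn (e ▸ one_mem _)
    have x1 : x ≠ 1 := fun e => hn (centralizer_le sU.le (by simpa [e] using k))
    have xo : orderOf x = 2 := orderOf_eq_prime (by rwa [pow_two]) x1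
    obtain ⟨g, hg, gd⟩ := c.c2 U sU y yU h.y2 (ss_false h f) u uU (orderOf_eq_prime (by rwa [pow_two]) u1)
      (ng u hu x (RB hx) xo k) hn
    have gA : g ∈ A := (sup_le sU.le inf_le_left :) hg
    have gB : g ∈ NN B := (sup_le UB ((cw_cen hu k).trans (sB.cen (RB hx) xo)) :) hg
    refine ng' _ ?_ gd
    rw [mul_assoc g, mul_assoc g, ← In.conj_eq h.ry h.yA (inv_mem gA), ← mul_assoc, ← mul_assoc]
    exact mul_mem (conj_mem_of_mem_normalizer (Frm_NC B gB) h.rB) (inv_mem h.rB)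
  have s0 : ∀ x ∈ R, ∀ u ∈ U, x * u⁻¹ ∈ CC A → u * u = 1 := fun x hx u hu k => by
    by_contra hn
    obtain ⟨v, hv, gd⟩ := c.c3 U sU u hu hn
    refine ng' v (RB ((commutator_le.2 fun a ha w hw => ?_ : _ ≤ R) hv)) gd
    obtain ⟨i, rfl⟩ := mem_zpowers_iff.1 ha
    have e : x ^ i * (u ^ i)⁻¹ ∈ CC A := by
      rw [← inv_mul_cancel_right x u, (comm_of_CC k (sU.le hu)).symm.mul_zpow, mul_inv_cancel_right]
      exact zpow_mem k i
    rw [commutatorElement_def, ← In.conj_eq e (zpow_mem (sU.le hu) i) (sU.le hw)]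
    exact cmR _ (zpow_mem hx i) w hw
  have s5 : ∀ n : ℕ, ∀ x ∈ R, x ^ 2 ^ n = 1 → x * x = 1 ∧ ∃ u ∈ U ⊓ CC U, x * u⁻¹ ∈ CC A := fun n => by
    induction n with
    | zero => exact fun x _ e => ⟨by simp_all, 1, one_mem _, by simp_all⟩
    | succ n ih =>
      intro x hx e
      obtain ⟨-, u1, h1, k1⟩ := ih (x * x) (mul_mem hx hx) (by rwa [← pow_two, ← pow_mul, ← pow_succ'])
      obtain ⟨u, hu, k⟩ := c.k1 U sU x (RA hx) u1 h1 k1 fun w hw => by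
        have dU := mul_mem (cjU x hx w hw) (inv_mem hw)
        have dR := cmR x hx w hw
        exact s3 _ dR (s0 _ dR _ dU (by simp)) _ (sU.le dU) (by simp)
      have x2 : x * x = 1 := h.toPr.two
        (by rw [sq x u (sU.le hu) k, s0 x hx u hu k, mul_one]; exact mul_mem k k) (RB (mul_mem hx hx))
        (Two.of_mem sR.two (mul_mem hx hx))
      exact ⟨x2, u, s3 x hx x2 u (sU.le hu) k, k⟩
  exact ⟨U, R, sU, sR, fun x hx => (Two.of_mem sR.two hx).elim fun n e => s5 n x hx e⟩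

theorem cw (f : FG p A) (c : CG p A) (h : Ip A B y r) (sR' : Syl R' (CC B ⊓ NN A)) :
    ∃ U, Syl U A ∧ ∀ x ∈ R', x * x = 1 ∧ ∃ u ∈ U ⊓ CC U, x * u⁻¹ ∈ CC A := by
  obtain ⟨U, R, sU, sR, k⟩ := cw_core f c h
  obtain ⟨j, hj, hc⟩ := sR.exists_conj sR'.two sR'.le
  have e : A ^ᶜ j⁻¹ = A := map_conj_eq_of_mem_norm (inv_mem hj.2)
  refine ⟨U ^ᶜ j⁻¹, e ▸ sU.conj j⁻¹, fun x hx => ?_⟩
  obtain ⟨x2, u, hu, h1⟩ := k _ (hc x hx)
  refine ⟨by rwa [conj_mul, conj_eq_one_iff] at x2, j⁻¹ * u * j⁻¹⁻¹,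
    ⟨conj_mem_map_conj.2 hu.1, conj_mem_CC _ hu.2⟩, ?_⟩
  have := conj_mem_CC j⁻¹ h1
  rw [e] at this
  convert this using 1
  group

theorem cx7 (cA : CG p A) (cB : CG p B) (hzB : B ⊓ CC B = ⊥) (h : Fr A B R R') (hc : R ≤ CC R')
    (sU : Syl U A) (hel : ∀ x ∈ R, x * x = 1) (hR' : R' ≤ (U ⊓ CC U) ⊔ R) {w : G} (hw : w ∈ R) :
    In B w := by
  obtain ⟨T, z, sB⟩ := h.toPr.sdB
  obtain ⟨g, hg⟩ := h.cj
  have UR : U ≤ CC R := sU.le.trans (le_centralizer_iff.1 h.sR.le)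
  have RU : R ≤ CC U := le_centralizer_iff.1 UR
  have RR : R ≤ CC R := fun a ha => mem_CC.2 fun b hb => by
    have e := inv_eq_of_mul_eq_one_right (hel _ (mul_mem hb ha))
    rw [mul_inv_rev, inv_eq_of_mul_eq_one_right (hel _ ha), inv_eq_of_mul_eq_one_right (hel _ hb)] at e
    exact e.symm
  have QC : U ⊔ R ≤ CC R' := sup_le ((cx1_cc (le_centralizer_iff.1 inf_le_right) UR).trans
    (centralizer_le hR')) hc
  have QR : U ⊔ R ≤ NN R' := QC.trans (CC_le_NN _)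
  have QN : U ⊔ R ≤ NN B := QR.trans (sB.nnR (h.sR'.le.trans inf_le_left) h.sR'.two h.nb)
  have Q2 : IsPGroup 2 ↥(U ⊔ R) := PG.isPGroup_sup_of_le_normalizer sU.two h.sR.two (UR.trans (CC_le_NN _))
  have wQ : U ⊔ R ≤ C1 w := fun a ha => mem_C1.2 (comm_of_CC (cx1_cc RU RR hw) ha)
  obtain ⟨c4, c4'⟩ := cA.c4 U sU
  obtain ⟨D, hD, hi, hin⟩ := o1_idx cB.o1 QN fun x hx => by
    obtain ⟨u, hu, k, hk, rfl⟩ := exists_mul_of_mem_sup (RU.trans (CC_le_NN _)) hx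
    rw [(comm_of_CC (RU hk) hu).symm.mul_mul_mul_comm, hel k hk, mul_one]
    have : ⁅U, U⁆ ≤ cx1I B := commutator_le.2 fun a ha b hb =>
      cB.outc a (QN (mem_sup_left ha)) b (QN (mem_sup_left hb))
    exact this (c4 ▸ mem_inf.2 ⟨mul_mem hu hu, c4' u hu⟩)
  obtain ⟨S, hS, s1, -, s2, -⟩ := sB.exists_syl QN Q2
  have nU : U ⊔ R ≤ NN (S ⊓ B) := fun a ha => mem_normalizer_fintype fun u hu =>
    mem_inf.2 ⟨mul_mem (mul_mem (hS ha) hu.1) (inv_mem (hS ha)), conj_mem_of_mem_normalizer (QN ha) hu.2⟩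
  have key : ∀ x : D, ∃ b ∈ C1 w ⊓ (S ⊓ B), (x : G) * b⁻¹ ∈ R' := fun x => by
    obtain ⟨b, hb, k⟩ := in_syl s2 (h.sylB hc) hzB (hin x x.2) (Two.of_mem Q2 (hD x.2)) (nU (hD x.2))
      (QR (hD x.2))
    refine ⟨b, ⟨?_, hb⟩, k⟩
    have := mul_mem (inv_mem (mem_C1.2 (comm_of_CC (hc hw) k))) (wQ (hD x.2))
    rwa [show ((x : G) * b⁻¹)⁻¹ * x = b by group] at this
  choose f f1 f2 using key
  have n1 : Nat.card D ≤ Nat.card ↥(C1 w ⊓ (S ⊓ B)) * Nat.card R' := by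
    rw [← Nat.card_prod]
    refine Nat.card_le_card_of_injective (fun x => (⟨f x, f1 x⟩, ⟨_, f2 x⟩)) fun x y e => Subtype.ext ?_
    have e1 : f x = f y := congrArg (fun q => (q.1 : G)) e
    have e2 : (x : G) * (f x)⁻¹ = y * (f y)⁻¹ := congrArg (fun q => (q.2 : G)) e
    rwa [e1, mul_left_inj] at e2
  have n2 : Nat.card U * Nat.card R ≤ Nat.card ↥(U ⊔ R) := by
    rw [← Nat.card_prod]
    refine Nat.card_le_card_of_injective
      (fun q => ⟨q.1 * q.2, mul_mem (mem_sup_left q.1.2) (mem_sup_right q.2.2)⟩) fun q q' e => ?_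
    have e1 : (q.1 : G) * q.2 = q'.1 * q'.2 := congrArg Subtype.val e
    have m1 : (q'.1 : G)⁻¹ * q.1 ∈ A := sU.le (mul_mem (inv_mem q'.1.2) q.1.2)
    have m2 : (q'.1 : G)⁻¹ * q.1 ∈ CC A := by
      rw [show (q'.1 : G)⁻¹ * q.1 = q'.2 * (q.2 : G)⁻¹ by
        rw [eq_mul_inv_iff_mul_eq, mul_assoc, e1, inv_mul_cancel_left]]
      exact h.sR.le (mul_mem q'.2.2 (inv_mem q.2.2))
    have m3 : g * ((q'.1 : G)⁻¹ * q.1) * g⁻¹ = 1 :=
      mem_bot.1 (hzB ▸ mem_inf.2 ⟨hg ▸ conj_mem_map_conj.2 m1, hg ▸ conj_mem_CC g m2⟩)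
    have m4 : (q'.1 : G) = q.1 := inv_mul_eq_one.1 (conj_eq_one_iff.1 m3)
    rw [m4, mul_right_inj] at e1
    exact Prod.ext (Subtype.ext m4.symm) (Subtype.ext e1)
  have n3 : Nat.card ↥(S ⊓ B) ≤ Nat.card U := by
    have := (sU.conj g).card_le s2.two (hg ▸ s2.le)
    rwa [card_map_of_injective (MulAut.conj g).injective] at this
  have n4 : Nat.card R = Nat.card R' := (h.iso' hc).elim fun e => Nat.card_congr e.toEquiv
  have n5 := PG.relIndex_mul_card hD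
  have n6 := PG.relIndex_mul_card_inf (C1 w) (S ⊓ B)
  refine cB.ix _ s2 w (QN (mem_sup_right hw)) (nU (mem_sup_right hw)) (hel w hw) ?_
  refine Nat.le_of_mul_le_mul_right (c := Nat.card ↥(C1 w ⊓ (S ⊓ B)) * Nat.card R') ?_
    (Nat.mul_pos Nat.card_pos Nat.card_pos)
  calc _ = Nat.card ↥(S ⊓ B) * Nat.card R := by rw [← mul_assoc, n6, n4]
    _ ≤ Nat.card U * Nat.card R := Nat.mul_le_mul_right _ n3
    _ ≤ _ := n2.trans (n5 ▸ Nat.mul_le_mul hi n1)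

namespace CX

open Cfsg.Agent.QS.CX (in_iff comm_left comm_right)

omit [Finite G] in
theorem comm_in (c : CG p A) (hD : D ≤ NN A) (hx : x ∈ ⁅D, D⁆) : In A x := by
  refine in_iff.2 (commutator_le.2 (fun a ha b hb => ?_) hx)
  exact in_iff.1 (c.outc a (hD ha) b (hD hb))

/-- The symmetric data. -/
structure Dt (p : ℕ) (A B R R' U U' P : Subgroup G) : Prop where
  cA : CG p A
  cB : CG p B
  zA : A ⊓ CC A = ⊥
  zB : B ⊓ CC B = ⊥
  sR : Syl R (CC A)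
  sR' : Syl R' (CC B)
  sU : Syl U A
  sU' : Syl U' B
  two : IsPGroup 2 P
  PR : P ≤ CC R
  PR' : P ≤ CC R'
  PA : P ≤ NN A
  PB : P ≤ NN B
  UP : U ≤ P
  UP' : U' ≤ P

variable {U' P : Subgroup G}

omit [Finite G] in
theorem Dt.symm (d : Dt p A B R R' U U' P) : Dt p B A R' R U' U P :=
  ⟨d.cB, d.cA, d.zB, d.zA, d.sR', d.sR, d.sU', d.sU, d.two, d.PR', d.PR, d.PB, d.PA, d.UP', d.UP⟩

theorem Dt.nU (d : Dt p A B R R' U U' P) : P ≤ NN U := by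
  have h1 : P ⊓ A ≤ U :=
    d.sU.le_of_le (d.two.to_le inf_le_left) (le_inf d.UP d.sU.le) inf_le_right
  intro g hg
  refine mem_normalizer_iff_of_finite.2 fun x hx => h1 (mem_inf.2 ⟨?_, ?_⟩)
  · exact mul_mem (mul_mem hg (d.UP hx)) (inv_mem hg)
  · exact conj_mem_of_mem_normalizer (d.PA hg) (d.sU.le hx)

theorem Dt.inn (d : Dt p A B R R' U U' P) (hx : x ∈ P) (hi : In A x) : ∃ u ∈ U, x * u⁻¹ ∈ R :=
  in_syl d.sU d.sR d.zA hi (Two.of_mem d.two hx) (d.nU hx) (CC_le_NN _ (d.PR hx))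

theorem Dt.cen (d : Dt p A B R R' U U' P) {v : G} (hv : v ∈ U ⊓ CC U) : v ∈ CC U' := by
  obtain ⟨e', sq'⟩ := d.cB.c4 U' d.sU'
  obtain ⟨e, -⟩ := d.cA.c4 U d.sU
  have hA : U' ≤ NN A := d.UP'.trans d.PA
  obtain ⟨D, hD, hi, hin⟩ := o1_idx d.cA.o1 hA fun x hx => comm_in d.cA hA (by
    rw [e']
    exact ⟨mul_mem hx hx, sq' x hx⟩)
  have hvB : In B v := comm_in d.cB (d.UP.trans d.PB) (by rw [e]; exact hv)
  obtain ⟨u', hu', hk'⟩ := d.symm.inn (d.UP hv.1) hvB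
  have hkU : v * u'⁻¹ ∈ CC U' := centralizer_anti d.sU'.le (d.sR'.le hk')
  have hDu : D ≤ C1 u' := fun x hx => by
    obtain ⟨u, hu, hk⟩ := d.inn (d.UP' (hD hx)) (hin x hx)
    have h1 : Commute (x * u⁻¹ * u) v :=
      (comm_of_CC (d.PR (d.UP hv.1)) hk).mul_left (comm_of_CC hv.2 hu)
    rw [inv_mul_cancel_right] at h1
    have h2 := (comm_of_CC hkU (hD hx)).inv_right.mul_right h1
    rw [mul_inv_rev, inv_inv, inv_mul_cancel_right] at h2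
    exact mem_C1.2 h2
  have h3 : u' ∈ CC U' := d.cB.c6 U' d.sU' u' hu'
    ((relIndex_le_of_le_left hDu (index_ne_zero_of_finite)).trans hi)
  have e2 : v = v * u'⁻¹ * u' := by group
  rw [e2]
  exact mul_mem hkU h3

theorem Dt.dec (d : Dt p A B R R' U U' P) (hx : x ∈ U') : ∃ u ∈ U, x * u⁻¹ ∈ R :=
  d.inn (d.UP' hx) (d.cA.c7 U d.sU x (d.PA (d.UP' hx)) (d.nU (d.UP' hx))
    (Two.of_mem d.sU'.two hx) (mem_CC.2 fun v hv => (comm_of_CC (d.cen hv) hx).symm))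

theorem Dt.le (d : Dt p A B R R' U U' P) : U' ⊓ CC U' ≤ U ⊓ CC U := by
  rw [← (d.cA.c4 U d.sU).1, ← (d.cB.c4 U' d.sU').1]
  refine commutator_le.2 fun x hx y hy => ?_
  obtain ⟨u, hu, hk⟩ := d.dec hx
  obtain ⟨v, hv, hl⟩ := d.dec hy
  have h1 := comm_left (comm_of_CC (d.PR (d.UP hu)) hk) (comm_of_CC (d.PR (d.UP' hy)) hk)
  have h2 := comm_right (comm_of_CC (d.PR (d.UP hu)) hl) (comm_of_CC (d.PR (d.UP hv)) hl)
  rw [inv_mul_cancel_right] at h1 h2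
  rw [h1, h2]
  exact commutator_mem_commutator hu hv

end CX

theorem cx (f : FG p A) (cA : CG p A) (cB : CG p B) (h : Ip A B y r) :
    ∃ R R' U U', Fr A B R R' ∧ R ≤ CC R' ∧ (∀ x ∈ R, x * x = 1) ∧ Syl U A ∧ Syl U' B ∧
      U ⊓ CC U = U' ⊓ CC U' ∧ R' ≤ (U ⊓ CC U) ⊔ R ∧ R ≤ (U ⊓ CC U) ⊔ R' := by
  have fB : FG p B := f.of_pr h.toPr
  have r2 := h.ord f.zen
  obtain ⟨R', sR', -, hr, -⟩ := h.toPr.exists_inv (D := zpowers r) (Two.of_two r2).isPGroup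
    (zpowers_le.2 ⟨h.rN, CC_le_NN _ h.rB⟩)
  have hb : R' ≠ ⊥ := by
    rintro rfl
    have h1 : r = 1 := mem_bot.1 (hr ⟨mem_zpowers r, h.rB⟩)
    rw [h1, orderOf_one] at r2
    omega
  obtain ⟨R, fr, -, -⟩ := h.toPr.exists_fr sR' hb sR'.two le_rfl (sR'.le.trans inf_le_right)
  obtain ⟨U, sU, hU⟩ := cw f cA h sR'
  have hc : R ≤ CC R' := fr.p2 f.zen fun x hx _ => by
    obtain ⟨-, u, hu, hk⟩ := hU x hx
    exact ⟨u, sU.le hu.1, hk⟩
  have hR' := CX.half fr f.zen sU.le hU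
  have hel : ∀ x ∈ R, x * x = 1 := fun x hx => by
    obtain ⟨e⟩ := fr.iso' hc
    have h1 : e (⟨x, hx⟩ * ⟨x, hx⟩) = 1 := by
      rw [map_mul]
      exact Subtype.ext (hU _ (e ⟨x, hx⟩).2).1
    exact congrArg Subtype.val (e.injective (h1.trans (map_one e).symm))
  have fs := fr.symm hc
  obtain ⟨w, hw, w2⟩ := exists_inv_of_ne_bot fr.sR.two fs.nb
  obtain ⟨b, hb', hwb⟩ := cx7 cA cB fB.zen fr hc sU hel hR' hw
  obtain ⟨U1, sU1, hU1⟩ := cw fB cB (fs.toPr.ip fB.zen (fr.sR.le hw) w2 hb' hwb) fs.sR'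
  have hR1 := CX.half fs fB.zen sU1.le hU1
  have CA : CC R ≤ NN A := CX.C_le h.sd fr.sR.le fr.sR.two fs.nb
  have CB : CC R' ≤ NN B := CX.C_le fs.sd fs.sR.le fs.sR.two hb
  have UC := CX.le_C sU.le fr.sR.le hR'
  have UC1 : U1 ≤ CC R ⊓ CC R' := by
    rw [inf_comm]
    exact CX.le_C sU1.le fs.sR.le hR1
  obtain ⟨P, UP, sP⟩ := exists_syl_ge sU.two UC
  obtain ⟨c, hcC, hcP⟩ := sP.exists_conj sU1.two UC1
  have sU' : Syl (U1 ^ᶜ c) B := by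
    have h1 := sU1.conj c
    rwa [map_conj_eq_of_mem_norm (CB hcC.2)] at h1
  have d : CX.Dt p A B R R' U (U1 ^ᶜ c) P :=
    ⟨cA, cB, f.zen, fB.zen, fr.sR, fs.sR, sU, sU', sP.two, sP.le.trans inf_le_left,
      sP.le.trans inf_le_right, (sP.le.trans inf_le_left).trans CA,
      (sP.le.trans inf_le_right).trans CB, UP, map_conj_le_iff_forall.2 hcP⟩
  have e := le_antisymm d.symm.le d.le
  refine ⟨R, R', U, U1 ^ᶜ c, fr, hc, hel, sU, sU', e, hR', ?_⟩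
  rw [e]
  have h1 := (map_conj_le_map_conj_iff (g := c)).2 hR1
  rwa [map_conj_sup, map_conj_inf, map_conj_eq_of_mem_norm (CC_le_NN _ hcC.1),
    map_conj_eq_of_mem_norm (CC_le_NN _ hcC.2), ← centralizer_map_conj] at h1

theorem ct_false (f : FG p A) (cA : CG p A) (cB : CG p B) (h : Ip A B y r) : False := by
  obtain ⟨R, R', U, U', fr, hc, hel, sU, sU', hZ, h1, h2⟩ := cx f cA cB h
  obtain ⟨T, z, st⟩ := fr.sd
  have fB := f.of_pr fr.toPr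
  have RK : R ≤ CC A := fr.sR.le
  have RK' : R' ≤ CC B := fr.sR'.le.trans inf_le_left
  have AR : A ≤ CC R := le_centralizer_iff.1 RK
  have BR : B ≤ CC R' := le_centralizer_iff.1 RK'
  have nZ : ∀ n ∈ NN U, n ∈ NN (U ⊓ CC U) := fun n hn => cy_inf hn (cy_cc hn)
  have nZ' : ∀ n ∈ NN U', n ∈ NN (U ⊓ CC U) := fun n hn => hZ ▸ cy_inf hn (cy_cc hn)
  obtain ⟨Ω, odd, -, -, hΩ, tr⟩ := cA.c8 U sU
  obtain ⟨Ω', -, two, hΩ1, hΩ', tr'⟩ := cB.c8 U' sU'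
  have ZA : U ⊓ CC U ≤ A := inf_le_left.trans sU.le
  have ZB : U ⊓ CC U ≤ B := hZ ▸ inf_le_left.trans sU'.le
  rw [← hZ] at hΩ1 hΩ'
  generalize U ⊓ CC U = Z at *
  have hZR : Z ⊓ R = ⊥ := le_bot_iff.1 (f.zen ▸ inf_le_inf ZA RK)
  have hW : Z ⊔ R = Z ⊔ R' := le_antisymm (sup_le le_sup_left h2) (sup_le le_sup_left h1)
  have hR : R ≠ ⊥ := by
    rintro rfl
    obtain ⟨e⟩ := fr.iso' hc
    exact fr.nb (card_eq_one.1 (by rw [← Nat.card_congr e.toEquiv, card_bot]))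
  have ti := fun n (hn : n ∈ NN (Z ⊔ R)) => sig_ti st f.zen fr.sR ZA hn
  have key := sigma (Z := Z) (E := R) (N := NN (Z ⊔ R) ⊓ NN Z) (H := A ⊓ NN U) (Ω := Ω) hZR (ZA.trans AR) hR le_rfl
    (fun n hn => ⟨⟨cy_sup (nZ n hn.2) (CC_le_NN R (AR hn.1)), nZ n hn.2⟩, AR hn.1⟩)
    (fun n hn => (ti n hn.1).2) ?_ tr ?_
  · obtain ⟨S, hD, sS, sT, sA, sK⟩ := st.exists_syl (D := U ⊔ R)
      (sup_le (sU.le.trans le_normalizer) (RK.trans (CC_le_NN A)))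
      (IsPGroup.to_sup_of_normal_right' sU.two fr.sR.two ((sU.le.trans AR).trans (CC_le_NN R)))
    have e1 : S ⊓ A = U := le_antisymm (sU.le_of_le sA.two (le_inf (le_sup_left.trans hD) sU.le) inf_le_right)
      (le_inf (le_sup_left.trans hD) sU.le)
    have e2 : S ⊓ CC A = R := le_antisymm (fr.sR.le_of_le sK.two (le_inf (le_sup_right.trans hD) RK) inf_le_right)
      (le_inf (le_sup_right.trans hD) RK)
    have hS : S ≤ NN R ⊓ (NN (Z ⊔ R) ⊓ NN Z) := fun s hs => by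
      have k1 : s ∈ NN U := e1 ▸ cy_inf (le_normalizer hs) (sS.le hs)
      have k2 : s ∈ NN R := e2 ▸ cy_inf (le_normalizer hs) (cy_cc (sS.le hs))
      exact ⟨k2, cy_sup (nZ s k1) k2, nZ s k1⟩
    refine sT.idx ?_
    rw [← relIndex_mul_relIndex _ _ _ hS le_top, ← relIndex_mul_relIndex _ _ _ inf_le_right le_top,
      inf_relIndex_right, key]
    exact ((odd.add_one.two_dvd).mul_right _).mul_left _
  · intro n hn hn' v hv e he e1 hve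
    have pr : Pr A (A ^ᶜ n) := Pr.of_conj ⟨T, z, st⟩ fun k => hn' ((ti n hn.1).1 k)
    obtain ⟨w, hw, ew⟩ := mem_map_conj_iff_exists.1 hve
    have ip := pr.ip (y := v) (r := v * e) f.zen (ew ▸ conj_mem_CC n (RK hw))
      (cy_two (by rw [← ew, conj_mul, hel w hw]; simp) fun k => e1 (by
        have : e ∈ Z ⊓ R := mem_inf.2 ⟨by rw [eq_inv_of_mul_eq_one_right k]; exact inv_mem hv, he⟩
        rwa [hZR, mem_bot] at this)) (ZA hv)
      (by rw [conj_eq_of_comm (comm_of_CC (RK he) (ZA hv))]; exact RK he)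
    refine (hΩ v hv fun k => ?_).resolve_left (ss_false ip f)
    have := ip.y2
    rw [k, orderOf_one] at this
    exact absurd this (by norm_num)
  · obtain ⟨⟨w, hw⟩, w1⟩ := ne_bot_iff_exists_ne_one.1 hR
    have w1 : w ≠ 1 := fun k => w1 (Subtype.ext k)
    obtain ⟨v, hv, k, hk, rfl⟩ := exists_mul_of_mem_sup (RK'.trans ((centralizer_anti ZB).trans (CC_le_NN Z))) (h2 hw)
    have ip := fr.toPr.symm.ip (y := v) (r := v * k) fB.zen (RK hw) (cy_two (hel _ hw) w1) (ZB hv)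
      (by rw [conj_eq_of_comm (comm_of_CC (RK' hk) (ZB hv))]; exact RK' hk)
    have vΩ : v ∈ Ω' := (hΩ' v hv fun e => by
      have := ip.y2
      rw [e, orderOf_one] at this
      exact absurd this (by norm_num)).resolve_left (ss_false ip fB)
    obtain ⟨v', hv', ne⟩ := Set.exists_ne_of_one_lt_ncard two v
    obtain ⟨n, hn, en⟩ := tr' v vΩ v' hv'
    refine ⟨n, ⟨hW ▸ cy_sup (nZ' n hn.2) (CC_le_NN R' (BR hn.1)), nZ' n hn.2⟩, fun hnR => ne ?_⟩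
    have e : n * (v * k) * n⁻¹ * (v * k)⁻¹ = v' * v⁻¹ := by
      rw [← en, ← conj_mul, conj_eq_of_comm (comm_of_CC (RK' hk) hn.1)]; group
    have : v' * v⁻¹ ∈ Z ⊓ R := mem_inf.2 ⟨mul_mem (hΩ1 v' hv') (inv_mem hv),
      e ▸ mul_mem (conj_mem_of_mem_normalizer hnR hw) (inv_mem hw)⟩
    rwa [hZR, mem_bot, mul_inv_eq_one] at this

end Cfsg.Agent.QS.K
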