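import Mathlib
import Cfsg.Agent.QS.KSa
import Cfsg.Agent.QS.KSc

/-! # S1817, piece QS-KSd: Sp4(q), commutators (proof in stubs/Cfsg/Agent/QS/KPLAN.md) -/

set_option autoImplicit false
set_option linter.unusedSectionVars false
set_option linter.unusedVariables false

namespace Cfsg.Agent.QS.K

open Cfsg Subgroup Cfsg.Agent.GT Cfsg.Agent.Inv Cfsg.Agent.Cmp Cfsg.Agent.QE Cfsg.Agent.QF
open scoped commutatorElement

variable {F : Type} [Field F] [CharP F 2] [Finite F] {p : ℕ}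

namespace KSd

open Cfsg.Agent.SP4 Cfsg.Agent.MF.Tg4
open Cfsg.Agent.Fus.SU (U4)

theorem tor (k : Fˣ) : X 3 (k : F) * X 7 ((k : F)⁻¹) * X 3 (k : F) = dg k k⁻¹ * N 3 := mat_inj (by
  simp only [mat_mul, mat_X, mat_dg, bas_N3]
  simp only [bas_mul, bas_x3, bas_x7, dM]
  simp [CharTwo.add_self_eq_zero])

variable {G : Type*} [Group G] (m : Md F G)

theorem one_add {k : Fˣ} (hk : k ≠ 1) : (1 : F) + k ≠ 0 := fun e =>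
  hk (Units.ext (CharTwo.add_eq_zero.1 e).symm)

theorem c3 {u : G} (hu : u ∈ m.U) (h : u * u ≠ 1) : ∃ v ∈ ⁅zpowers u, m.U⁆, m.Lg v := by
  obtain ⟨x, rfl⟩ := m.sub_ex hu
  obtain ⟨ht, ha⟩ := not_or.1 (mt m.sub_sq.2 h)
  obtain ⟨k, hk⟩ := exists_ne01 m.four
  refine ⟨_, commutator_mem_commutator (mem_zpowers _) (m.sub_jU ⟨k * x.t, k * x.a, 0, 0⟩), ?_⟩
  have e : ⁅x, (⟨k * x.t, k * x.a, 0, 0⟩ : U4 F)⁆ = ⟨0, 0, 0, k * (1 + k) * x.t ^ 2 * x.a⟩ := by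
    have h2 : (2 : F) = 0 := CharTwo.two_eq_zero
    ext <;> simp [commutatorElement_def] <;> grind
  rw [← map_commutatorElement, e, ← m.subJ_2]
  exact Md.lg_x (by decide) (mul_ne_zero (mul_ne_zero (mul_ne_zero k.ne_zero (one_add hk)) (pow_ne_zero 2 ht)) ha)

theorem h_mem {P : Subgroup G} (h3 : ∀ s, m.x 3 s ∈ P) (hn : m.n 3 ∈ P) (k : Fˣ) : m.h k k⁻¹ ∈ P := by
  have h7 : m.x 7 (k : F)⁻¹ ∈ P := by
    have := m.n_x 3 3 (k : F)⁻¹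
    rw [show rf 3 3 = 7 by decide] at this
    exact this ▸ mul_mem (mul_mem hn (h3 _)) (inv_mem hn)
  have e : m.x 3 k * m.x 7 (k : F)⁻¹ * m.x 3 k = m.h k k⁻¹ * m.n 3 := by
    simp only [Md.x, Md.h, Md.n, ← map_mul, tor]
  exact (P.mul_mem_cancel_right hn).1 (e ▸ mul_mem (mul_mem (h3 _) h7) (h3 _))

theorem h_sup {u : G} (hu : u ∈ m.A) (h1 : u ∉ m.Z2) (h2 : ¬ m.Lg u) (k : Fˣ) : m.h k k⁻¹ ∈ m.U ⊔ C1 u := by
  obtain ⟨a, c, e, rfl⟩ := m.mem_A.1 hu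
  have ha : a ≠ 0 := fun k => h1 (m.mem_Z2.2 ⟨c, e, by rw [k, m.x_zero, one_mul]⟩)
  have he : e + c ^ 2 / a ≠ 0 := fun k => h2 (Md.lg_A.2 ⟨by
    rw [CharTwo.add_eq_zero.1 k]; field_simp, .inl ha⟩)
  obtain ⟨l, r, h0, h2⟩ := wt_surj2 (i := 0) (j := 2) (by decide) (by decide) (Units.mk0 a ha) (Units.mk0 _ he)
  have x3 : ∀ s, m.x 3 s ∈ m.U := Md.KC_xU (by decide)
  have e1 : m.x 0 a * m.x 1 c * m.x 2 e =
      m.x 3 (c / a) * m.h l r * (m.x 0 1 * m.x 2 1) * (m.x 3 (c / a) * m.h l r)⁻¹ := by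
    have k0 := m.h_x 0 l r 1
    have k2 := m.h_x 2 l r 1
    rw [h0, mul_one, Units.val_mk0] at k0
    rw [h2, mul_one, Units.val_mk0] at k2
    calc _ = m.x 3 (c / a) * (m.x 0 a * m.x 2 (e + c ^ 2 / a)) * (m.x 3 (c / a))⁻¹ := by
          rw [m.subJ_A, m.subJ_0, m.subJ_2, m.subJ_3, ← map_inv, ← map_mul, ← map_mul, ← map_mul]
          congr 1
          have h2 : (2 : F) = 0 := CharTwo.two_eq_zero
          ext <;> simp <;> field_simp <;> grind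
      _ = _ := by rw [← k0, ← k2]; group
  have e2 : Commute (m.n 3) (m.x 0 1 * m.x 2 1) := by
    have k0 := m.n_x 3 0 1
    have k2 := m.n_x 3 2 1
    rw [show rf 3 0 = 2 by decide] at k0
    rw [show rf 3 2 = 0 by decide] at k2
    rw [Commute, SemiconjBy, ← mul_inv_eq_iff_eq_mul, ← conj_mul, k0, k2]
    exact (m.c2 0 1 1).eq.symm
  have e3 : m.h l r * m.n 3 * (m.h l r)⁻¹ ∈ m.U ⊔ C1 (m.x 0 a * m.x 1 c * m.x 2 e) := by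
    have k : m.x 3 (c / a) * m.h l r * m.n 3 * (m.x 3 (c / a) * m.h l r)⁻¹ ∈ C1 (m.x 0 a * m.x 1 c * m.x 2 e) := by
      rw [e1]
      exact mem_C1.2 (e2.map (MulAut.conj _))
    have := mul_mem (mul_mem (inv_mem (mem_sup_left (x3 (c / a)))) (mem_sup_right (S := m.U) k))
      (mem_sup_left (x3 (c / a)))
    convert this using 1
    group
  have := h_mem m (P := (m.U ⊔ C1 (m.x 0 a * m.x 1 c * m.x 2 e)).comap (MulAut.conj (m.h l r)).toMonoidHom)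
    (fun s => mem_sup_left (S := m.U) (by
      show m.h l r * m.x 3 s * (m.h l r)⁻¹ ∈ _
      rw [m.h_x]; exact x3 _)) e3 k
  rw [mem_comap, MulEquiv.coe_toMonoidHom, MulAut.conj_apply] at this
  rwa [m.h_mul, mul_comm l, mul_comm r, ← m.h_mul, mul_inv_cancel_right] at this

theorem c2A {c u : G} (hc : c ∈ m.Z2) (c1 : c ≠ 1) (c2 : ¬ m.Sh c) (hu : u ∈ m.A) (h1 : u ∉ m.Z2) (h2 : ¬ m.Lg u) :
    ∃ h ∈ m.U ⊔ C1 u, m.Lg (h * c * h⁻¹ * c⁻¹) := by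
  obtain ⟨b, e, rfl⟩ := m.mem_Z2.1 hc
  have he : e ≠ 0 := by
    rintro rfl
    rw [m.x_zero, mul_one] at c1 c2
    exact c2 (Md.sh_x (by decide) fun k => c1 (m.x_eq_one.2 k))
  obtain ⟨k, hk⟩ := exists_ne01 m.four
  refine ⟨_, h_sup m hu h1 h2 k, ?_⟩
  have w1 : wt 1 k k⁻¹ = 1 := mul_inv_cancel k
  have w2 : wt 2 k k⁻¹ = k ^ 2 := rfl
  rw [← conj_mul, m.h_x, m.h_x, w1, w2, Units.val_one, one_mul, mul_inv_rev, m.x_inv, m.x_inv, mul_assoc,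
    ← mul_assoc (m.x 2 _), ← m.x_add, ← (show Commute (m.x 1 b) (m.x 2 _) from m.c1 1 b _).eq, ← mul_assoc, m.x_sq, one_mul]
  refine Md.lg_x (by decide) fun e0 => mul_ne_zero (pow_ne_zero 2 (one_add hk)) he ?_
  rw [← e0, CharTwo.add_sq, Units.val_pow_eq_pow_val]
  ring

theorem c2 {c u : G} (hc : c ∈ m.U ⊓ CC m.U) (c1 : c ≠ 1) (c2 : ¬ (m.Lg c ∨ m.Sh c)) (hu : u ∈ m.U) (u2 : u * u = 1)
    (h1 : u ∉ CC m.U) (h2 : ¬ (m.Lg u ∨ m.Sh u)) :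
    ∃ h ∈ m.U ⊔ C1 u, m.Lg (h * c * h⁻¹ * c⁻¹) ∨ m.Sh (h * c * h⁻¹ * c⁻¹) := by
  have hz := m.cen_U hc.1 hc.2
  have h1' : u ∉ m.Z2 := fun k => h1 (le_centralizer_iff.1 m.U_cen_Z2 k)
  rcases m.inv_U hu u2 with h | h
  · obtain ⟨g, hg, k⟩ := c2A m hz c1 (fun k => c2 (.inr k)) h h1' fun k => h2 (.inl k)
    exact ⟨g, hg, .inl k⟩
  · obtain ⟨g, hg, k⟩ := c2A m.dual (m.dual_Z2 ▸ hz) c1 (fun k => c2 (.inl (Md.dual_sh.1 k))) (m.dual_A ▸ h)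
      (m.dual_Z2 ▸ h1') fun k => h2 (.inr (Md.dual_lg.1 k))
    exact ⟨g, m.dual_U ▸ hg, .inr (Md.dual_lg.1 k)⟩

/-- Every Sylow subgroup belongs to a model with the same classes. -/
theorem ex (h : 4 ≤ Nat.card F) (U : Subgroup (Sp F)) (hU : Syl U ⊤) : ∃ m : Md F (Sp F), m.U = U ∧
    ∀ y, (m.Lg y ∨ m.Sh y) → (m0 h).Lg y ∨ (m0 h).Sh y := by
  refine syl_all (P := fun U => ∃ m : Md F (Sp F), m.U = U ∧
    ∀ y, (m.Lg y ∨ m.Sh y) → (m0 h).Lg y ∨ (m0 h).Sh y) (sp_syl h) (fun g => ?_) U hU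
  refine ⟨(m0 h).cnj g, (m0 h).cnj_U g, ?_⟩
  rintro _ (⟨l, -, a, ha, rfl⟩ | ⟨l, -, a, ha, rfl⟩)
  · exact .inl ⟨l * g, ⟨_, rfl⟩, a, ha, by rw [Md.cnj_x]; group⟩
  · exact .inr ⟨l * g, ⟨_, rfl⟩, a, ha, by rw [Md.cnj_x]; group⟩

end KSd

theorem sp_c2 (h : 4 ≤ Nat.card F) (hg : ∀ y, (m0 h).Lg y ∨ (m0 h).Sh y → CTy p y) (U : Subgroup (SP4.Sp F)) (hU : Syl U ⊤) :
    ∀ c ∈ U ⊓ CC U, orderOf c = 2 → ¬ CTy p c → ∀ u ∈ U,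
    orderOf u = 2 → ¬ CTy p u → u ∉ CC U → ∃ h ∈ U ⊔ C1 u, CTy p (h * c * h⁻¹ * c⁻¹) := by
  obtain ⟨m, rfl, hm⟩ := KSd.ex h U hU
  intro c hc c2 c3 u hu u2 u3 u4
  obtain ⟨g, k, k'⟩ := KSd.c2 m hc (fun e => by simp [e] at c2) (fun k => c3 (hg _ (hm _ k))) hu
    (by have := pow_orderOf_eq_one u; rwa [u2, sq] at this) u4 fun k => u3 (hg _ (hm _ k))
  exact ⟨g, k, hg _ (hm _ k')⟩

theorem sp_c3 (h : 4 ≤ Nat.card F) (hg : ∀ y, (m0 h).Lg y ∨ (m0 h).Sh y → CTy p y) (U : Subgroup (SP4.Sp F)) (hU : Syl U ⊤) :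
    ∀ u ∈ U, u * u ≠ 1 → ∃ v ∈ ⁅zpowers u, U⁆, CTy p v := by
  obtain ⟨m, rfl, hm⟩ := KSd.ex h U hU
  intro u hu u2
  obtain ⟨v, hv, k⟩ := KSd.c3 m hu u2
  exact ⟨v, hv, hg _ (hm _ (.inl k))⟩

end Cfsg.Agent.QS.K
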